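import Cfsg.Prelude.Def_CaseTheorems
import Cfsg.Prelude.Def_Involutions
import Mathlib.GroupTheory.GroupAction.FixingSubgroup

/-!
# Simple groups in which non-identity elements fix at most four points: interface
-/

set_option autoImplicit false
set_option linter.unusedSectionVars false

namespace CfsgLib.FixityFour

open Subgroup MulAction
open scoped Pointwise

variable {G Ω : Type*} [Group G] [MulAction G Ω]

/-- The standing hypotheses. -/
structure Hyp (G Ω : Type*) [Group G] [MulAction G Ω] : Prop where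
  simple : IsSimpleGroup G
  na : ¬ IsMulCommutative G
  trans : MulAction.IsPretransitive G Ω
  five : 5 ≤ Nat.card Ω
  fix_le : ∀ g : G, g ≠ 1 → (fixedBy Ω g).ncard ≤ 4

/-- Every involution with a fixed point fixes exactly four. -/
def InvFour (G Ω : Type*) [Group G] [MulAction G Ω] : Prop :=
  ∀ g : G, orderOf g = 2 → (fixedBy Ω g).Nonempty → (fixedBy Ω g).ncard = 4

/-- A two-group in its action: at most four fixed points, involutions fix none or four,
and every orbit has length divisible by four. -/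
structure TwoAct (S Ω : Type*) [Group S] [MulAction S Ω] : Prop where
  pGroup : IsPGroup 2 S
  fix_le : ∀ g : S, g ≠ 1 → (fixedBy Ω g).ncard ≤ 4
  invFour : InvFour S Ω
  four_dvd : ∀ ω : Ω, 4 ∣ (stabilizer S ω).index

/-- Two involutions of `S` with fixed points have different fixed point sets. -/
def Mixed (S : Type*) [Group S] (Ω : Type*) [MulAction S Ω] : Prop :=
  ∃ u v : S, orderOf u = 2 ∧ orderOf v = 2 ∧ (fixedBy Ω u).Nonempty ∧ (fixedBy Ω v).Nonempty ∧
    fixedBy Ω u ≠ fixedBy Ω v

/-- The point stabilisers have odd order: no involution fixes a point. -/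
def OddStab (G Ω : Type*) [Group G] [MulAction G Ω] : Prop :=
  ∀ g : G, orderOf g = 2 → fixedBy Ω g = ∅

/-- A strongly three-embedded subgroup, as in the statement. -/
def Se3 (G : Type*) [Group G] : Prop :=
  ∃ H : Subgroup G, H ≠ ⊤ ∧ 3 ∣ Nat.card H ∧
    ∀ g : G, g ∉ H → ¬ 3 ∣ Nat.card ↥(H ⊓ H.map (MulAut.conj g).toMonoidHom)

section Elementary

theorem mem_fixedBy_pow {g : G} {ω : Ω} (h : ω ∈ fixedBy Ω g) (k : ℕ) : ω ∈ fixedBy Ω (g ^ k) := by
  induction k with
  | zero => simp
  | succ n ih =>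
    rw [mem_fixedBy] at h ih ⊢
    rw [pow_succ, mul_smul, h, ih]

theorem smul_fixedBy_of_commute {g c : G} (h : Commute c g) : c • fixedBy Ω g = fixedBy Ω g := by
  ext ω
  rw [Set.mem_smul_set_iff_inv_smul_mem, mem_fixedBy, mem_fixedBy, ← mul_smul,
    ← (h.inv_left).eq, mul_smul, smul_left_cancel_iff]

theorem fixedBy_conj (g c : G) : fixedBy Ω (c * g * c⁻¹) = c • fixedBy Ω g := by
  ext ω
  rw [Set.mem_smul_set_iff_inv_smul_mem, mem_fixedBy, mem_fixedBy, mul_smul, mul_smul,
    smul_eq_iff_eq_inv_smul]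

theorem mem_fixing_fixedBy (g : G) : g ∈ fixingSubgroup G (fixedBy Ω g) :=
  fun ω => ω.2

theorem subset_fixedBy_of_mem_fixing {D : Set Ω} {g : G} (hg : g ∈ fixingSubgroup G D) :
    D ⊆ fixedBy Ω g :=
  fun ω hω => hg ⟨ω, hω⟩

theorem smul_set_eq_of_mem_fixing {D : Set Ω} {g : G} (hg : g ∈ fixingSubgroup G D) :
    g • D = D := by
  ext ω
  constructor
  · rintro ⟨x, hx, rfl⟩
    have h : g • x = x := hg ⟨x, hx⟩
    show g • x ∈ D
    rw [h]; exact hx
  · exact fun hω => ⟨ω, hω, hg ⟨ω, hω⟩⟩

theorem fixingSubgroup_le_stabilizer (D : Set Ω) : fixingSubgroup G D ≤ stabilizer G D :=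
  fun _ hg => smul_set_eq_of_mem_fixing hg

/-- An element fixing the four-point set `D` pointwise and one further point is trivial. -/
theorem eq_one_of_fix_more [Finite Ω] (hfix : ∀ g : G, g ≠ 1 → (fixedBy Ω g).ncard ≤ 4)
    {D : Set Ω} (hD : D.ncard = 4) {g : G} (hg : g ∈ fixingSubgroup G D) {ω : Ω} (hω : ω ∉ D)
    (hgω : g • ω = ω) : g = 1 := by
  by_contra hne
  have hsub : insert ω D ⊆ fixedBy Ω g :=
    Set.insert_subset hgω (subset_fixedBy_of_mem_fixing hg)
  have := (Set.ncard_le_ncard hsub (Set.toFinite _)).trans (hfix g hne)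
  rw [Set.ncard_insert_of_notMem hω (Set.toFinite _), hD] at this
  omega

end Elementary

end CfsgLib.FixityFour
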