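import Cfsg.Agent.Lib.FixityFour.FreeRank
import Cfsg.Agent.S1232
import Cfsg.Agent.S1234

/-!
# Fixity four: a normal elementary abelian subgroup of order eight without fixed points

The two-group has sectional rank at most four.
-/

set_option autoImplicit false
set_option linter.unusedSectionVars false

namespace CfsgLib.FixityFour

open Subgroup MulAction
open scoped commutatorElement

namespace Free.Cfg

variable {S Ω : Type*} [Group S] [Finite S] [MulAction S Ω] [Finite Ω] (C : Free.Cfg S Ω)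

theorem isCommutative_cent (x y : S) (hx : x ∈ C.W ⊓ centralizer ({C.t} : Set S))
    (hy : y ∈ C.W ⊓ centralizer ({C.t} : Set S)) : Commute x y ∧ x * x = 1 := by
  obtain ⟨v, hv, r, hr, rfl⟩ := C.exists_V_mul_R (mem_centralizer_singleton_iff.1 hx.2) hx.1
  obtain ⟨v', hv', r', hr', rfl⟩ := C.exists_V_mul_R (mem_centralizer_singleton_iff.1 hy.2) hy.1
  have hvr : ∀ {a b : S}, a ∈ C.V → b ∈ C.R → Commute a b :=
    fun ha hb => C.mem_W.1 (C.mem_R.1 hb).2.1 _ ha
  refine ⟨(Commute.mul_right (C.hEc _ hv.1 _ hv'.1) (hvr hv hr')).mul_left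
    (Commute.mul_right (hvr hv' hr).symm (C.R_comm hr hr')), ?_⟩
  rw [(hvr hv hr).symm.mul_mul_mul_comm, C.V_sq hv, C.R_sq hr, one_mul]

/-- With `R` of order two the involution and `V` generate a self-centralising group of order
eight. -/
theorem rank_of_two (hR : Nat.card C.R = 2) : Cfsg.SectionalPRankLE 2 4 S := by
  set A := C.W ⊓ centralizer ({C.t} : Set S) with hA
  have hcard : Nat.card A = 8 := by rw [hA, C.card_cent_t, hR]
  have hab : IsMulCommutative A :=
    ⟨⟨fun x y => Subtype.ext (C.isCommutative_cent x y x.2 y.2).1.eq⟩⟩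
  refine Cfsg.Agent.S1232.result C.h.pGroup A ⟨hab, fun a ha => ?_⟩ hcard (le_antisymm ?_ ?_)
  · rw [pow_two]; exact (C.isCommutative_cent a a ha ha).2
  · intro g hg
    have h1 : ∀ a ∈ A, Commute a g := Subgroup.mem_centralizer_iff.1 hg
    refine ⟨C.mem_W.2 fun v hv => h1 v ⟨C.V_le_W hv,
      mem_centralizer_singleton_iff.2 (C.mem_V.1 hv).2⟩, mem_centralizer_singleton_iff.2 ?_⟩
    exact (h1 C.t ⟨C.t_mem_W, mem_centralizer_singleton_iff.2 rfl⟩).symm
  · exact fun a ha => Subgroup.mem_centralizer_iff.2 fun b hb =>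
      (C.isCommutative_cent b a hb ha).1.eq

/-- The case of a self-centralising `E` of order eight. -/
theorem rank_of_eight (hR4 : Nat.card C.R = 4) (hY : Nat.card C.Y = 8) :
    Cfsg.SectionalPRankLE 2 4 S := by
  obtain ⟨hW, -⟩ := C.W_decomp hR4
  have hYE : C.Y = C.E := C.Y_eq_E hR4 (le_antisymm (Subgroup.card_le_of_le C.E_le_Y)
    (by rw [hY]; exact C.hE8))
  obtain ⟨x, hx, hxV⟩ := C.exists_not_mem_V
  set A := C.W ⊓ centralizer ({C.t} : Set S) with hA
  have hab : IsMulCommutative A :=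
    ⟨⟨fun a b => Subtype.ext (C.isCommutative_cent a b a.2 b.2).1.eq⟩⟩
  have hVA : C.V ≤ A := fun v hv =>
    ⟨C.V_le_W hv, mem_centralizer_singleton_iff.2 (C.mem_V.1 hv).2⟩
  refine Cfsg.Agent.S1234.result C.h.pGroup C.W A inf_le_left ⟨hab, fun a ha => ?_⟩ ?_ ?_ x ?_ ?_
    ?_ ?_ ?_
  · rw [pow_two]; exact (C.isCommutative_cent a a ha ha).2
  · rw [hA, C.card_cent_t, hR4]
  · rw [hW, hY]
  · exact C.Y_le_W (C.E_le_Y hx)
  · exact fun hxA => hxV (C.mem_V.2 ⟨hx, mem_centralizer_singleton_iff.1 hxA.2⟩)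
  · exact orderOf_eq_prime (by rw [pow_two]; exact C.hE2 x hx) fun h => hxV (h ▸ one_mem _)
  · have heq : A ⊓ centralizer ({x} : Set S) = C.V := by
      refine le_antisymm ?_ fun v hv =>
        ⟨hVA hv, mem_centralizer_singleton_iff.2 (C.hEc _ hv.1 _ hx)⟩
      rintro g ⟨hgA, hgx⟩
      obtain ⟨v, hv, r, hr, rfl⟩ :=
        C.exists_V_mul_R (mem_centralizer_singleton_iff.1 hgA.2) hgA.1
      have h1 : Commute x r := by
        have h2 : Commute x (v * r) := (mem_centralizer_singleton_iff.1 hgx).symm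
        have h3 : Commute x v := C.hEc _ hx _ hv.1
        have := h3.inv_right.mul_right h2
        rwa [inv_mul_cancel_left] at this
      rcases eq_or_ne r 1 with rfl | hr1
      · rwa [mul_one]
      · exact absurd (C.cent_E_R hr hr1 hx h1) hxV
    rw [heq, C.card_V]
  · have hZ : (Subgroup.center C.W).map C.W.subtype = C.V := by
      refine le_antisymm ?_ fun v hv => ⟨⟨v, C.V_le_W hv⟩, Subgroup.mem_center_iff.2 fun w =>
        Subtype.ext (C.mem_W.1 w.2 v hv).eq.symm, rfl⟩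
      rintro g ⟨⟨g, hgW⟩, hgc, rfl⟩
      have hc : ∀ w ∈ C.W, Commute w g := fun w hw =>
        congrArg Subtype.val (Subgroup.mem_center_iff.1 hgc ⟨w, hw⟩)
      have hgE : g ∈ C.E := by
        rw [← hYE]
        exact C.mem_Y.2 fun e he => hc e (C.Y_le_W (C.E_le_Y he))
      exact C.mem_V.2 ⟨hgE, (hc _ C.t_mem_W).symm⟩
    rw [hZ]; rfl

end Free.Cfg

/-- A two-group in such an action with a normal elementary abelian subgroup of order at least
eight without fixed points has sectional rank at most four. -/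
theorem rank_of_free_normal {S Ω : Type*} [Group S] [Finite S] [MulAction S Ω] [Finite Ω]
    (h : TwoAct S Ω) (hm : Mixed S Ω) (E : Subgroup S) (hEn : E.Normal) (hEc : IsMulCommutative E)
    (hE2 : ∀ e ∈ E, e ^ 2 = 1) (hE8 : 8 ≤ Nat.card E)
    (hfree : ∀ e ∈ E, e ≠ 1 → fixedBy Ω e = ∅)
    (hmax : ∀ E' : Subgroup S, E'.Normal → IsMulCommutative E' → (∀ e ∈ E', e ^ 2 = 1) →
      (∀ e ∈ E', e ≠ 1 → fixedBy Ω e = ∅) → E ≤ E' → E' = E) :
    Cfsg.SectionalPRankLE 2 4 S := by
  haveI : Fact (Nat.Prime 2) := ⟨Nat.prime_two⟩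
  obtain ⟨u, -, hu, -, ⟨a, ha⟩, -, -⟩ := hm
  let C : Free.Cfg S Ω :=
    { h := h, E := E, hEn := hEn
      hEc := fun x hx y hy => congrArg Subtype.val (hEc.is_comm.comm ⟨x, hx⟩ ⟨y, hy⟩)
      hE2 := fun e he => by rw [← pow_two]; exact hE2 e he
      hE8 := hE8
      hfree := fun e he ω hω => by
        by_contra he1
        exact Set.eq_empty_iff_forall_notMem.1 (hfree e he he1) ω hω
      t := u, a := a, ht := hu, hta := ha }
  obtain ⟨n, hn⟩ := PGroups.card_subgroup_eq_pow h.pGroup C.R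
  have h4 := C.card_R_le
  have h2 : 2 ≤ Nat.card C.R :=
    (Subgroup.one_lt_card_iff_ne_bot C.R).2 fun hb =>
      C.t_ne (Subgroup.mem_bot.1 (hb ▸ C.t_mem_R))
  rw [hn] at h4 h2
  have hn2 : n ≤ 2 := (Nat.pow_le_pow_iff_right one_lt_two).1 (h4.trans_eq (by norm_num))
  rcases (show Nat.card C.R = 2 ∨ Nat.card C.R = 4 by
    rw [hn]; interval_cases n <;> simp_all) with hR | hR
  · exact C.rank_of_two hR
  · rcases C.card_Y hR with hY | hY
    · exact C.rank_of_eight hR hY
    · exact C.rank_of_sixteen hR hY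

end CfsgLib.FixityFour
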