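import Cfsg.Agent.Lib.Base.Rank

/-!
# The sectional two-rank is attained in a Sylow two-subgroup
-/

set_option autoImplicit false
set_option linter.style.haveILetI false

namespace CfsgLib.FixityFour

/-- A bound for a Sylow two-subgroup bounds the sectional rank of the whole group. -/
theorem sectionalPRankLE_of_sylow {G : Type*} [Group G] [Finite G] (S : Sylow 2 G) {k : ℕ}
    (h : Cfsg.SectionalPRankLE 2 k ↥(S : Subgroup G)) : Cfsg.SectionalPRankLE 2 k G := by
  haveI : Fact (Nat.Prime 2) := ⟨Nat.prime_two⟩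
  intro H N hN A hAc hA2
  set L := A.comap (QuotientGroup.mk' N) with hL
  let ψ : ↥L →* ↥A := ((QuotientGroup.mk' N).comp L.subtype).codRestrict A fun x => x.2
  have hψ : Function.Surjective ψ := by
    rintro ⟨a, ha⟩
    obtain ⟨x, rfl⟩ := QuotientGroup.mk'_surjective N a
    exact ⟨⟨x, ha⟩, rfl⟩
  let Q : Sylow 2 ↥L := default
  have hA : IsPGroup 2 ↥A := fun a => ⟨1, Subtype.ext (by simpa using hA2 _ a.2)⟩
  -- the Sylow subgroup of the preimage surjects
  have hQ : (Q : Subgroup ↥L).map ψ = ⊤ := by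
    rw [← Sylow.coe_mapSurjective hψ Q]
    exact ((Sylow.mapSurjective hψ Q).3 (hA.of_equiv Subgroup.topEquiv.symm) le_top).symm
  -- move it into `S`
  let ι₀ : ↥(Q : Subgroup ↥L) →* G := (H.subtype.comp L.subtype).comp (Q : Subgroup ↥L).subtype
  have hι₀ : Function.Injective ι₀ :=
    (H.subtype_injective.comp L.subtype_injective).comp (Q : Subgroup ↥L).subtype_injective
  obtain ⟨S', hS'⟩ := (Q.2.of_surjective ι₀.rangeRestrict ι₀.rangeRestrict_surjective).exists_le_sylow
  let ι : ↥(Q : Subgroup ↥L) →* ↥(S : Subgroup G) :=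
    (Sylow.equiv S' S).toMonoidHom.comp (ι₀.codRestrict (S' : Subgroup G) fun x => hS' ⟨x, rfl⟩)
  have hι : Function.Injective ι := fun x y hxy => by
    have h' := congrArg Subtype.val ((Sylow.equiv S' S).injective hxy)
    exact hι₀ h'
  let φ : ↥ι.range →* ↥A :=
    (ψ.comp (Q : Subgroup ↥L).subtype).comp (MonoidHom.ofInjective hι).symm.toMonoidHom
  have hφ : Function.Surjective φ := by
    intro a
    obtain ⟨x, hx, rfl⟩ : a ∈ (Q : Subgroup ↥L).map ψ := hQ ▸ Subgroup.mem_top a
    exact ⟨MonoidHom.ofInjective hι ⟨x, hx⟩,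
      congrArg (fun z : ↥(Q : Subgroup ↥L) => ψ z) ((MonoidHom.ofInjective hι).symm_apply_apply _)⟩
  have hr : Cfsg.PRankLE 2 k ↥A :=
    (CfsgLib.Base.pRankLE_congr (QuotientGroup.quotientKerEquivOfSurjective φ hφ)).1 (h ι.range φ.ker)
  have := hr ⊤ ⟨⟨fun a b => Subtype.ext (hAc.is_comm.comm a.1 b.1)⟩⟩
    fun a _ => Subtype.ext (by simpa using hA2 _ a.2)
  rwa [Subgroup.card_top] at this

end CfsgLib.FixityFour
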