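import Cfsg.Agent.Lib.FixityFour.Basic
import Cfsg.Agent.Lib.Techniques.AlperinGoldschmidt
import Cfsg.Agent.Lib.Transfer.Control

/-!
# Fixity four with odd point stabilisers: a central element of order three moved on its fixed set
-/

set_option autoImplicit false
set_option linter.unusedSectionVars false
set_option linter.style.haveILetI false
set_option maxRecDepth 20000

namespace CfsgLib.FixityFour

open Subgroup MulAction
open scoped Pointwise

namespace OddCentralAux

/-- The facts on permutations of the fixed set. -/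
structure PermFacts (n : ℕ) : Prop where
  comm : ∀ σ τ : Equiv.Perm (Fin n), σ ^ 3 = 1 → τ ^ 3 = 1 → σ ≠ 1 → (σ * τ) ^ 3 = 1 →
    (σ * τ * τ) ^ 3 = 1 → τ = 1 ∨ τ = σ ∨ τ = σ * σ
  odd : ∀ σ τ : Equiv.Perm (Fin n), σ ^ 3 = 1 → σ ≠ 1 → Equiv.Perm.sign τ = -1 →
    ∃ ρ ∈ [τ, σ * τ, σ * (σ * τ)], ρ * ρ = 1 ∧ ρ ≠ 1 ∧ ∃ i, ρ i = i
  mul : ∀ σ τ : Equiv.Perm (Fin n), Equiv.Perm.sign σ = 1 → σ * σ = 1 → Equiv.Perm.sign τ = 1 →
    τ * τ = 1 → σ * τ * (σ * τ) = 1
  cube : ∀ σ : Equiv.Perm (Fin n), Equiv.Perm.sign σ = 1 → σ ^ 3 * σ ^ 3 = 1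
  orders : ∀ σ : Equiv.Perm (Fin n), σ ^ 24 = 1
  three : ∀ σ : Equiv.Perm (Fin n), σ ^ 3 = 1 → σ * σ = 1 → σ = 1

set_option synthInstance.maxSize 4000 in
set_option synthInstance.maxHeartbeats 0 in
theorem permFacts_three : PermFacts 3 := by
  constructor <;> decide +kernel

set_option synthInstance.maxSize 4000 in
set_option synthInstance.maxHeartbeats 0 in
theorem permFacts_four : PermFacts 4 := by
  constructor <;> decide +kernel

variable {G Ω : Type*} [Group G] [Finite G] [MulAction G Ω] [Finite Ω]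

theorem pow_red {M : Type*} [Monoid M] {x : M} (n : ℕ) (hx : x ^ 3 = 1) : x ^ n = x ^ (n % 3) :=
  pow_eq_pow_mod n hx

/-- A nontrivial two-element fixes no point when the point stabilisers are odd. -/
theorem two_elt_free (ho : OddStab G Ω) {h : G} {a : ℕ} (h2 : h ^ 2 ^ a = 1) (hne : h ≠ 1) {ω : Ω}
    (hω : h • ω = ω) : False := by
  haveI : Fact (Nat.Prime 2) := ⟨Nat.prime_two⟩
  obtain ⟨b, -, hb⟩ := (Nat.dvd_prime_pow Nat.prime_two).1 (orderOf_dvd_of_pow_eq_one h2)
  rcases b with _ | b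
  · exact hne (orderOf_eq_one_iff.1 (by simpa using hb))
  have hj : orderOf (h ^ 2 ^ b) = 2 := by
    rw [orderOf_pow, hb, Nat.gcd_eq_right (pow_dvd_pow 2 b.le_succ), pow_succ,
      Nat.mul_div_cancel_left _ (pow_pos two_pos b)]
  have hmem : ω ∈ fixedBy Ω (h ^ 2 ^ b) := mem_fixedBy_pow (show ω ∈ fixedBy Ω h from hω) _
  rw [ho _ hj] at hmem
  exact hmem

/-- An element inverting two elements has a power which is a two-element doing the same. -/
theorem exists_two_elt_inverting {h u z : G} (hu : h * u * h⁻¹ = u⁻¹) (hz : h * z * h⁻¹ = z⁻¹) :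
    ∃ k : G, (∃ a : ℕ, k ^ 2 ^ a = 1) ∧ k * u * k⁻¹ = u⁻¹ ∧ k * z * k⁻¹ = z⁻¹ := by
  have key : ∀ w : G, h * w * h⁻¹ = w⁻¹ → ∀ j : ℕ,
      h ^ (2 * j + 1) * w * (h ^ (2 * j + 1))⁻¹ = w⁻¹ := by
    intro w hw j
    have hw' : h * w⁻¹ * h⁻¹ = w := by
      rw [show h * w⁻¹ * h⁻¹ = (h * w * h⁻¹)⁻¹ by group, hw, inv_inv]
    induction j with
    | zero => simpa using hw
    | succ j ih =>
      rw [show 2 * (j + 1) + 1 = 2 + (2 * j + 1) by ring, pow_add,
        show h ^ 2 * h ^ (2 * j + 1) * w * (h ^ 2 * h ^ (2 * j + 1))⁻¹ =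
          h * (h * (h ^ (2 * j + 1) * w * (h ^ (2 * j + 1))⁻¹) * h⁻¹) * h⁻¹ by
        simp only [sq, mul_inv_rev, mul_assoc], ih, hw', hw]
  obtain ⟨a, m, hm, he⟩ :=
    Nat.exists_eq_pow_mul_and_not_dvd (orderOf_pos h).ne' 2 (by norm_num)
  obtain ⟨j, rfl⟩ : Odd m := Nat.not_even_iff_odd.1 (fun e => hm (even_iff_two_dvd.1 e))
  refine ⟨h ^ (2 * j + 1), ⟨a, ?_⟩, key u hu j, key z hz j⟩
  rw [← pow_mul, mul_comm, ← he, pow_orderOf_eq_one]

/-- The permutations induced on a set by its stabiliser. -/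
noncomputable def actOn {n : ℕ} (D : Set Ω) (e : D ≃ Fin n) :
    stabilizer G D →* Equiv.Perm (Fin n) :=
  (e.permCongrHom.toMonoidHom).comp
    { toFun := fun h =>
        { toFun := fun d => ⟨(h : G) • (d : Ω), by
            have h1 := Set.smul_mem_smul_set (a := (h : G)) d.2
            rwa [mem_stabilizer_iff.1 h.2] at h1⟩
          invFun := fun d => ⟨(h : G)⁻¹ • (d : Ω), by
            have h1 := Set.smul_mem_smul_set (a := (h : G)⁻¹) d.2
            rwa [mem_stabilizer_iff.1 (inv_mem h.2)] at h1⟩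
          left_inv := fun d => Subtype.ext (inv_smul_smul _ _)
          right_inv := fun d => Subtype.ext (smul_inv_smul _ _) }
      map_one' := Equiv.ext fun d => Subtype.ext (one_smul G (d : Ω))
      map_mul' := fun a b => Equiv.ext fun d => Subtype.ext (mul_smul (a : G) b (d : Ω)) }

theorem actOn_apply {n : ℕ} (D : Set Ω) (e : D ≃ Fin n) (h : stabilizer G D) (d : D) :
    (e.symm (actOn D e h (e d)) : Ω) = (h : G) • (d : Ω) := by
  simp [actOn, Equiv.permCongrHom, Equiv.permCongr_apply]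

theorem actOn_eq_one {n : ℕ} (D : Set Ω) (e : D ≃ Fin n) (h : stabilizer G D) :
    actOn D e h = 1 ↔ (h : G) ∈ fixingSubgroup G D := by
  constructor
  · intro h1
    rw [mem_fixingSubgroup_iff]
    intro d hd
    have := actOn_apply D e h ⟨d, hd⟩
    rw [h1] at this
    simpa using this.symm
  · intro h1
    refine Equiv.ext fun i => e.symm.injective (Subtype.ext ?_)
    obtain ⟨d, rfl⟩ := e.surjective i
    rw [actOn_apply, Equiv.Perm.one_apply, Equiv.symm_apply_apply]
    exact (mem_fixingSubgroup_iff G).1 h1 d d.2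

theorem actOn_fix {n : ℕ} (D : Set Ω) (e : D ≃ Fin n) (h : stabilizer G D) (i : Fin n)
    (hi : actOn D e h i = i) : (h : G) • ((e.symm i : D) : Ω) = (e.symm i : D) := by
  have := actOn_apply D e h (e.symm i)
  rw [Equiv.apply_symm_apply, hi] at this
  exact this.symm

end OddCentralAux

open OddCentralAux

variable {G Ω : Type*} [Group G] [Finite G] [MulAction G Ω] [FaithfulSMul G Ω] [Finite Ω]

/-- With odd point stabilisers no Sylow three-subgroup moves the fixed points of a central element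
of order three, unless it is elementary of order nine. -/
theorem false_of_central_moved (h : Hyp G Ω) (ho : OddStab G Ω) (P : Sylow 3 G)
    (hP : ¬ (Nat.card P = 9 ∧ ∀ x ∈ (P : Subgroup G), x ^ 3 = 1)) {z : G}
    (hzP : z ∈ (P : Subgroup G)) (hzc : ∀ x ∈ (P : Subgroup G), x * z = z * x)
    (hz : orderOf z = 3) (hzf : 3 ≤ (fixedBy Ω z).ncard)
    (hx : ∃ x ∈ (P : Subgroup G), x ∉ fixingSubgroup G (fixedBy Ω z)) : False := by
  classical
  haveI : Fact (Nat.Prime 3) := ⟨Nat.prime_three⟩
  set D := fixedBy Ω z with hD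
  set H := stabilizer G D with hH
  have hz1 : z ≠ 1 := fun e => by rw [e, orderOf_one] at hz; norm_num at hz
  have hz3 : z ^ 3 = 1 := hz ▸ pow_orderOf_eq_one z
  have hz_inv : z ≠ z⁻¹ := fun e => by
    refine hz1 ?_
    have h2 : z ^ 2 = 1 := by rw [sq]; nth_rewrite 2 [e]; exact mul_inv_cancel z
    rw [← pow_one z, ← Nat.mul_div_cancel_left 1 (show 0 < 2 by norm_num)]
    calc z ^ (2 * 1 / 2) = z ^ 3 * (z ^ 2)⁻¹ := by rw [show 2 * 1 / 2 = 1 from rfl]; group
      _ = 1 := by rw [hz3, h2]; group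
  have hz333 : z * z * z = 1 := by rw [← hz3, pow_succ, sq]
  have hDle : D.ncard ≤ 4 := h.fix_le z hz1
  have hPH : (P : Subgroup G) ≤ H := fun x hxP =>
    mem_stabilizer_iff.2 (smul_fixedBy_of_commute (show Commute x z from hzc x hxP))
  -- the permutations of the fixed set
  obtain ⟨n, hF, ⟨e⟩⟩ : ∃ n, PermFacts n ∧ Nonempty (D ≃ Fin n) := by
    rcases (show D.ncard = 3 ∨ D.ncard = 4 by omega) with hn | hn
    · exact ⟨3, permFacts_three, ⟨(Finite.equivFinOfCardEq (by rw [Nat.card_coe_set_eq, hn]))⟩⟩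
    · exact ⟨4, permFacts_four, ⟨(Finite.equivFinOfCardEq (by rw [Nat.card_coe_set_eq, hn]))⟩⟩
  let φ : H →* Equiv.Perm (Fin n) := actOn D e
  have hφP : ∀ y : H, (y : G) ∈ (P : Subgroup G) → φ y ^ 3 = 1 := fun y hy => by
    obtain ⟨k, hk⟩ := P.isPGroup' ⟨(y : G), hy⟩
    have hk' : y ^ 3 ^ k = 1 := Subtype.ext (by
      simpa using congrArg Subtype.val hk)
    have h1 : φ y ^ Nat.gcd (3 ^ k) 24 = 1 :=
      pow_gcd_eq_one.2 ⟨(by rw [← map_pow, hk', map_one]), hF.orders _⟩
    refine orderOf_dvd_iff_pow_eq_one.1 ((orderOf_dvd_of_pow_eq_one h1).trans ?_)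
    rcases k with _ | k
    · simp
    · have h3 : Nat.gcd (3 ^ (k + 1)) 24 ∣ 3 ^ (k + 1) := Nat.gcd_dvd_left _ _
      obtain ⟨j, -, hj⟩ := (Nat.dvd_prime_pow Nat.prime_three).1 h3
      rw [hj]
      have h4 : 3 ^ j ∣ 24 := hj ▸ Nat.gcd_dvd_right _ _
      rcases j with _ | _ | j
      · simp
      · simp
      · exact absurd ((pow_dvd_pow 3 (show 2 ≤ j + 1 + 1 by omega)).trans h4) (by norm_num)
  -- `P` induces the group generated by any of its elements moving the fixed set
  have hgenP : ∀ w ∈ (P : Subgroup G), w ∉ fixingSubgroup G D → ∀ y ∈ (P : Subgroup G),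
      ∃ i : ℕ, w ^ i * y ∈ fixingSubgroup G D := by
    intro w hw hwK y hy
    let w' : H := ⟨w, hPH hw⟩
    let y' : H := ⟨y, hPH hy⟩
    have hw1 : φ w' ≠ 1 := fun e' => hwK ((actOn_eq_one D e w').1 e')
    have hw3 : φ w' ^ 3 = 1 := hφP w' hw
    have hi : ∀ i : ℕ, φ w' ^ i * φ y' = 1 → w ^ i * y ∈ fixingSubgroup G D := fun i hi =>
      (actOn_eq_one D e (w' ^ i * y')).1 (by
        show φ (w' ^ i * y') = 1
        rw [map_mul, map_pow, hi])
    have hm1 : (φ w' * φ y') ^ 3 = 1 := by
      rw [← map_mul]; exact hφP _ (mul_mem hw hy)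
    have hm2 : (φ w' * φ y' * φ y') ^ 3 = 1 := by
      rw [← map_mul, ← map_mul]; exact hφP _ (mul_mem (mul_mem hw hy) hy)
    rcases hF.comm _ _ hw3 (hφP y' hy) hw1 hm1 hm2 with e' | e' | e'
    · exact ⟨0, hi 0 (by rw [e']; simp)⟩
    · exact ⟨2, hi 2 (by rw [e', ← pow_succ, hw3])⟩
    · exact ⟨1, hi 1 (by rw [e', pow_one, ← sq, ← pow_succ', hw3])⟩
  -- the normalisers of the fusion targets stabilise the fixed set
  have htarget : ∀ Q : Subgroup G, CfsgLib.Techniques.IsFusionTarget P Q →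
      normalizer (Q : Set G) ≤ H := by
    rintro Q ⟨hQP, hCQ, ⟨-, -, hcomm, -, hsup⟩, -⟩ g hg
    have hPcent : ∀ y ∈ (P : Subgroup G), (∀ q ∈ Q, q * y = y * q) → y ∈ Q := by
      intro y hy hyc
      have hyM := hCQ (mem_centralizer_iff.2 hyc)
      rw [← hsup, ← SetLike.mem_coe, coe_mul_of_left_le_normalizer_right _ _
        (le_trans (fun a ha => mem_centralizer_iff.2 fun b hb => (hcomm a ha b hb).symm)
          (centralizer_le_normalizer _))] at hyM
      obtain ⟨o, hoO, q, hq, rfl⟩ := hyM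
      have hoP : o ∈ (P : Subgroup G) := by
        simpa using mul_mem hy (inv_mem (hQP hq))
      obtain ⟨o', ho', rfl⟩ := hoO
      have h1 : o' = 1 := by
        obtain ⟨k, hk⟩ := P.isPGroup' ⟨_, hoP⟩
        have hk' : o' ^ 3 ^ k = 1 := Subtype.ext (by simpa using congrArg Subtype.val hk)
        have h2 : orderOf o' ∣ Nat.card (Cfsg.pPrimeCore 3 ↥(normalizer (Q : Set G))) :=
          Subgroup.orderOf_dvd_natCard _ ho'
        obtain ⟨j, -, hj⟩ := (Nat.dvd_prime_pow Nat.prime_three).1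
          (orderOf_dvd_of_pow_eq_one hk')
        rcases j with _ | j
        · exact orderOf_eq_one_iff.1 (by simpa using hj)
        · exact absurd ((dvd_pow_self 3 j.succ_ne_zero).trans (hj ▸ h2))
            (CfsgLib.Base.not_dvd_card_pPrimeCore 3 _)
      rw [h1]
      simpa using hq
    have hzQ : z ∈ Q := hPcent z hzP fun q hq => hzc q (hQP hq)
    by_contra hgH
    set u := g * z * g⁻¹ with hu
    have huQ : u ∈ Q := (mem_normalizer_iff.1 hg z).1 hzQ
    have huP : u ∈ (P : Subgroup G) := hQP huQ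
    have huc : ∀ q ∈ Q, q * u = u * q := by
      intro q hq
      have hq' : g⁻¹ * q * g ∈ Q := (mem_normalizer_iff''.1 hg q).1 hq
      calc q * u = g * ((g⁻¹ * q * g) * z) * g⁻¹ := by rw [hu]; group
        _ = g * (z * (g⁻¹ * q * g)) * g⁻¹ := by rw [hzc _ (hQP hq')]
        _ = u * q := by rw [hu]; group
    have hu3 : u ^ 3 = 1 := by rw [hu, conj_pow, hz3]; group
    have hu333 : u * u * u = 1 := by rw [← hu3, pow_succ, sq]
    have hou : orderOf u = 3 := by
      rw [hu, ← hz]
      exact orderOf_injective (MulAut.conj g).toMonoidHom (MulEquiv.injective _) z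
    have hFu : fixedBy Ω u = g • D := by rw [hu, fixedBy_conj]
    have huD : ∀ w : Ω, w ∈ g • D ↔ u • w = w := fun w => by rw [← hFu, mem_fixedBy]
    have huK : u ∉ fixingSubgroup G D := fun hk => by
      refine hgH (mem_stabilizer_iff.2 (Eq.symm ?_))
      rw [← hFu]
      refine Set.eq_of_subset_of_ncard_le (subset_fixedBy_of_mem_fixing hk) ?_ (Set.toFinite _)
      rw [hFu, Set.ncard_smul_set]
    -- the centraliser of `u` in `P`
    have hCu : ∀ y ∈ (P : Subgroup G), y * u = u * y → ∃ i j : ℕ, y = u ^ i * z ^ j := by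
      intro y hy hyu
      obtain ⟨i, hi⟩ := hgenP u huP huK y hy
      set k := u ^ i * y with hk
      have hkP : k ∈ (P : Subgroup G) := mul_mem (pow_mem huP i) hy
      have hku : Commute k u := ((Commute.refl u).pow_left i).mul_left hyu
      have hkz : Commute k z := hzc k hkP
      have hzu : Commute z u := (hzc u huP).symm
      have hkgD : ∀ c : G, Commute c u → ∀ w ∈ g • D, c • w ∈ g • D := fun c hc w hw => by
        rw [huD, ← mul_smul, ← hc.eq, mul_smul, (huD w).1 hw]
      obtain ⟨s, hsg, hsD⟩ : ∃ s ∈ g • D, s ∉ D := by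
        by_contra hall
        push Not at hall
        refine hgH (mem_stabilizer_iff.2 (Set.eq_of_subset_of_ncard_le hall ?_ (Set.toFinite _)))
        rw [Set.ncard_smul_set]
      have hzs : z • s ≠ s := fun e' => hsD (show s ∈ fixedBy Ω z from e')
      have hDinv : ∀ c : G, Commute c z → ∀ w, w ∉ D → c • w ∉ D := fun c hc w hw hcw => by
        refine hw (show z • w = w from ?_)
        have h1 : z • c • w = c • w := hcw
        rw [← mul_smul, ← hc.eq, mul_smul] at h1
        exact smul_left_cancel c h1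
      have hs1 : z • s ∈ g • D := hkgD z hzu s hsg
      have hs2 : z • z • s ∈ g • D := hkgD z hzu _ hs1
      have hz3s : z • z • z • s = s := by
        rw [← mul_smul, ← mul_smul, hz333, one_smul]
      have hcase : k • s = s ∨ k • s = z • s ∨ k • s = z • z • s := by
        by_contra hne
        push Not at hne
        obtain ⟨h0, h1, h2⟩ := hne
        have hw : k • s ∈ g • D := hkgD k hku s hsg
        have hw' : z • k • s ∈ g • D := hkgD z hzu _ hw
        have hd12 : z • s ≠ z • z • s := fun e' => hzs (smul_left_cancel z e').symm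
        have hd02 : s ≠ z • z • s := fun e' => hzs (by
          have := congrArg (z • ·) e'
          simp only [hz3s] at this
          exact this)
        have h4 : ({s, z • s, z • z • s, k • s} : Set Ω) = g • D := by
          refine Set.eq_of_subset_of_ncard_le ?_ ?_ (Set.toFinite _)
          · intro w hw0
            simp only [Set.mem_insert_iff, Set.mem_singleton_iff] at hw0
            rcases hw0 with rfl | rfl | rfl | rfl <;> assumption
          · rw [Set.ncard_smul_set]
            refine hDle.trans_eq (Eq.symm ?_)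
            rw [Set.ncard_insert_of_notMem (by simp [hzs.symm, hd02, h0.symm]) (Set.toFinite _),
              Set.ncard_insert_of_notMem (by simp [hd12, h1.symm]) (Set.toFinite _),
              Set.ncard_pair h2.symm]
        rw [← h4] at hw'
        simp only [Set.mem_insert_iff, Set.mem_singleton_iff] at hw'
        rcases hw' with e' | e' | e' | e'
        · refine h2 ?_
          have := congrArg (fun w => z • z • w) e'
          simp only [← mul_smul] at this
          rw [← mul_assoc, ← mul_assoc, hz333, one_mul] at this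
          simpa [mul_smul] using this
        · exact h0 (smul_left_cancel z e')
        · exact h1 (smul_left_cancel z e')
        · exact hDinv k hkz s hsD e'
      obtain ⟨j, hj⟩ : ∃ j : ℕ, z ^ j • k • s = s := by
        rcases hcase with e' | e' | e' <;> rw [e']
        · exact ⟨0, by simp⟩
        · exact ⟨2, by rw [sq, mul_smul, hz3s]⟩
        · exact ⟨1, by rw [pow_one, hz3s]⟩
      have hk1 : z ^ j * k = 1 := by
        by_contra hne
        set c := z ^ j * k with hc
        have hcz : Commute c z := ((Commute.refl z).pow_left j).mul_left hkz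
        have hcD : D ⊆ fixedBy Ω c := by
          intro d hd
          have h1 : z ^ j • d = d := mem_fixedBy_pow (show d ∈ fixedBy Ω z from hd) j
          have h2 : k • d = d := (mem_fixingSubgroup_iff G).1 hi d hd
          show c • d = d
          rw [hc, mul_smul, h2, h1]
        have hcs : c • s = s := by rw [hc, mul_smul, hj]
        have hcs1 : c • z • s = z • s := by rw [← mul_smul, hcz.eq, mul_smul, hcs]
        have hsub : insert s (insert (z • s) D) ⊆ fixedBy Ω c :=
          Set.insert_subset hcs (Set.insert_subset hcs1 hcD)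
        have h5 := (Set.ncard_le_ncard hsub (Set.toFinite _)).trans (h.fix_le c hne)
        rw [Set.ncard_insert_of_notMem (by simp [hzs.symm, hsD]) (Set.toFinite _),
          Set.ncard_insert_of_notMem (hDinv z (Commute.refl z) s hsD) (Set.toFinite _)] at h5
        omega
      refine ⟨2 * i, 2 * j, ?_⟩
      calc y = (u ^ i)⁻¹ * (z ^ j)⁻¹ * (z ^ j * k) := by
            rw [hk]; group
        _ = (u ^ i)⁻¹ * (z ^ j)⁻¹ := by rw [hk1, mul_one]
        _ = u ^ (2 * i) * z ^ (2 * j) := by
            congr 1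
            · refine inv_eq_of_mul_eq_one_right ?_
              rw [← pow_add, show i + 2 * i = 3 * i by ring, pow_mul, hu3, one_pow]
            · refine inv_eq_of_mul_eq_one_right ?_
              rw [← pow_add, show j + 2 * j = 3 * j by ring, pow_mul, hz3, one_pow]
    have hQmem : ∀ {y : G}, y ∈ (P : Subgroup G) → y * u = u * y → y ∈ Q := fun hy hyu => by
      obtain ⟨i, j, rfl⟩ := hCu _ hy hyu
      exact mul_mem (pow_mem huQ i) (pow_mem hzQ j)
    -- `Q` is a proper subgroup of `P`
    obtain ⟨τ, hτP, hτN, hτQ⟩ : ∃ τ ∈ (P : Subgroup G), τ ∈ normalizer (Q : Set G) ∧ τ ∉ Q := by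
      have hne : Q.subgroupOf (P : Subgroup G) ≠ ⊤ := by
        intro htop
        have hle : (P : Subgroup G) ≤ Q := subgroupOf_eq_top.1 htop
        apply hP
        constructor
        · have hPe : (P : Subgroup G) = zpowers u ⊔ zpowers z := by
            refine le_antisymm (fun y hy => ?_) (sup_le (zpowers_le.2 huP) (zpowers_le.2 hzP))
            obtain ⟨i, j, rfl⟩ := hCu y hy (huc y (hle hy))
            exact mul_mem (mem_sup_left (pow_mem (mem_zpowers u) i))
              (mem_sup_right (pow_mem (mem_zpowers z) j))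
          obtain ⟨k, hk⟩ := IsPGroup.iff_card.1 P.isPGroup'
          have hsub : ((P : Subgroup G) : Set G) ⊆
              (fun ij : Fin 3 × Fin 3 => u ^ ij.1.1 * z ^ ij.2.1) '' Set.univ := by
            intro y hy
            obtain ⟨i, j, rfl⟩ := hCu y hy (huc y (hle hy))
            refine ⟨(⟨i % 3, Nat.mod_lt _ (by norm_num)⟩, ⟨j % 3, Nat.mod_lt _ (by norm_num)⟩),
              trivial, ?_⟩
            simp only
            rw [← pow_red i hu3, ← pow_red j hz3]
          have h9 : Nat.card (P : Subgroup G) ≤ 9 := by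
            show Nat.card ((P : Subgroup G) : Set G) ≤ 9
            rw [Nat.card_coe_set_eq]
            refine (Set.ncard_le_ncard hsub (Set.toFinite _)).trans
              ((Set.ncard_image_le (Set.toFinite _)).trans ?_)
            simp [Set.ncard_univ]
          rcases k with _ | _ | _ | k
          · exfalso
            have := Subgroup.eq_bot_of_card_eq (P : Subgroup G) (by simpa using hk)
            exact hz1 (by rwa [this, mem_bot] at hzP)
          · exfalso
            haveI : Fact (Nat.Prime 3) := ⟨Nat.prime_three⟩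
            have hzP' : zpowers z = (P : Subgroup G) :=
              eq_of_le_of_card_ge (zpowers_le.2 hzP) (by rw [Nat.card_zpowers, hz, hk]; norm_num)
            obtain ⟨j, hj⟩ := mem_zpowers_iff.1 (show u ∈ zpowers z from hzP' ▸ huP)
            refine huK ?_
            rw [← hj]
            exact zpow_mem (mem_fixing_fixedBy z) j
          · simpa using hk
          · rw [hk] at h9
            have : 3 ^ 3 ≤ 3 ^ (k + 1 + 1 + 1) := Nat.pow_le_pow_right (by norm_num) (by omega)
            omega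
        · intro y hy
          obtain ⟨i, j, rfl⟩ := hCu y hy (huc y (hle hy))
          rw [((show Commute u z from hzc u huP).pow_pow i j).mul_pow, ← pow_mul, ← pow_mul,
            mul_comm i, mul_comm j, pow_mul, pow_mul, hu3, hz3, one_pow, one_pow, one_mul]
      haveI : Group.IsNilpotent (P : Subgroup G) := P.isPGroup'.isNilpotent
      obtain ⟨τ, hτN, hτQ⟩ := SetLike.exists_of_lt
        (Group.normalizerCondition_of_isNilpotent (Q.subgroupOf (P : Subgroup G))
          (lt_top_iff_ne_top.2 hne))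
      refine ⟨τ, τ.2, mem_normalizer_fintype fun q hq => ?_, hτQ⟩
      exact (mem_normalizer_iff.1 hτN ⟨q, hQP hq⟩).1 hq
    have hτu : τ * u ≠ u * τ := fun e' => hτQ (hQmem hτP e')
    obtain ⟨a, b, hab⟩ := hCu (τ * u * τ⁻¹) (mul_mem (mul_mem hτP huP) (inv_mem hτP))
      (huc _ ((mem_normalizer_iff.1 hτN u).1 huQ))
    have hzu : Commute z u := (hzc u huP).symm
    have hDfix : ∀ j : ℕ, z ^ j ∈ fixingSubgroup G D := fun j => pow_mem (mem_fixing_fixedBy z) j
    have ha : u ^ a = u := by
      -- the induced permutations commute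
      obtain ⟨i, hi⟩ := hgenP u huP huK τ hτP
      have h1 : (u ^ i * τ) * u * (u ^ i * τ)⁻¹ = τ * u * τ⁻¹ := by
        rw [show (u ^ i * τ) * u * (u ^ i * τ)⁻¹ = u ^ i * (τ * u * τ⁻¹) * (u ^ i)⁻¹ by group,
          hab, ((((Commute.refl u).pow_pow i a)).mul_right ((hzu.pow_pow b i).symm)).eq]
        group
      let w' : H := ⟨u, hPH huP⟩
      let k' : H := ⟨u ^ i * τ, hPH (mul_mem (pow_mem huP i) hτP)⟩
      let z' : H := ⟨z, hPH hzP⟩
      have h2 : k' * w' * k'⁻¹ = w' ^ a * z' ^ b := Subtype.ext (by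
        simp only [coe_mul, coe_inv, SubmonoidClass.coe_pow]
        show (u ^ i * τ) * u * (u ^ i * τ)⁻¹ = u ^ a * z ^ b
        rw [h1, hab])
      have h3 := congrArg φ h2
      rw [map_mul, map_mul, map_inv, map_mul, map_pow, map_pow, (actOn_eq_one D e k').2 hi,
        (actOn_eq_one D e z').2 (mem_fixing_fixedBy z), one_mul, inv_one, mul_one, one_pow,
        mul_one] at h3
      have hw1 : φ w' ≠ 1 := fun e' => huK ((actOn_eq_one D e w').1 e')
      have how : orderOf (φ w') = 3 := orderOf_eq_prime (hφP w' huP) hw1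
      have hmod : a % 3 = 1 := by
        have h4 : φ w' ^ a = φ w' ^ 1 := by rw [pow_one]; exact h3.symm
        rw [pow_eq_pow_iff_modEq, how] at h4
        exact h4
      rw [pow_red a hu3, hmod, pow_one]
    rw [ha] at hab
    -- a transvection fixing `z`
    obtain ⟨T, hTN, hTu, hTz⟩ : ∃ T : G, T ∈ normalizer (Q : Set G) ∧ T * u * T⁻¹ = u * z ∧
        T * z * T⁻¹ = z := by
      have hτz : τ * z * τ⁻¹ = z := by rw [hzc τ hτP, mul_inv_cancel_right]
      have hb : z ^ b ≠ 1 := fun e' => hτu (by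
        rw [e', mul_one] at hab
        exact mul_inv_eq_iff_eq_mul.1 hab)
      have hb3 : b % 3 = 1 ∨ b % 3 = 2 := by
        have : b % 3 ≠ 0 := fun e' => hb (by rw [pow_red b hz3, e', pow_zero])
        omega
      rcases hb3 with e' | e'
      · exact ⟨τ, hτN, by rw [hab, pow_red b hz3, e', pow_one], hτz⟩
      · refine ⟨τ * τ, mul_mem hτN hτN, ?_, ?_⟩
        · calc τ * τ * u * (τ * τ)⁻¹ = τ * (τ * u * τ⁻¹) * τ⁻¹ := by group
            _ = τ * (u * z ^ b) * τ⁻¹ := by rw [hab]
            _ = (τ * u * τ⁻¹) * (τ * z ^ b * τ⁻¹) := by group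
            _ = (τ * u * τ⁻¹) * (τ * z * τ⁻¹) ^ b := by rw [conj_pow]
            _ = u * (z ^ b * z ^ b) := by rw [hab, hτz, mul_assoc]
            _ = u * z := by
              rw [← pow_add, pow_red (b + b) hz3, show (b + b) % 3 = 1 by omega, pow_one]
        · rw [show τ * τ * z * (τ * τ)⁻¹ = τ * (τ * z * τ⁻¹) * τ⁻¹ by group, hτz, hτz]
    -- its conjugate, fixing `u`
    obtain ⟨U, hUN, hUu, hUz⟩ : ∃ U : G, U ∈ normalizer (Q : Set G) ∧ U * u * U⁻¹ = u ∧
        U * z * U⁻¹ = z * u := by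
      set U₀ := g * T * g⁻¹ with hU₀
      have hU₀N : U₀ ∈ normalizer (Q : Set G) := mul_mem (mul_mem hg hTN) (inv_mem hg)
      have hU₀u : U₀ * u * U₀⁻¹ = u := by
        calc U₀ * u * U₀⁻¹ = g * (T * z * T⁻¹) * g⁻¹ := by rw [hU₀, hu]; group
          _ = u := by rw [hTz]
      have hq : g⁻¹ * z * g ∈ Q := (mem_normalizer_iff''.1 hg z).1 hzQ
      obtain ⟨c, d, hcd⟩ := hCu _ (hQP hq) (huc _ hq)
      have hU₀z : U₀ * z * U₀⁻¹ = z * u ^ c := by
        calc U₀ * z * U₀⁻¹ = g * (T * (g⁻¹ * z * g) * T⁻¹) * g⁻¹ := by rw [hU₀]; group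
          _ = g * ((T * u * T⁻¹) ^ c * (T * z * T⁻¹) ^ d) * g⁻¹ := by
            rw [hcd, show (T * u * T⁻¹) ^ c = T * u ^ c * T⁻¹ from conj_pow,
              show (T * z * T⁻¹) ^ d = T * z ^ d * T⁻¹ from conj_pow]
            group
          _ = g * (u ^ c * z ^ c * z ^ d) * g⁻¹ := by
            rw [hTu, hTz, (hzu.symm).mul_pow]
          _ = g * (g⁻¹ * z * g * z ^ c) * g⁻¹ := by
            rw [hcd, mul_assoc (u ^ c), ← pow_add, mul_assoc (u ^ c), ← pow_add, add_comm c d]
          _ = z * (g * z * g⁻¹) ^ c := by rw [conj_pow]; group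
          _ = z * u ^ c := by rw [hu]
      have hc3 : c % 3 = 1 ∨ c % 3 = 2 := by
        have : c % 3 ≠ 0 := fun e' => by
          rw [pow_red c hu3, e', pow_zero, one_mul] at hcd
          -- `z` would be a power of `u`
          have h1 : z = u ^ d := by
            calc z = g * (g⁻¹ * z * g) * g⁻¹ := by group
              _ = u ^ d := by rw [hcd, hu, conj_pow]
          have hd3 : d % 3 = 1 ∨ d % 3 = 2 := by
            have : d % 3 ≠ 0 := fun e'' => hz1 (by rw [h1, pow_red d hu3, e'', pow_zero])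
            omega
          refine huK ?_
          rcases hd3 with e'' | e''
          · rw [pow_red d hu3, e'', pow_one] at h1
            exact h1 ▸ mem_fixing_fixedBy z
          · have h2 : u = z ^ 2 := by
              rw [h1, ← pow_mul, pow_red (d * 2) hu3, show d * 2 % 3 = 1 by omega, pow_one]
            rw [h2]
            exact hDfix 2
        omega
      rcases hc3 with e' | e'
      · exact ⟨U₀, hU₀N, hU₀u, by rw [hU₀z, pow_red c hu3, e', pow_one]⟩
      · refine ⟨U₀ * U₀, mul_mem hU₀N hU₀N, ?_, ?_⟩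
        · rw [show U₀ * U₀ * u * (U₀ * U₀)⁻¹ = U₀ * (U₀ * u * U₀⁻¹) * U₀⁻¹ by group, hU₀u, hU₀u]
        · calc U₀ * U₀ * z * (U₀ * U₀)⁻¹ = U₀ * (U₀ * z * U₀⁻¹) * U₀⁻¹ := by group
            _ = U₀ * (z * u ^ c) * U₀⁻¹ := by rw [hU₀z]
            _ = (U₀ * z * U₀⁻¹) * (U₀ * u ^ c * U₀⁻¹) := by group
            _ = (U₀ * z * U₀⁻¹) * (U₀ * u * U₀⁻¹) ^ c := by
              rw [show (U₀ * u * U₀⁻¹) ^ c = U₀ * u ^ c * U₀⁻¹ from conj_pow]
            _ = z * (u ^ c * u ^ c) := by rw [hU₀z, hU₀u, mul_assoc]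
            _ = z * u := by
              rw [← pow_add, pow_red (c + c) hu3, show (c + c) % 3 = 1 by omega, pow_one]
    -- an element inverting `Q`
    set w₀ := T * U⁻¹ * T with hw₀
    have hUu' : U⁻¹ * u * U = u := by
      calc U⁻¹ * u * U = U⁻¹ * (U * u * U⁻¹) * U := by rw [hUu]
        _ = u := by group
    have hUz' : U⁻¹ * z * U = z * u⁻¹ := by
      calc U⁻¹ * z * U = U⁻¹ * ((U * z * U⁻¹) * u⁻¹) * U := by rw [hUz]; group
        _ = z * (U⁻¹ * u⁻¹ * U) := by group
        _ = z * (U⁻¹ * u * U)⁻¹ := by group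
        _ = z * u⁻¹ := by rw [hUu']
    have hwu : w₀ * u * w₀⁻¹ = z := by
      calc w₀ * u * w₀⁻¹ = T * (U⁻¹ * (T * u * T⁻¹) * U) * T⁻¹ := by rw [hw₀]; group
        _ = T * ((U⁻¹ * u * U) * (U⁻¹ * z * U)) * T⁻¹ := by rw [hTu]; group
        _ = T * z * T⁻¹ := by rw [hUu', hUz', show u * (z * u⁻¹) = z by rw [← mul_assoc, ← hzu.eq, mul_inv_cancel_right]]
        _ = z := hTz
    have hwz : w₀ * z * w₀⁻¹ = u⁻¹ := by
      calc w₀ * z * w₀⁻¹ = T * (U⁻¹ * (T * z * T⁻¹) * U) * T⁻¹ := by rw [hw₀]; group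
        _ = T * (U⁻¹ * z * U) * T⁻¹ := by rw [hTz]
        _ = (T * z * T⁻¹) * (T * u * T⁻¹)⁻¹ := by rw [hUz']; group
        _ = z * (u * z)⁻¹ := by rw [hTz, hTu]
        _ = u⁻¹ := by group
    have hhu : w₀ * w₀ * u * (w₀ * w₀)⁻¹ = u⁻¹ := by
      rw [show w₀ * w₀ * u * (w₀ * w₀)⁻¹ = w₀ * (w₀ * u * w₀⁻¹) * w₀⁻¹ by group, hwu, hwz]
    have hhz : w₀ * w₀ * z * (w₀ * w₀)⁻¹ = z⁻¹ := by
      rw [show w₀ * w₀ * z * (w₀ * w₀)⁻¹ = w₀ * (w₀ * z * w₀⁻¹) * w₀⁻¹ by group, hwz,
        show w₀ * u⁻¹ * w₀⁻¹ = (w₀ * u * w₀⁻¹)⁻¹ by group, hwu]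
    obtain ⟨k, ⟨m, hm⟩, hku, hkz⟩ := exists_two_elt_inverting hhu hhz
    have hk1 : k ≠ 1 := fun e' => hz_inv (by rw [e'] at hkz; simpa using hkz)
    have hkD : ∀ d ∈ D, k • d ∈ D := fun d hd => by
      show z • k • d = k • d
      have hzk : z * k = k * z⁻¹ := by
        calc z * k = (k * z * k⁻¹)⁻¹ * k := by rw [hkz, inv_inv]
          _ = k * z⁻¹ := by group
      rw [← mul_smul, hzk, mul_smul, inv_smul_eq_iff.2 (show d = z • d from (Eq.symm hd))]
    have hku' : u * k = k * u⁻¹ := by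
      calc u * k = (k * u * k⁻¹)⁻¹ * k := by rw [hku, inv_inv]
        _ = k * u⁻¹ := by group
    obtain ⟨d, hdD, hud⟩ : ∃ d ∈ D, u • d ≠ d := by
      by_contra hall
      push Not at hall
      exact huK ((mem_fixingSubgroup_iff G).2 hall)
    have huDm : ∀ w ∈ D, u • w ∈ D := fun w hw => by
      show z • u • w = u • w
      rw [← mul_smul, hzu.eq, mul_smul, show z • w = w from hw]
    have hu3d : u • u • u • d = d := by
      rw [← mul_smul, ← mul_smul, hu333, one_smul]
    have huinv : ∀ w : Ω, u • k • w = k • u⁻¹ • w := fun w => by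
      rw [← mul_smul, hku', mul_smul]
    by_cases h0 : k • d = d
    · exact two_elt_free ho hm hk1 h0
    by_cases h1 : k • d = u • d
    · -- the middle point of the orbit is fixed
      refine two_elt_free ho hm hk1 (ω := u • u • d) ?_
      have := congrArg (u • ·) h1
      simp only [huinv] at this
      rwa [show u⁻¹ • d = u • u • d from inv_smul_eq_iff.2 hu3d.symm] at this
    by_cases h2 : k • d = u • u • d
    · refine two_elt_free ho hm hk1 (ω := u • d) ?_
      have := congrArg (fun w => u • u • w) h2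
      simp only [huinv] at this
      rw [show u⁻¹ • u⁻¹ • d = u • d from inv_smul_eq_iff.2 (inv_smul_eq_iff.2 hu3d.symm)] at this
      rw [this, hu3d]
    -- a fourth point of the fixed set
    have hd1 : u • d ≠ u • u • d := fun e' => hud (smul_left_cancel u e').symm
    have hd2 : d ≠ u • u • d := fun e' => hud (by
      have := congrArg (u • ·) e'
      simp only [hu3d] at this
      exact this)
    have h4 : ({d, u • d, u • u • d, k • d} : Set Ω) = D := by
      refine Set.eq_of_subset_of_ncard_le ?_ ?_ (Set.toFinite _)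
      · intro w hw
        simp only [Set.mem_insert_iff, Set.mem_singleton_iff] at hw
        rcases hw with rfl | rfl | rfl | rfl
        · exact hdD
        · exact huDm d hdD
        · exact huDm _ (huDm d hdD)
        · exact hkD d hdD
      · refine hDle.trans_eq (Eq.symm ?_)
        rw [Set.ncard_insert_of_notMem (by simp [hud.symm, hd2, Ne.symm h0]) (Set.toFinite _),
          Set.ncard_insert_of_notMem (by simp [hd1, Ne.symm h1]) (Set.toFinite _),
          Set.ncard_pair (Ne.symm h2)]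
    have hmem : u • k • d ∈ ({d, u • d, u • u • d, k • d} : Set Ω) :=
      h4 ▸ huDm _ (hkD d hdD)
    simp only [Set.mem_insert_iff, Set.mem_singleton_iff] at hmem
    rcases hmem with e' | e' | e' | e'
    · refine h2 ?_
      have := congrArg (fun w => u • u • w) e'
      simp only [← mul_smul] at this
      rw [← mul_assoc, ← mul_assoc, hu333, one_mul] at this
      simpa [mul_smul] using this
    · exact h0 (smul_left_cancel u e')
    · exact h1 (smul_left_cancel u e')
    · rw [huinv, smul_left_cancel_iff, inv_smul_eq_iff] at e'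
      exact hud e'.symm
  -- fusion in `P` is controlled by the stabiliser
  have hchain : ∀ (A : Set G) (l : G), CfsgLib.Techniques.AGChain P A l → l ∈ H := by
    intro A l hl
    induction hl with
    | nil A => exact one_mem _
    | cons Q x hQ hx _ _ ih => exact mul_mem (htarget Q hQ hx) ih
  have hctrl := CfsgLib.Transfer.inf_pResidual_le_of_fusion P hPH fun x hxP g hgx => by
    obtain ⟨c, l, hc, hl, hcl⟩ := CfsgLib.Techniques.agFact P (A := ({x} : Set G)) (g := g⁻¹)
      (Set.singleton_subset_iff.2 hxP) (by rintro a rfl; rwa [inv_inv])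
    refine ⟨l⁻¹, inv_mem (hchain _ _ hl), ?_⟩
    have hcx := mem_centralizer_iff.1 hc x rfl
    rw [inv_inv, show g = l⁻¹ * c⁻¹ by rw [← inv_inv g, hcl, mul_inv_rev]]
    calc l⁻¹ * x * l = l⁻¹ * c⁻¹ * (c * x) * l := by group
      _ = l⁻¹ * c⁻¹ * (x * c) * l := by rw [hcx]
      _ = l⁻¹ * c⁻¹ * x * (l⁻¹ * c⁻¹)⁻¹ := by group
  have hres : Cfsg.pResidual 3 G = ⊤ := by
    haveI := h.simple
    refine (CfsgLib.Transfer.pResidual_normal (G := G) (p := 3)).eq_bot_or_eq_top.resolve_left ?_
    intro hbot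
    have hG3 : IsPGroup 3 G := by
      have h1 := CfsgLib.Transfer.exists_index_pResidual (G := G) (p := 3)
      rw [hbot, Subgroup.index_bot] at h1
      exact IsPGroup.iff_card.2 h1
    haveI : Group.IsNilpotent G := hG3.isNilpotent
    haveI : Nontrivial G := h.simple.toNontrivial
    rcases (inferInstance : (Subgroup.center G).Normal).eq_bot_or_eq_top with hc | hc
    · exact (Subgroup.nontrivial_iff_ne_bot _).1 hG3.center_nontrivial hc
    · exact h.na ⟨⟨fun a b => (Subgroup.mem_center_iff.1 (hc ▸ mem_top a) b).symm⟩⟩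
  obtain ⟨x, hxP, hxK⟩ := hx
  rw [hres, inf_top_eq] at hctrl
  obtain ⟨⟨y, hyH⟩, hyR, rfl⟩ := hctrl hxP
  have hy3 : φ ⟨y, hyH⟩ ^ 3 = 1 := hφP _ hxP
  have hy1 : φ ⟨y, hyH⟩ ≠ 1 := fun e' => hxK ((actOn_eq_one D e _).1 e')
  -- no involution of the image fixes a point
  have hnofix : ∀ w : H, φ w * φ w = 1 → φ w ≠ 1 → ∀ i, φ w i ≠ i := by
    intro w hw2 hw1 i hi
    obtain ⟨a, m, hm, he⟩ :=
      Nat.exists_eq_pow_mul_and_not_dvd (orderOf_pos w).ne' 2 (by norm_num)
    obtain ⟨j, rfl⟩ : Odd m := Nat.not_even_iff_odd.1 (fun e' => hm (even_iff_two_dvd.1 e'))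
    have hwm : φ (w ^ (2 * j + 1)) = φ w := by
      rw [map_pow, pow_succ, pow_mul, sq, hw2, one_pow, one_mul]
    refine two_elt_free ho (h := ((w ^ (2 * j + 1) : H) : G)) (a := a) ?_ ?_
      (actOn_fix D e _ i (hwm.symm ▸ hi))
    · rw [← SubmonoidClass.coe_pow, ← pow_mul, mul_comm, ← he, pow_orderOf_eq_one, coe_one]
    · intro e'
      apply hw1
      rw [← hwm, show w ^ (2 * j + 1) = 1 from Subtype.ext e', map_one]
  have heven : ∀ w : H, Equiv.Perm.sign (φ w) = 1 := by
    intro w
    refine (Int.units_eq_one_or _).resolve_right fun hs => ?_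
    obtain ⟨ρ, hρ, hρ2, hρ1, i, hi⟩ := hF.odd _ _ hy3 hy1 hs
    obtain ⟨w', rfl⟩ : ∃ w' : H, φ w' = ρ := by
      simp only [List.mem_cons, List.not_mem_nil, or_false] at hρ
      rcases hρ with rfl | rfl | rfl
      · exact ⟨w, rfl⟩
      · exact ⟨⟨y, hyH⟩ * w, map_mul φ _ _⟩
      · exact ⟨⟨y, hyH⟩ * (⟨y, hyH⟩ * w), by rw [map_mul, map_mul]⟩
    exact hnofix w' hρ2 hρ1 i hi
  let N : Subgroup H :=
    { carrier := {w | φ w * φ w = 1}
      one_mem' := by simp
      mul_mem' := fun {a b} ha hb => by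
        show φ (a * b) * φ (a * b) = 1
        rw [map_mul]
        exact hF.mul _ _ (heven a) ha (heven b) hb
      inv_mem' := fun {a} ha => by
        show φ a⁻¹ * φ a⁻¹ = 1
        rw [map_inv, ← mul_inv_rev, show φ a * φ a = 1 from ha, inv_one] }
  have hcube : ∀ w : H, w ^ 3 ∈ N := fun w => by
    show φ (w ^ 3) * φ (w ^ 3) = 1
    rw [map_pow]
    exact hF.cube _ (heven w)
  have hle : Cfsg.pResidual 3 H ≤ N := by
    refine (closure_le _).2 fun w hw => ?_
    obtain ⟨j, hj⟩ : ∃ j, w = (w ^ 3) ^ j := by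
      obtain ⟨j, hj⟩ := exists_pow_eq_self_of_coprime (x := w) (n := 3) (Nat.Coprime.symm hw)
      exact ⟨j, hj.symm⟩
    rw [hj]
    exact pow_mem (hcube w) j
  exact hy1 (hF.three _ hy3 (hle hyR))

end CfsgLib.FixityFour
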