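import Cfsg.Agent.Lib.FixityFour.Basic
import Cfsg.Agent.Lib.PGroups.Harada.Count
import Cfsg.Agent.Lib.LocalEven.CentralZ.Basic
import Cfsg.Agent.Lib.Small.Basic

/-!
# Simple groups of fixity four: involutions fixing at most three points
-/

set_option autoImplicit false
set_option linter.unusedSectionVars false
set_option linter.style.haveILetI false

namespace CfsgLib.FixityFour

open Subgroup MulAction
open scoped Pointwise

variable {G Ω : Type*} [Group G] [Finite G] [MulAction G Ω] [Finite Ω]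

theorem Hyp.ncard_le (h : Hyp G Ω) {D : Set Ω} {g : G} (hg : g ∈ fixingSubgroup G D) (hg1 : g ≠ 1) :
    D.ncard ≤ 4 :=
  (Set.ncard_le_ncard (subset_fixedBy_of_mem_fixing hg) (Set.toFinite _)).trans (h.fix_le g hg1)

/-- Involutions are even permutations: the moved points come in double transpositions. -/
theorem Hyp.four_dvd_sub (h : Hyp G Ω) {t : G} (ht : orderOf t = 2) :
    4 ∣ Nat.card Ω - (fixedBy Ω t).ncard := by
  classical
  haveI := h.simple
  letI : Fintype Ω := Fintype.ofFinite Ω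
  set σ := MulAction.toPermHom G Ω t with hσ
  have hσ2 : σ ^ 2 = 1 := by rw [hσ, ← map_pow, ← ht, pow_orderOf_eq_one, map_one]
  have hs := CfsgLib.Small.sign_eq_one h.na (MulAction.toPermHom G Ω) t
  rw [← hσ, Equiv.Perm.sign_of_pow_two_eq_one hσ2] at hs
  have hfix : Fintype.card (Function.fixedPoints σ) = (fixedBy Ω t).ncard := by
    rw [← Nat.card_eq_fintype_card, Nat.card_coe_set_eq]
    rfl
  rw [hfix] at hs
  have hle : (fixedBy Ω t).ncard ≤ Nat.card Ω := Set.ncard_le_card _
  have heven : 2 ∣ Nat.card Ω - (fixedBy Ω t).ncard := by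
    haveI : Fact (Nat.Prime 2) := ⟨Nat.prime_two⟩
    have hP : IsPGroup 2 ↥(zpowers t) := IsPGroup.of_card (n := 1) (by rw [Nat.card_zpowers, ht, pow_one])
    have hm := hP.card_modEq_card_fixedPoints Ω
    have heq : fixedPoints ↥(zpowers t) Ω = fixedBy Ω t := by
      ext ω
      constructor
      · exact fun hω => hω ⟨t, mem_zpowers t⟩
      · rintro hω ⟨y, hy⟩
        obtain ⟨i, rfl⟩ := mem_zpowers_iff.1 hy
        have : ∀ j : ℤ, (t ^ j) • ω = ω := fun j => by
          have hs : t ∈ stabilizer G ω := hω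
          exact zpow_mem hs j
        exact this i
    rw [heq, Nat.card_coe_set_eq] at hm
    exact (Nat.modEq_iff_dvd' hle).1 hm.symm
  obtain ⟨k, hk⟩ := heven
  rw [← Nat.card_eq_fintype_card, hk, Nat.mul_div_cancel_left k two_pos] at hs
  rcases Nat.even_or_odd k with ⟨j, rfl⟩ | hodd
  · exact ⟨j, by omega⟩
  · rw [hodd.neg_one_pow] at hs
    exact absurd hs (by decide)

/-- An invariant set is empty or everything. -/
theorem Hyp.eq_univ_of_invariant (h : Hyp G Ω) {D : Set Ω} (hD : D.Nonempty)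
    (hinv : ∀ g : G, g • D = D) : D = Set.univ := by
  haveI := h.trans
  obtain ⟨a, ha⟩ := hD
  refine Set.eq_univ_of_forall fun b => ?_
  obtain ⟨g, rfl⟩ := exists_smul_eq G a b
  exact hinv g ▸ Set.smul_mem_smul_set ha

theorem Hyp.stabilizer_ne_top (h : Hyp G Ω) {D : Set Ω} (hD : D.Nonempty) (hcard : D.ncard ≤ 4) :
    stabilizer G D ≠ ⊤ := by
  intro htop
  have := h.eq_univ_of_invariant hD fun g => (htop ▸ mem_top g : g ∈ stabilizer G D)
  rw [this, Set.ncard_univ] at hcard
  have := h.five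
  omega

/-- If all involutions of a Sylow two-subgroup fix exactly the same non-empty set, its stabiliser
is strongly embedded. -/
theorem Hyp.stronglyEmbedded_of_uniform (h : Hyp G Ω) (S : Sylow 2 G)
    (hS : (S : Subgroup G) ≠ ⊥) {D : Set Ω} (hne : D.Nonempty)
    (hD : ∀ t ∈ (S : Subgroup G), orderOf t = 2 → fixedBy Ω t = D) :
    Cfsg.IsStronglyEmbedded (stabilizer G D) := by
  obtain ⟨z, hzS, hz, -⟩ := CfsgLib.LocalEven.CentralZ.exists_central_invol S hS
  have hcard : D.ncard ≤ 4 :=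
    hD z hzS hz ▸ h.fix_le z (fun h1 => by rw [h1, orderOf_one] at hz; omega)
  refine CfsgLib.LocalEven.CentralZ.stronglyEmbedded_of S hS (h.stabilizer_ne_top hne hcard) ?_ ?_
  · intro g hg
    rw [mem_stabilizer_iff]
    have h1 : g * z * g⁻¹ ∈ (S : Subgroup G) := (mem_normalizer_iff.1 hg z).1 hzS
    have h2 := hD _ h1 (by
      rw [show g * z * g⁻¹ = MulAut.conj g z from rfl, MulEquiv.orderOf_eq, hz])
    rw [fixedBy_conj, hD z hzS hz] at h2
    exact h2
  · intro t ht ht2 c hc
    rw [mem_stabilizer_iff, ← hD t ht ht2]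
    exact smul_fixedBy_of_commute (mem_centralizer_singleton_iff.1 hc)

theorem quaternion_eq_of_orderOf_two {n : ℕ} [NeZero n] {x : QuaternionGroup n}
    (hx : orderOf x = 2) : x = QuaternionGroup.a n := by
  cases x with
  | xa i => rw [QuaternionGroup.orderOf_xa] at hx; omega
  | a i =>
    have h1 : (QuaternionGroup.a i) ^ 2 = 1 := hx ▸ pow_orderOf_eq_one _
    rw [sq, QuaternionGroup.a_mul_a, QuaternionGroup.one_def] at h1
    have h2 : i + i = 0 := QuaternionGroup.a.inj h1
    have hi : i ≠ 0 := by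
      rintro rfl
      rw [← QuaternionGroup.one_def, orderOf_one] at hx
      omega
    have hv : (2 * n) ∣ i.val + i.val := by
      rw [← ZMod.natCast_eq_zero_iff, Nat.cast_add, ZMod.natCast_zmod_val, h2]
    have hlt : i.val < 2 * n := ZMod.val_lt i
    have hpos : 0 < i.val := Nat.pos_of_ne_zero fun h0 => hi ((ZMod.val_eq_zero i).1 h0)
    obtain ⟨c, hc⟩ := hv
    have hc1 : c = 1 := by
      rcases c with _ | _ | c
      · omega
      · rfl
      · exfalso; nlinarith
    subst hc1
    congr 1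
    rw [← ZMod.natCast_zmod_val i]
    congr 1
    omega

/-- A two-group with two involutions, one of them having centraliser of order four. -/
theorem dihedral_or_quasidihedral {S : Type*} [Group S] [Finite S] (hS : IsPGroup 2 S) {z u : S}
    (hz : orderOf z = 2) (hu : orderOf u = 2) (hzu : z ≠ u) (hc : Commute z u)
    (hC : Nat.card ↥(centralizer ({u} : Set S)) ≤ 4) :
    (∃ n : ℕ, Nonempty (S ≃* DihedralGroup n)) ∨ Cfsg.IsQuasiDihedral S := by
  haveI : Fact (Nat.Prime 2) := ⟨Nat.prime_two⟩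
  set A := centralizer ({u} : Set S) with hA
  have hzA : z ∈ A := mem_centralizer_singleton_iff.2 hc.eq
  have huA : u ∈ A := mem_centralizer_singleton_iff.2 rfl
  have hu1 : u ≠ 1 := fun h => by rw [h, orderOf_one] at hu; omega
  have hz1 : z ≠ 1 := fun h => by rw [h, orderOf_one] at hz; omega
  have h3 : 3 ≤ Nat.card A := CfsgLib.PGroups.Harada.three_le_card hzA huA hz1 hu1 hzu
  obtain ⟨j, hj⟩ := CfsgLib.PGroups.card_subgroup_eq_pow hS A
  have hj2 : j = 2 := by
    have a : j ≤ 2 := (Nat.pow_le_pow_iff_right one_lt_two).1 (hj ▸ hC)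
    by_contra hb
    have : Nat.card A ≤ 2 := hj ▸ (Nat.pow_le_pow_right two_pos (show j ≤ 1 by omega))
    omega
  subst hj2
  have hAab : IsMulCommutative ↥A :=
    IsPGroup.isMulCommutative_of_card_eq_prime_sq (p := 2) (G := ↥A) hj
  have hself : centralizer (A : Set S) = A :=
    le_antisymm (fun x hx => mem_centralizer_singleton_iff.2 (mem_centralizer_iff.1 hx u huA).symm)
      (le_centralizer_iff_isMulCommutative.2 hAab)
  obtain ⟨n, hn⟩ := IsPGroup.iff_card.1 hS
  by_cases hn3 : 3 ≤ n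
  · rcases CfsgLib.PGroups.maximalClass_two_classification hn3 hn
      (CfsgLib.PGroups.maximalClass_of_centralizer_eq hn hj hself) with
      ⟨k, hk⟩ | ⟨k, hk, a, b, ha, hb, hab⟩ | ⟨k, ⟨e⟩⟩
    · exact Or.inl ⟨_, hk⟩
    · exact Or.inr ⟨k + 3, by omega, hk, a, b, ha, hb,
        by rw [show k + 3 - 1 = k + 2 by omega]; exact hab⟩
    · haveI : NeZero (2 ^ (k + 1)) := ⟨pow_ne_zero _ two_ne_zero⟩
      exact absurd (e.injective ((quaternion_eq_of_orderOf_two (by rw [MulEquiv.orderOf_eq, hz])).trans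
        (quaternion_eq_of_orderOf_two (by rw [MulEquiv.orderOf_eq, hu])).symm)) hzu
  · have hn2 : n = 2 := by
      have h4 := Subgroup.card_le_card_group A
      rw [hj, hn] at h4
      have := (Nat.pow_le_pow_iff_right one_lt_two).1 h4
      omega
    subst hn2
    refine Or.inl ⟨2, ⟨?_⟩⟩
    haveI : IsKleinFour S := by
      refine ⟨hn, ?_⟩
      have hcard : Nat.card S = 4 := hn
      have hd : Monoid.exponent S ∣ 2 := by
        rw [Monoid.exponent_dvd_iff_forall_pow_eq_one]
        intro x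
        have hAt : A = ⊤ := Subgroup.eq_top_of_card_eq A (by rw [hj, hn])
        letI : Fintype S := Fintype.ofFinite S
        have hall : ∀ y : S, y = 1 ∨ y = z ∨ y = u ∨ y = z * u := by
          intro y
          by_contra hy
          simp only [not_or] at hy
          classical
          have : ({1, z, u, z * u, y} : Finset S).card ≤ 4 := by
            rw [← hcard, Nat.card_eq_fintype_card]
            exact Finset.card_le_univ _
          have hzu1 : z * u ≠ 1 := fun h => hzu (by
            rw [mul_eq_one_iff_eq_inv] at h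
            rw [h]; exact inv_eq_of_mul_eq_one_right (by rw [← sq, ← hu, pow_orderOf_eq_one]))
          simp [hz1.symm, hu1.symm, hzu, hzu1.symm, Ne.symm hy.1, Ne.symm hy.2.1, Ne.symm hy.2.2.1,
            Ne.symm hy.2.2.2, hu1, hz1] at this
        have hz2 : z ^ 2 = 1 := hz ▸ pow_orderOf_eq_one z
        have hu2 : u ^ 2 = 1 := hu ▸ pow_orderOf_eq_one u
        rcases hall x with rfl | rfl | rfl | rfl
        · exact one_pow 2
        · exact hz2
        · exact hu2
        · rw [hc.mul_pow, hz2, hu2, one_mul]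
      refine ((Nat.dvd_prime Nat.prime_two).1 hd).resolve_left fun h1 => hz1 ?_
      have := Monoid.pow_exponent_eq_one z
      rwa [h1, pow_one] at this
    exact IsKleinFour.nonempty_mulEquiv.some

/-- An element fixing `D` and one more point is trivial, for the two-part of small fixity. -/
theorem eq_one_of_two_elt {f : ℕ} (hinv : ∀ g : G, orderOf g = 2 → (fixedBy Ω g).ncard = f)
    {f' : ℕ} {D : Set Ω} (hD : D.ncard = f') (hf : f' = f) {x : G} {k : ℕ} (hx2 : x ^ 2 ^ k = 1)
    (hx : x ∈ fixingSubgroup G D) {ω : Ω} (hω : ω ∉ D) (hxω : x • ω = ω) : x = 1 := by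
  haveI : Fact (Nat.Prime 2) := ⟨Nat.prime_two⟩
  by_contra hne
  obtain ⟨j, -, hj⟩ := (Nat.dvd_prime_pow Nat.prime_two).1 (orderOf_dvd_of_pow_eq_one hx2)
  rcases Nat.eq_zero_or_pos j with rfl | hj0
  · exact hne (orderOf_eq_one_iff.1 (by rwa [pow_zero] at hj))
  have hw : orderOf (x ^ 2 ^ (j - 1)) = 2 := by
    rw [orderOf_pow, hj, Nat.gcd_eq_right (pow_dvd_pow 2 (Nat.sub_le j 1)),
      Nat.pow_div (Nat.sub_le j 1) two_pos, show j - (j - 1) = 1 by omega, pow_one]
  have hsub : insert ω D ⊆ fixedBy Ω (x ^ 2 ^ (j - 1)) :=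
    Set.insert_subset (mem_fixedBy_pow hxω _)
      fun y hy => mem_fixedBy_pow (subset_fixedBy_of_mem_fixing hx hy) _
  have := Set.ncard_le_ncard hsub (Set.toFinite _)
  rw [Set.ncard_insert_of_notMem hω (Set.toFinite _), hinv _ hw, hD] at this
  omega

/-- The conclusion when involutions fix at most three points. -/
theorem small_f (h : Hyp G Ω) {f : ℕ} (hf1 : 1 ≤ f) (hf3 : f ≤ 3)
    (hmax : ∀ g : G, orderOf g = 2 → (fixedBy Ω g).ncard ≤ f)
    (hex : ∃ g : G, orderOf g = 2 ∧ (fixedBy Ω g).ncard = f) (S : Sylow 2 G) :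
    (∃ H : Subgroup G, Cfsg.IsStronglyEmbedded H) ∨
      ((∃ n : ℕ, Nonempty (↥(S : Subgroup G) ≃* DihedralGroup n)) ∨
        Cfsg.IsQuasiDihedral ↥(S : Subgroup G)) := by
  classical
  haveI : Fact (Nat.Prime 2) := ⟨Nat.prime_two⟩
  have hinv : ∀ g : G, orderOf g = 2 → (fixedBy Ω g).ncard = f := by
    obtain ⟨g₀, hg₀, hf0⟩ := hex
    intro g hg
    have a := h.four_dvd_sub hg₀
    have b := h.four_dvd_sub hg
    have c := hmax g hg
    have d := h.five
    rw [hf0] at a
    omega
  have hS : (S : Subgroup G) ≠ ⊥ := by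
    obtain ⟨g₀, hg₀, -⟩ := hex
    exact CfsgLib.LocalEven.CentralZ.sylow_ne_bot S
      (even_iff_two_dvd.2 (hg₀ ▸ orderOf_dvd_natCard g₀))
  obtain ⟨z, hzS, hz, hzc⟩ := CfsgLib.LocalEven.CentralZ.exists_central_invol S hS
  set D := fixedBy Ω z with hDdef
  have hD : D.ncard = f := hinv z hz
  by_cases hall : ∀ t ∈ (S : Subgroup G), orderOf t = 2 → fixedBy Ω t = D
  · exact Or.inl ⟨_, h.stronglyEmbedded_of_uniform S hS
      ((Set.ncard_pos (Set.toFinite _)).1 (by omega)) hall⟩
  right
  simp only [not_forall] at hall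
  obtain ⟨u, huS, hu, hne⟩ := hall
  have hsD : ∀ s ∈ (S : Subgroup G), s • D = D :=
    fun s hs => smul_fixedBy_of_commute (hzc s hs).symm
  have hu2 : u * u = 1 := by rw [← sq, ← hu, pow_orderOf_eq_one]
  -- the fixed points of `u` outside `D`
  set W := fixedBy Ω u \ D with hW
  have hWne : W.Nonempty := by
    rw [hW, Set.sdiff_nonempty]
    intro hsub
    exact hne (Set.eq_of_subset_of_ncard_le hsub (by rw [hD, hinv u hu]) (Set.toFinite _))
  have hWcard : W.ncard ≤ 2 := by
    have hW' : W.ncard = (D \ fixedBy Ω u).ncard := by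
      have a := Set.ncard_inter_add_ncard_sdiff_eq_ncard (fixedBy Ω u) D (Set.toFinite _)
      have b := Set.ncard_inter_add_ncard_sdiff_eq_ncard D (fixedBy Ω u) (Set.toFinite _)
      rw [hinv u hu] at a
      rw [hD, Set.inter_comm] at b
      rw [hW]
      omega
    rw [hW']
    -- `u` swaps the moved points of `D` in pairs
    by_contra h3
    rw [not_le] at h3
    have hle : (D \ fixedBy Ω u).ncard ≤ f := hD ▸ Set.ncard_le_ncard Set.sdiff_subset (Set.toFinite _)
    have hP : IsPGroup 2 ↥(zpowers u) :=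
      IsPGroup.of_card (n := 1) (by rw [Nat.card_zpowers, hu, pow_one])
    let X : Set Ω := D \ fixedBy Ω u
    have hX : ∀ ω ∈ X, u • ω ∈ X := fun ω hω => ⟨hsD u huS ▸ Set.smul_mem_smul_set hω.1, fun h' => by
      rw [mem_fixedBy, ← mul_smul, hu2, one_smul] at h'
      exact hω.2 h'.symm⟩
    letI : MulAction ↥(zpowers u) ↥X :=
      { smul := fun y ω => ⟨(y : G) • (ω : Ω), by
          obtain ⟨i, hi⟩ := mem_zpowers_iff.1 y.2
          rw [← hi]
          rcases Int.even_or_odd i with ⟨j, rfl⟩ | ⟨j, rfl⟩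
          · rw [← two_mul, zpow_mul, zpow_two, hu2, one_zpow, one_smul]; exact ω.2
          · rw [zpow_add_one, zpow_mul, show u ^ (2 : ℤ) = 1 from by rw [zpow_two, hu2], one_zpow,
              one_mul]
            exact hX _ ω.2⟩
        one_smul := fun ω => Subtype.ext (one_smul G (ω : Ω))
        mul_smul := fun a b ω => Subtype.ext (mul_smul (a : G) (b : G) (ω : Ω)) }
    have hm := hP.card_modEq_card_fixedPoints ↥X
    haveI : IsEmpty ↥(fixedPoints ↥(zpowers u) ↥X) := ⟨fun ⟨ω, hω⟩ =>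
      ω.2.2 (congrArg Subtype.val (hω ⟨u, mem_zpowers u⟩))⟩
    rw [Nat.card_of_isEmpty (α := ↥(fixedPoints ↥(zpowers u) ↥X)), Nat.card_coe_set_eq,
      Nat.modEq_zero_iff_dvd] at hm
    have : X.ncard = (D \ fixedBy Ω u).ncard := rfl
    omega
  obtain ⟨ω₀, hω₀⟩ := hWne
  -- the kernel on `D`
  let T : Subgroup G := (S : Subgroup G) ⊓ fixingSubgroup G D
  have hT1 : ∀ x ∈ T, ∀ ω ∈ W, x • ω = ω → x = 1 := by
    intro x hx ω hω hxω
    obtain ⟨k, hk⟩ := S.2 ⟨x, hx.1⟩
    exact eq_one_of_two_elt hinv hD rfl (congrArg Subtype.val hk) hx.2 hω.2 hxω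
  have hCT : Nat.card ↥(T ⊓ centralizer ({u} : Set G)) ≤ 2 := by
    let F : ↥(T ⊓ centralizer ({u} : Set G)) → ↥W := fun x => ⟨(x : G) • ω₀, by
      refine ⟨?_, fun hin => hω₀.2 ?_⟩
      · have hc : (x : G) • fixedBy Ω u = fixedBy Ω u :=
          smul_fixedBy_of_commute (mem_centralizer_singleton_iff.1 x.2.2)
        exact hc ▸ Set.smul_mem_smul_set hω₀.1
      · have hc : (x : G) • D = D := smul_set_eq_of_mem_fixing x.2.1.2
        rw [← hc] at hin
        exact Set.smul_mem_smul_set_iff.1 hin⟩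
    have hF : Function.Injective F := by
      intro x y hxy
      have h1 : ((x : G)⁻¹ * y) • ω₀ = ω₀ := by
        have hh : (x : G) • ω₀ = (y : G) • ω₀ := congrArg Subtype.val hxy
        rw [mul_smul, ← hh, inv_smul_smul]
      exact Subtype.ext (inv_mul_eq_one.1
        (hT1 _ (mul_mem (inv_mem x.2.1) y.2.1) ω₀ hω₀ h1))
    refine (Nat.card_le_card_of_injective F hF).trans ?_
    rwa [Nat.card_coe_set_eq]
  -- `S = T ∪ T u`
  have hST : ∀ s ∈ (S : Subgroup G), s ∈ T ∨ s * u ∈ T := by
    have key : ∀ s ∈ (S : Subgroup G), s ∉ T → ∀ d ∈ D, s • d = u • d := by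
      have huD : u ∉ fixingSubgroup G D := fun h' => hne (Set.eq_of_subset_of_ncard_le
        (subset_fixedBy_of_mem_fixing h') (by rw [hD, hinv u hu]) (Set.toFinite _)).symm
      intro s hs hsT d hd
      letI : MulAction ↥(S : Subgroup G) ↥D :=
        { smul := fun g ω => ⟨(g : G) • (ω : Ω),
            (Set.ext_iff.1 (hsD g g.2) _).1 (Set.smul_mem_smul_set ω.2)⟩
          one_smul := fun ω => Subtype.ext (one_smul G (ω : Ω))
          mul_smul := fun a b ω => Subtype.ext (mul_smul (a : G) (b : G) (ω : Ω)) }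
      let ρ := MulAction.toPermHom ↥(S : Subgroup G) ↥D
      have hle : Nat.card ↥ρ.range ≤ 2 := by
        obtain ⟨k, hk⟩ := IsPGroup.iff_card.1
          (S.2.of_surjective ρ.rangeRestrict ρ.rangeRestrict_surjective)
        have hdiv := Subgroup.card_subgroup_dvd_card ρ.range
        haveI : Fintype ↥D := Fintype.ofFinite _
        rw [hk, Nat.card_perm, Nat.card_coe_set_eq, hD] at hdiv
        rw [hk]
        by_contra hbig
        have hk2 : 2 ≤ k := by
          by_contra hb
          exact hbig (le_of_le_of_eq (Nat.pow_le_pow_right two_pos (show k ≤ 1 by omega)) (pow_one 2))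
        have h4 : 4 ∣ f.factorial := (pow_dvd_pow 2 hk2).trans hdiv
        interval_cases f <;> norm_num [Nat.factorial] at h4
      have h1 : ρ ⟨u, huS⟩ ≠ 1 := fun h' => huD fun ω =>
        congrArg Subtype.val (Equiv.ext_iff.1 h' ω)
      have h2 : ρ ⟨s, hs⟩ ≠ 1 := fun h' => hsT ⟨hs, fun ω =>
        congrArg Subtype.val (Equiv.ext_iff.1 h' ω)⟩
      have heq : ρ ⟨s, hs⟩ = ρ ⟨u, huS⟩ := by
        by_contra hd'
        have := CfsgLib.PGroups.Harada.three_le_card (X := ρ.range) ⟨_, rfl⟩ ⟨_, rfl⟩ h2 h1 hd'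
        omega
      exact congrArg Subtype.val (Equiv.ext_iff.1 heq ⟨d, hd⟩)
    intro s hs
    by_cases hsT : s ∈ T
    · exact Or.inl hsT
    refine Or.inr ⟨mul_mem hs huS, fun ⟨d, hd⟩ => ?_⟩
    have hud : u • d ∈ D := hsD u huS ▸ Set.smul_mem_smul_set hd
    show (s * u) • d = d
    rw [mul_smul, key s hs hsT _ hud, ← mul_smul, hu2, one_smul]
  have hCS : Nat.card ↥(centralizer ({(⟨u, huS⟩ : ↥(S : Subgroup G))} : Set ↥(S : Subgroup G))) ≤ 4 := by
    let Z := T ⊓ centralizer ({u} : Set G)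
    let F : ↥(centralizer ({(⟨u, huS⟩ : ↥(S : Subgroup G))} : Set ↥(S : Subgroup G))) → ↥Z × Bool :=
      fun x =>
        have hxu : ((x : ↥(S : Subgroup G)) : G) * u = u * ((x : ↥(S : Subgroup G)) : G) :=
          congrArg Subtype.val (mem_centralizer_singleton_iff.1 x.2)
        if hx : ((x : ↥(S : Subgroup G)) : G) ∈ T then
          (⟨((x : ↥(S : Subgroup G)) : G), hx, mem_centralizer_singleton_iff.2 hxu⟩, false)
        else
          (⟨((x : ↥(S : Subgroup G)) : G) * u, (hST _ (x : ↥(S : Subgroup G)).2).resolve_left hx,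
            mem_centralizer_singleton_iff.2 (by rw [← mul_assoc u, ← hxu])⟩, true)
    have hF : Function.Injective F := by
      intro x y hxy
      simp only [F] at hxy
      refine Subtype.ext (Subtype.ext ?_)
      split_ifs at hxy with hx hy hy
      · exact congrArg (fun w : ↥Z × Bool => (w.1 : G)) hxy
      · simp at hxy
      · simp at hxy
      · exact mul_right_cancel (b := u) (congrArg (fun w : ↥Z × Bool => (w.1 : G)) hxy)
    refine (Nat.card_le_card_of_injective F hF).trans ?_
    rw [Nat.card_prod, Nat.card_eq_fintype_card (α := Bool), Fintype.card_bool]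
    show Nat.card ↥(T ⊓ centralizer ({u} : Set G)) * 2 ≤ 4
    omega
  refine dihedral_or_quasidihedral S.2 (z := ⟨z, hzS⟩) (u := ⟨u, huS⟩) (by rw [Subgroup.orderOf_mk, hz])
    (by rw [Subgroup.orderOf_mk, hu]) (fun h' => hne (by rw [hDdef, show z = u from congrArg Subtype.val h']))
    (Subtype.ext (hzc u huS).eq) hCS

end CfsgLib.FixityFour
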