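import Cfsg.Agent.Lib.FixityFour.Basic
import Cfsg.Agent.Lib.FixityFour.Small
import Cfsg.Prelude.Def_Transfer

/-!
# Simple groups of fixity four: reduction when point stabilisers have odd order
-/

set_option autoImplicit false
set_option linter.unusedSectionVars false
set_option linter.style.haveILetI false

namespace CfsgLib.FixityFour

open Subgroup MulAction
open scoped Pointwise

variable {G Ω : Type*} [Group G] [Finite G] [MulAction G Ω] [Finite Ω]

/-- The fixed point count of an element of order three is the degree modulo three. -/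
theorem fix_modEq_three {t : G} (ht : orderOf t = 3) :
    Nat.card Ω ≡ (fixedBy Ω t).ncard [MOD 3] := by
  haveI : Fact (Nat.Prime 3) := ⟨Nat.prime_three⟩
  have hP : IsPGroup 3 ↥(zpowers t) :=
    IsPGroup.of_card (n := 1) (by rw [Nat.card_zpowers, ht, pow_one])
  have hm := hP.card_modEq_card_fixedPoints Ω
  have heq : fixedPoints ↥(zpowers t) Ω = fixedBy Ω t := by
    ext ω
    constructor
    · exact fun hω => hω ⟨t, mem_zpowers t⟩
    · rintro hω ⟨y, hy⟩
      have hs : t ∈ stabilizer G ω := hω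
      exact (zpowers_le.2 hs) hy
  rwa [heq, Nat.card_coe_set_eq] at hm

/-- If all elements of order three of a Sylow three-subgroup fix the same points, the stabiliser of
this set is strongly three-embedded. -/
theorem Hyp.se3_of_uniform (h : Hyp G Ω) (P : Sylow 3 G) (hP : (P : Subgroup G) ≠ ⊥) {D : Set Ω}
    (hne : D.Nonempty) (hD : ∀ s ∈ (P : Subgroup G), orderOf s = 3 → fixedBy Ω s = D) :
    Se3 G := by
  haveI : Fact (Nat.Prime 3) := ⟨Nat.prime_three⟩
  obtain ⟨n, hn⟩ := IsPGroup.iff_card.1 P.2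
  have h3 : 3 ∣ Nat.card (P : Subgroup G) := by
    rw [hn]
    refine dvd_pow_self 3 fun h0 => hP (Subgroup.eq_bot_of_card_eq _ (by rw [hn, h0, pow_zero]))
  obtain ⟨z, hz⟩ := exists_prime_orderOf_dvd_card' 3 h3
  have hz' : orderOf (z : G) = 3 := by rw [Subgroup.orderOf_coe, hz]
  have hcard : D.ncard ≤ 4 :=
    hD z z.2 hz' ▸ h.fix_le _ (fun h1 => by rw [h1, orderOf_one] at hz'; omega)
  have hPH : (P : Subgroup G) ≤ stabilizer G D := by
    intro x hx
    rw [mem_stabilizer_iff]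
    have h2 := hD _ (mul_mem (mul_mem hx z.2) (inv_mem hx)) (by
      rw [show x * z * x⁻¹ = MulAut.conj x (z : G) from rfl, MulEquiv.orderOf_eq, hz'])
    rw [fixedBy_conj, hD z z.2 hz'] at h2
    exact h2
  have hall : ∀ y ∈ stabilizer G D, orderOf y = 3 → fixedBy Ω y = D := by
    intro y hy hy3
    let y' : ↥(stabilizer G D) := ⟨y, hy⟩
    have hy' : IsPGroup 3 ↥(zpowers y') :=
      IsPGroup.of_card (n := 1) (by rw [Nat.card_zpowers, Subgroup.orderOf_mk, hy3, pow_one])
    obtain ⟨Q, hQ⟩ := hy'.exists_le_sylow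
    obtain ⟨c, hc⟩ := MulAction.exists_smul_eq ↥(stabilizer G D) (P.subtype hPH) Q
    have hmem : y' ∈ (Q : Subgroup ↥(stabilizer G D)) := hQ (mem_zpowers y')
    rw [← hc, Sylow.smul_def, Sylow.pointwise_smul_def] at hmem
    rw [Subgroup.mem_pointwise_smul_iff_inv_smul_mem] at hmem
    have hmem' : (c : G)⁻¹ * y * (c : G) ∈ (P : Subgroup G) := by
      have := hmem
      simpa [Subgroup.mem_subgroupOf, MulAut.smul_def] using this
    have h3' : orderOf ((c : G)⁻¹ * y * (c : G)) = 3 := by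
      rw [show (c : G)⁻¹ * y * (c : G) = MulAut.conj (c : G)⁻¹ y by simp, MulEquiv.orderOf_eq, hy3]
    have h2 := hD _ hmem' h3'
    have hcD : (c : G) • D = D := c.2
    calc fixedBy Ω y = fixedBy Ω ((c : G) * ((c : G)⁻¹ * y * (c : G)) * (c : G)⁻¹) := by
          congr 1; group
      _ = D := by rw [fixedBy_conj, h2, hcD]
  refine ⟨stabilizer G D, h.stabilizer_ne_top hne hcard,
    h3.trans (Subgroup.card_dvd_of_le hPH), fun g hg h3g => hg ?_⟩
  obtain ⟨y, hy⟩ := exists_prime_orderOf_dvd_card' 3 h3g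
  have hy' : orderOf (y : G) = 3 := by rw [Subgroup.orderOf_coe, hy]
  obtain ⟨hy1, w, hw, hwy⟩ := y.2
  have hwy' : g * w * g⁻¹ = (y : G) := hwy
  have hw3 : orderOf w = 3 := by
    rw [← hy', ← hwy', show g * w * g⁻¹ = MulAut.conj g w from rfl, MulEquiv.orderOf_eq]
  rw [mem_stabilizer_iff]
  conv_lhs => rw [← hall w hw hw3]
  rw [← fixedBy_conj, hwy', hall _ hy1 hy']

/-- The odd stabiliser case, given the two main contradictions. -/
theorem Hyp.odd_case (h : Hyp G Ω) (ho : OddStab G Ω) (P : Sylow 3 G)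
    (hex : ∃ t : G, orderOf t = 3 ∧ (fixedBy Ω t).Nonempty)
    (hE : ¬ (Nat.card P = 9 ∧ ∀ x ∈ (P : Subgroup G), x ^ 3 = 1) → ∀ z : G,
      z ∈ (P : Subgroup G) → (∀ x ∈ (P : Subgroup G), x * z = z * x) → orderOf z = 3 →
      3 ≤ (fixedBy Ω z).ncard →
      (∃ x ∈ (P : Subgroup G), x ∉ fixingSubgroup G (fixedBy Ω z)) → False)
    (hF : ∀ t : G, t ∈ (P : Subgroup G) → orderOf t = 3 → 3 ≤ (fixedBy Ω t).ncard →
      (∀ z ∈ (P : Subgroup G), (∀ x ∈ (P : Subgroup G), x * z = z * x) → orderOf z = 3 →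
        (fixedBy Ω z).ncard ≤ 1) →
      Nat.card P = 27 ∧ Cfsg.IsExtraspecial 3 (P : Subgroup G) ∧
        ∀ x ∈ (P : Subgroup G), x ^ 3 = 1) :
    Se3 G ∨
      (Nat.card P = 3 ∧ ∀ T : Sylow 2 (Subgroup.normalizer ((P : Subgroup G) : Set G)),
        Nat.card T ≤ 4) ∨
      (Nat.card P = 9 ∧ ∀ x ∈ (P : Subgroup G), x ^ 3 = 1) ∨
      (Nat.card P = 27 ∧ Cfsg.IsExtraspecial 3 (P : Subgroup G) ∧
        ∀ x ∈ (P : Subgroup G), x ^ 3 = 1) := by
  classical
  haveI : Fact (Nat.Prime 3) := ⟨Nat.prime_three⟩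
  haveI : Fact (Nat.Prime 2) := ⟨Nat.prime_two⟩
  -- an element of `P` of order three with a fixed point
  obtain ⟨t, htP, ht, htf⟩ : ∃ t ∈ (P : Subgroup G), orderOf t = 3 ∧ (fixedBy Ω t).Nonempty := by
    obtain ⟨t, ht, ω, hω⟩ := hex
    have hp : IsPGroup 3 ↥(zpowers t) :=
      IsPGroup.of_card (n := 1) (by rw [Nat.card_zpowers, ht, pow_one])
    obtain ⟨Q, hQ⟩ := hp.exists_le_sylow
    obtain ⟨c, hc⟩ := MulAction.exists_smul_eq G Q P
    refine ⟨c * t * c⁻¹, ?_, ?_, c • ω, ?_⟩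
    · rw [← hc]
      exact ⟨t, hQ (mem_zpowers t), rfl⟩
    · rw [show c * t * c⁻¹ = MulAut.conj c t from rfl, MulEquiv.orderOf_eq, ht]
    · rw [fixedBy_conj]; exact Set.smul_mem_smul_set hω
  have ht1 : t ≠ 1 := fun h1 => by rw [h1, orderOf_one] at ht; omega
  have hPne : (P : Subgroup G) ≠ ⊥ := fun h0 => ht1 (Subgroup.mem_bot.1 (h0 ▸ htP))
  by_cases h9 : Nat.card P = 9 ∧ ∀ x ∈ (P : Subgroup G), x ^ 3 = 1
  · exact Or.inr (Or.inr (Or.inl h9))
  by_cases h3 : Nat.card P = 3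
  · refine Or.inr (Or.inl ⟨h3, fun T => ?_⟩)
    obtain ⟨ω, hω⟩ := htf
    have hPt : (P : Subgroup G) = zpowers t :=
      (Subgroup.eq_of_le_of_card_ge (zpowers_le.2 htP) (by rw [Nat.card_zpowers, ht]; exact h3.le)).symm
    have hfix : ∀ n : G, n ∈ Subgroup.normalizer ((P : Subgroup G) : Set G) →
        n • ω ∈ fixedBy Ω t := by
      intro n hn
      have hin : n⁻¹ * t * n ∈ (P : Subgroup G) := by
        have := (mem_normalizer_iff.1 (inv_mem hn) t).1 htP
        rwa [inv_inv] at this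
      rw [hPt] at hin
      have hs : t ∈ stabilizer G ω := hω
      have hs' : (n⁻¹ * t * n) • ω = ω := (zpowers_le.2 hs) hin
      rw [mul_smul, mul_smul, inv_smul_eq_iff] at hs'
      exact hs'
    let F : ↥(T : Subgroup ↥(Subgroup.normalizer ((P : Subgroup G) : Set G))) → ↥(fixedBy Ω t) :=
      fun x => ⟨((x : ↥(Subgroup.normalizer ((P : Subgroup G) : Set G))) : G) • ω,
        hfix _ (x : ↥(Subgroup.normalizer ((P : Subgroup G) : Set G))).2⟩
    refine (Nat.card_le_card_of_injective F ?_).trans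
      (le_of_eq_of_le (Nat.card_coe_set_eq _) (h.fix_le t ht1))
    intro x y hxy
    obtain ⟨k, hk⟩ := T.2 (x⁻¹ * y)
    by_contra hne
    have hg1 : ((x : ↥(Subgroup.normalizer ((P : Subgroup G) : Set G))) : G)⁻¹ *
        ((y : ↥(Subgroup.normalizer ((P : Subgroup G) : Set G))) : G) ≠ 1 := fun h1 =>
      hne (Subtype.ext (Subtype.ext (inv_mul_eq_one.1 h1)))
    set g := ((x : ↥(Subgroup.normalizer ((P : Subgroup G) : Set G))) : G)⁻¹ *
        ((y : ↥(Subgroup.normalizer ((P : Subgroup G) : Set G))) : G) with hg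
    have hgω : g • ω = ω := by
      have hh : ((x : ↥(Subgroup.normalizer ((P : Subgroup G) : Set G))) : G) • ω =
          ((y : ↥(Subgroup.normalizer ((P : Subgroup G) : Set G))) : G) • ω :=
        congrArg Subtype.val hxy
      rw [hg, mul_smul, ← hh, inv_smul_smul]
    have hgk : g ^ 2 ^ k = 1 := congrArg
      (fun z : ↥(T : Subgroup ↥(Subgroup.normalizer ((P : Subgroup G) : Set G))) =>
        ((z : ↥(Subgroup.normalizer ((P : Subgroup G) : Set G))) : G)) hk
    obtain ⟨j, -, hj⟩ := (Nat.dvd_prime_pow Nat.prime_two).1 (orderOf_dvd_of_pow_eq_one hgk)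
    rcases Nat.eq_zero_or_pos j with rfl | hj0
    · exact hg1 (orderOf_eq_one_iff.1 (by rwa [pow_zero] at hj))
    have hinv : orderOf (g ^ 2 ^ (j - 1)) = 2 := by
      rw [orderOf_pow, hj, Nat.gcd_eq_right (pow_dvd_pow 2 (Nat.sub_le j 1)),
        Nat.pow_div (Nat.sub_le j 1) two_pos, show j - (j - 1) = 1 by omega, pow_one]
    have := mem_fixedBy_pow (Ω := Ω) hgω (2 ^ (j - 1))
    rw [ho _ hinv] at this
    exact this
  -- central elements
  by_cases hc3 : ∃ z ∈ (P : Subgroup G), (∀ x ∈ (P : Subgroup G), x * z = z * x) ∧ orderOf z = 3 ∧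
      3 ≤ (fixedBy Ω z).ncard
  · obtain ⟨z, hzP, hzc, hz, hzf⟩ := hc3
    by_cases hx : ∃ x ∈ (P : Subgroup G), x ∉ fixingSubgroup G (fixedBy Ω z)
    · exact (hE h9 z hzP hzc hz hzf hx).elim
    simp only [not_exists, not_and, not_not] at hx
    refine Or.inl (h.se3_of_uniform P hPne (D := fixedBy Ω z) ((Set.ncard_pos (Set.toFinite _)).1 (by omega))
      fun s hs hs3 => ?_)
    refine (Set.eq_of_subset_of_ncard_le (subset_fixedBy_of_mem_fixing (hx s hs)) ?_
      (Set.toFinite _)).symm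
    have a := (fix_modEq_three (Ω := Ω) hz).symm.trans (fix_modEq_three (Ω := Ω) hs3)
    have b := h.fix_le s fun h1 => by rw [h1, orderOf_one] at hs3; omega
    have c := Set.ncard_le_ncard (subset_fixedBy_of_mem_fixing (hx s hs)) (Set.toFinite _)
    simp only [Nat.ModEq] at a
    omega
  simp only [not_exists, not_and, not_le] at hc3
  by_cases hbig : ∃ s ∈ (P : Subgroup G), orderOf s = 3 ∧ 3 ≤ (fixedBy Ω s).ncard
  · obtain ⟨s, hsP, hs3, hsf⟩ := hbig
    refine Or.inr (Or.inr (Or.inr (hF s hsP hs3 hsf fun z hzP hzc hz => ?_)))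
    have a := (fix_modEq_three (Ω := Ω) hz).symm.trans (fix_modEq_three (Ω := Ω) hs3)
    have b := h.fix_le s fun h1 => by rw [h1, orderOf_one] at hs3; omega
    have c := hc3 z hzP hzc hz
    simp only [Nat.ModEq] at a
    omega
  simp only [not_exists, not_and, not_le] at hbig
  haveI : Nontrivial ↥(P : Subgroup G) := (Subgroup.nontrivial_iff_ne_bot _).2 hPne
  obtain ⟨n, hn0, hn⟩ : ∃ n, 0 < n ∧ Nat.card (center ↥(P : Subgroup G)) = 3 ^ n := by
    haveI := P.2.center_nontrivial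
    obtain ⟨n, hn⟩ := IsPGroup.iff_card.1 (P.2.to_subgroup (center ↥(P : Subgroup G)))
    refine ⟨n, Nat.pos_of_ne_zero fun h0 => ?_, hn⟩
    have := Finite.one_lt_card (α := ↥(center ↥(P : Subgroup G)))
    rw [hn, h0, pow_zero] at this
    omega
  obtain ⟨z, hz⟩ := exists_prime_orderOf_dvd_card' 3
    (show 3 ∣ Nat.card ↥(center ↥(P : Subgroup G)) from hn ▸ dvd_pow_self 3 (by omega))
  rw [← Subgroup.orderOf_coe, ← Subgroup.orderOf_coe] at hz
  set zG : G := ((z : ↥(P : Subgroup G)) : G) with hzG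
  have hzc : ∀ x ∈ (P : Subgroup G), x * zG = zG * x := fun x hx =>
    congrArg Subtype.val (mem_center_iff.1 z.2 ⟨x, hx⟩)
  have hcount : ∀ s ∈ (P : Subgroup G), orderOf s = 3 →
      (fixedBy Ω s).ncard = (fixedBy Ω t).ncard := by
    intro s hs hs3
    have a := (fix_modEq_three (Ω := Ω) hs3).symm.trans (fix_modEq_three (Ω := Ω) ht)
    have b := hbig s hs hs3
    have c := hbig t htP ht
    simp only [Nat.ModEq] at a
    omega
  have hzP : zG ∈ (P : Subgroup G) := (z : ↥(P : Subgroup G)).2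
  have htpos := (Set.ncard_pos (Set.toFinite _)).2 htf
  refine Or.inl (h.se3_of_uniform P hPne (D := fixedBy Ω zG)
    ((Set.ncard_pos (Set.toFinite _)).1 (by rw [hcount zG hzP hz]; exact htpos)) fun s hs hs3 => ?_)
  refine Set.eq_of_subset_of_ncard_le ?_ (by rw [hcount zG hzP hz, hcount s hs hs3]) (Set.toFinite _) |>.symm
  -- `s` fixes the at most two fixed points of `zG`
  intro ω hω
  have hsD : ∀ η ∈ fixedBy Ω zG, s • η ∈ fixedBy Ω zG := fun η hη => by
    have := smul_fixedBy_of_commute (Ω := Ω) (show Commute s zG from hzc s hs)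
    exact this ▸ Set.smul_mem_smul_set hη
  have hs3' : s • s • s • ω = ω := by
    rw [← mul_smul, ← mul_smul, mul_assoc, ← pow_three, ← hs3, pow_orderOf_eq_one, one_smul]
  rw [mem_fixedBy]
  by_contra hne
  have h2 : s • s • ω ≠ ω := fun h' => hne (by
    rw [h'] at hs3'
    exact hs3')
  have hsub : ({ω, s • ω, s • s • ω} : Set Ω) ⊆ fixedBy Ω zG :=
    Set.insert_subset hω (Set.insert_subset (hsD _ hω) (Set.singleton_subset_iff.2 (hsD _ (hsD _ hω))))
  have hc := Set.ncard_le_ncard hsub (Set.toFinite _)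
  rw [Set.ncard_eq_three.2 ⟨ω, s • ω, s • s • ω, fun h' => hne h'.symm, fun h' => h2 h'.symm,
    fun h' => hne (by
      have := congrArg (s • ·) h'
      exact (smul_left_cancel s h').symm), rfl⟩, hcount zG hzP hz] at hc
  have := hbig t htP ht
  omega

end CfsgLib.FixityFour
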