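import Cfsg.Agent.Lib.PGroups.Harada.Count
import Cfsg.Agent.Lib.PGroups.UniqueOrderP

/-!
# Fixity four: two-groups over a kernel with one involution and an image in `Sym 4`
-/

set_option autoImplicit false
set_option linter.style.haveILetI false
set_option linter.unusedSectionVars false
set_option maxRecDepth 100000
set_option synthInstance.maxSize 4000
set_option synthInstance.maxHeartbeats 200000

namespace CfsgLib.FixityFour.Unmixed

open Subgroup Equiv

universe u

theorem four_commuting : ∀ x : Perm (Fin 4), x * x = 1 → ∀ y : Perm (Fin 4), y * y = 1 →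
    x * y = y * x → x ≠ 1 → y ≠ 1 → x ≠ y →
    ∀ z : Perm (Fin 4), z * z = 1 → x * z = z * x → y * z = z * y →
      z = 1 ∨ z = x ∨ z = y ∨ z = x * y := by
  decide +kernel

theorem perm_four_pow : ∀ q : Perm (Fin 4), q ^ 12 = 1 := by decide +kernel

theorem three_classes : ∀ x : Perm (Fin 4), x ^ 3 = 1 → x ≠ 1 → ∀ y : Perm (Fin 4), y ^ 3 = 1 →
    y ≠ 1 → x ≠ y → (x⁻¹ * y) ^ 3 = 1 → ∀ z : Perm (Fin 4), z ^ 3 = 1 → z ≠ 1 → x ≠ z → y ≠ z →
    (x⁻¹ * z) ^ 3 = 1 → (y⁻¹ * z) ^ 3 = 1 → False := by
  decide +kernel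

theorem no_commuting : ∀ p : Perm (Fin 4), p * p = 1 → (∀ i, p i ≠ i) → ∀ q : Perm (Fin 4),
    q ^ 3 = 1 → (q⁻¹ * (p * q * p)) ^ 3 = 1 → q = 1 := by
  decide +kernel

/-- A two-group in `Sym 4` is two-generated. -/
theorem index_frattini_perm_four (R : Subgroup (Perm (Fin 4))) (hR : IsPGroup 2 R) :
    (frattini R).index ≤ 4 := by
  haveI : Fact (Nat.Prime 2) := ⟨Nat.prime_two⟩
  by_contra hlt
  push Not at hlt
  obtain ⟨n, hn⟩ := IsPGroup.iff_card.1 hR
  have hd : Nat.card R ∣ 24 := by
    have := card_subgroup_dvd_card R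
    rw [Nat.card_perm, Nat.card_fin] at this
    exact this
  have hn3 : n ≤ 3 := by
    by_contra h
    have := (pow_dvd_pow 2 (show 4 ≤ n by omega)).trans (hn ▸ hd)
    norm_num at this
  have hle : Nat.card R ≤ 8 := by
    rw [hn]; exact (Nat.pow_le_pow_right two_pos hn3).trans (by norm_num)
  have hmul := (frattini R).card_mul_index
  have hbot : frattini R = ⊥ := by
    refine eq_bot_of_card_le _ ?_
    by_contra h
    have := Nat.mul_le_mul (show 2 ≤ Nat.card (frattini R) by omega) (show 5 ≤ (frattini R).index by omega)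
    omega
  have hsq : ∀ x : R, x * x = 1 := fun x => by
    have h := CfsgLib.PGroups.pow_mem_frattini hR x
    rw [hbot, mem_bot, pow_two] at h
    exact h
  have hcomm : ∀ x y : R, (x : Perm (Fin 4)) * y = y * x := fun x y => by
    have h : ∀ a : R, a⁻¹ = a := fun a => inv_eq_of_mul_eq_one_right (hsq a)
    have e : x * y = y * x := by rw [← h (x * y), mul_inv_rev, h, h]
    exact congrArg Subtype.val e
  have hsq' : ∀ x : R, (x : Perm (Fin 4)) * x = 1 := fun x => congrArg Subtype.val (hsq x)
  have h5 : 5 ≤ Nat.card R :=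
    le_trans (by omega) (Nat.le_of_dvd Nat.card_pos (frattini R).index_dvd_card)
  haveI := Fintype.ofFinite R
  rw [Nat.card_eq_fintype_card, ← Finset.card_univ] at h5
  obtain ⟨x, hx⟩ : ∃ x : R, x ≠ 1 := by
    by_contra h
    push Not at h
    have := Finset.card_le_card (show (Finset.univ : Finset R) ⊆ {1} from fun a _ => by simp [h a])
    rw [Finset.card_singleton] at this
    omega
  obtain ⟨y, hy⟩ : ∃ y : R, y ∉ ({1, x} : Finset R) := by
    by_contra h
    push Not at h
    have := (Finset.card_le_card (fun a (_ : a ∈ (Finset.univ : Finset R)) => h a)).trans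
      Finset.card_le_two
    omega
  simp only [Finset.mem_insert, Finset.mem_singleton, not_or] at hy
  obtain ⟨z, hz⟩ : ∃ z : R, z ∉ ({1, x, y, x * y} : Finset R) := by
    by_contra h
    push Not at h
    have := (Finset.card_le_card (fun a (_ : a ∈ (Finset.univ : Finset R)) => h a)).trans
      Finset.card_le_four
    omega
  simp only [Finset.mem_insert, Finset.mem_singleton, not_or] at hz
  have c1 : ∀ {a : R}, a ≠ 1 → (a : Perm (Fin 4)) ≠ 1 := fun h e => h (Subtype.ext e)
  rcases four_commuting x (hsq' x) y (hsq' y) (hcomm x y) (c1 hx) (c1 hy.1)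
      (fun e => hy.2 (Subtype.ext e.symm)) z (hsq' z) (hcomm x z) (hcomm y z) with e | e | e | e
  · exact hz.1 (Subtype.ext e)
  · exact hz.2.1 (Subtype.ext e)
  · exact hz.2.2.1 (Subtype.ext e)
  · exact hz.2.2.2 (Subtype.ext e)

/-- A two-group with at most one involution is two-generated. -/
theorem index_frattini_unique {M : Type u} [Group M] [Finite M] (hM : IsPGroup 2 M)
    (hu : ∀ x y : M, x * x = 1 → y * y = 1 → x ≠ 1 → y ≠ 1 → x = y) :
    (frattini M).index ≤ 4 := by
  haveI : Fact (Nat.Prime 2) := ⟨Nat.prime_two⟩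
  rcases subsingleton_or_nontrivial M with h | h
  · exact le_trans (PGroups.Harada.index_frattini_le_card.trans (Finite.card_le_one_iff_subsingleton.2 h))
      (by norm_num)
  obtain ⟨n, hn⟩ := IsPGroup.iff_card.1 hM
  have hd : 2 ∣ Nat.card M := by
    rw [hn]
    refine dvd_pow_self 2 fun h0 => ?_
    rw [h0, pow_zero] at hn
    have := Finite.one_lt_card_iff_nontrivial.2 h
    omega
  obtain ⟨z, hz⟩ := exists_prime_orderOf_dvd_card' 2 hd
  have hzz : z * z = 1 := by rw [← pow_two, ← hz, pow_orderOf_eq_one]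
  have hz1 : z ≠ 1 := fun e => by rw [e, orderOf_one] at hz; norm_num at hz
  rcases PGroups.isCyclic_or_quaternion_of_unique hM (z := z) (by rw [pow_two, hzz])
      (fun y hy => by
        by_cases hy1 : y = 1
        · exact hy1 ▸ one_mem _
        · exact hu z y hzz (by rw [← pow_two, hy]) hz1 hy1 ▸ mem_zpowers z) with
    hc | ⟨-, k, hk, ⟨e⟩⟩
  · exact (PGroups.Harada.index_frattini_le_two_of_cyclic hM).trans (by norm_num)
  · refine PGroups.Harada.index_frattini_le_four_of_cyclic hM
      (zpowers (e.symm (QuaternionGroup.a 1))) ?_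
    have h1 := (zpowers (e.symm (QuaternionGroup.a 1))).card_mul_index
    have h0 : 0 < 2 ^ k := pow_pos two_pos k
    haveI : NeZero (2 ^ k) := ⟨h0.ne'⟩
    rw [Nat.card_zpowers, MulEquiv.orderOf_eq, QuaternionGroup.orderOf_a_one,
      Nat.card_congr e.toEquiv, Nat.card_eq_fintype_card, QuaternionGroup.card] at h1
    refine le_of_eq (Nat.eq_of_mul_eq_mul_left (show 0 < 2 * 2 ^ k by omega) ?_)
    rw [h1]; ring

/-- The sectional rank of a two-group over a kernel with one involution, inside `Sym 4`. -/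
theorem sectionalRank_of_perm {S : Type u} [Group S] [Finite S] (hS : IsPGroup 2 S)
    (f : S →* Perm (Fin 4))
    (hu : ∀ x y : S, f x = 1 → f y = 1 → x * x = 1 → y * y = 1 → x ≠ 1 → y ≠ 1 → x = y) :
    Cfsg.SectionalPRankLE 2 4 S := by
  refine PGroups.Harada.sectionalPRankLE_of_index fun L _ _ ι hι => ?_
  have hL : IsPGroup 2 L := hS.of_injective ι hι
  let g : L →* Perm (Fin 4) := f.comp ι
  set M := g.ker with hMdef
  have hM : (frattini M).index ≤ 4 := index_frattini_unique (hL.to_subgroup M) fun x y hx hy hx1 hy1 =>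
    Subtype.ext (hι (hu _ _ x.2 y.2
      (by rw [← map_mul]; exact (congrArg ι (congrArg Subtype.val hx)).trans (map_one ι))
      (by rw [← map_mul]; exact (congrArg ι (congrArg Subtype.val hy)).trans (map_one ι))
      (fun e => hx1 (Subtype.ext (hι (e.trans (map_one ι).symm))))
      (fun e => hy1 (Subtype.ext (hι (e.trans (map_one ι).symm))))))
  rw [PGroups.Harada.index_frattini_eq M, show 2 ^ 4 = 4 * 4 by norm_num]
  refine Nat.mul_le_mul ?_ ((PGroups.Harada.sup_index_le hL g M rfl).trans
    (index_frattini_perm_four _ (hL.of_surjective g.rangeRestrict g.rangeRestrict_surjective)))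
  refine le_trans (Nat.le_of_dvd (Nat.pos_of_ne_zero Subgroup.index_ne_zero_of_finite) ?_) hM
  refine index_dvd_of_le fun x hx => ?_
  exact (Base.map_frattini_le_frattini M) ⟨x, hx, rfl⟩

end CfsgLib.FixityFour.Unmixed
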