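import Cfsg.Agent.Lib.FixityFour.Basic
import Cfsg.Agent.Lib.FixityFour.UnmixedRank
import Cfsg.Agent.Lib.Recog.SuzThree.Orders

/-!
# Fixity four: all involutions of a Sylow two-subgroup with fixed points have the same fixed points
-/

set_option autoImplicit false
set_option linter.style.haveILetI false
set_option linter.unusedSectionVars false

open scoped Classical

namespace CfsgLib.FixityFour

open Subgroup MulAction Equiv
open scoped Pointwise

namespace Unmixed

variable {G Ω : Type*} [Group G] [MulAction G Ω]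

/-- An involution with a fixed point. -/
def FixInv (Ω : Type*) {G : Type*} [Group G] [MulAction G Ω] (k : G) : Prop :=
  orderOf k = 2 ∧ (fixedBy Ω k).Nonempty

theorem FixInv.mul_self {k : G} (h : FixInv Ω k) : k * k = 1 := by
  rw [← pow_two, ← h.1, pow_orderOf_eq_one]

theorem FixInv.inv_eq {k : G} (h : FixInv Ω k) : k⁻¹ = k :=
  inv_eq_of_mul_eq_one_right h.mul_self

theorem FixInv.conj {k : G} (h : FixInv Ω k) (g : G) : FixInv Ω (g * k * g⁻¹) :=
  ⟨(MulEquiv.orderOf_eq (MulAut.conj g) k).trans h.1, by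
    rw [fixedBy_conj]; exact h.2.smul_set⟩

theorem smul_eq_iff_fix {k g : G} :
    g • fixedBy Ω k = fixedBy Ω k ↔ fixedBy Ω (g * k * g⁻¹) = fixedBy Ω k := by
  rw [fixedBy_conj]

/-- The action of the setwise stabilizer on a set. -/
def permHom (A : Set Ω) (e : A ≃ Fin 4) : stabilizer G A →* Perm (Fin 4) where
  toFun b := e.permCongr ((MulAction.toPerm (b : G)).subtypePerm fun x => by
    have hb : (b : G) • A = A := mem_stabilizer_iff.1 b.2
    rw [MulAction.toPerm_apply]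
    exact ((Set.ext_iff.1 hb _).symm).trans Set.smul_mem_smul_set_iff)
  map_one' := by
    refine Equiv.ext fun i => ?_
    simp only [Equiv.permCongr_apply, Perm.one_apply]
    rw [← e.eq_symm_apply]
    exact Subtype.ext (one_smul G _)
  map_mul' b c := by
    refine Equiv.ext fun i => ?_
    simp only [Equiv.permCongr_apply, Perm.mul_apply, e.symm_apply_apply]
    refine congrArg e (Subtype.ext ?_)
    exact mul_smul (b : G) c _

theorem permHom_apply (A : Set Ω) (e : A ≃ Fin 4) (b : stabilizer G A) (i : Fin 4) :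
    ((e.symm (permHom A e b i) : A) : Ω) = (b : G) • ((e.symm i : A) : Ω) := by
  show ((e.symm (e _) : A) : Ω) = _
  rw [e.symm_apply_apply]
  rfl

theorem permHom_eq_one_iff (A : Set Ω) (e : A ≃ Fin 4) (b : stabilizer G A) :
    permHom A e b = 1 ↔ (b : G) ∈ fixingSubgroup G A := by
  constructor
  · intro h
    rw [mem_fixingSubgroup_iff]
    intro x hx
    have h1 := permHom_apply A e b (e ⟨x, hx⟩)
    rw [h, Perm.one_apply, e.symm_apply_apply] at h1
    exact h1.symm
  · intro h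
    refine Equiv.ext fun i => e.symm.injective (Subtype.ext ?_)
    rw [permHom_apply, Perm.one_apply]
    exact (mem_fixingSubgroup_iff G).1 h _ (e.symm i).2

variable [Finite G]

/-- All involutions with fixed points which commute have the same fixed points. -/
theorem fix_eq_of_commute (hun : ∀ S : Sylow 2 G, ¬ Mixed ↥(S : Subgroup G) Ω) {u v : G}
    (hu : FixInv Ω u) (hv : FixInv Ω v) (huv : u * v = v * u) :
    fixedBy Ω u = fixedBy Ω v := by
  haveI : Fact (Nat.Prime 2) := ⟨Nat.prime_two⟩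
  have hp : IsPGroup 2 ↥(zpowers u ⊔ zpowers v) := by
    have hu2 : IsPGroup 2 (zpowers u) := IsPGroup.of_card (n := 1) (by rw [Nat.card_zpowers, hu.1, pow_one])
    have hv2 : IsPGroup 2 (zpowers v) := IsPGroup.of_card (n := 1) (by rw [Nat.card_zpowers, hv.1, pow_one])
    refine hu2.to_sup_of_normal_left' hv2 ?_
    rw [zpowers_le, mem_normalizer_iff]
    intro w
    have hc : ∀ x ∈ zpowers u, v * x * v⁻¹ = x := fun x hx => by
      obtain ⟨i, rfl⟩ := mem_zpowers_iff.1 hx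
      rw [((show Commute v u from huv.symm).zpow_right i).eq, mul_inv_cancel_right]
    constructor
    · exact fun hw => by rw [hc w hw]; exact hw
    · intro hw
      have := hc _ hw
      rw [mul_left_inj, mul_right_inj] at this
      rwa [this] at hw
  obtain ⟨S, hS⟩ := hp.exists_le_sylow
  by_contra hne
  exact hun S ⟨⟨u, hS (le_sup_left (a := zpowers u) (mem_zpowers u))⟩,
    ⟨v, hS (le_sup_right (b := zpowers v) (mem_zpowers v))⟩, by rw [orderOf_mk]; exact hu.1,
    by rw [orderOf_mk]; exact hv.1, hu.2, hv.2, hne⟩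

theorem fix_eq_of_sylow (hun : ∀ S : Sylow 2 G, ¬ Mixed ↥(S : Subgroup G) Ω) {S : Sylow 2 G}
    {u v : G} (hu : FixInv Ω u) (hv : FixInv Ω v) (huS : u ∈ (S : Subgroup G))
    (hvS : v ∈ (S : Subgroup G)) : fixedBy Ω u = fixedBy Ω v := by
  by_contra hne
  exact hun S ⟨⟨u, huS⟩, ⟨v, hvS⟩, by rw [orderOf_mk]; exact hu.1,
    by rw [orderOf_mk]; exact hv.1, hu.2, hv.2, hne⟩

/-- Two involutions with different fixed point sets have a product of odd order. -/
theorem odd_prod (hun : ∀ S : Sylow 2 G, ¬ Mixed ↥(S : Subgroup G) Ω) {k k' : G}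
    (hk : FixInv Ω k) (hk' : FixInv Ω k') (hne : fixedBy Ω k ≠ fixedBy Ω k') :
    Odd (orderOf (k * k')) := by
  rw [← Nat.not_even_iff_odd]
  rintro ⟨m, hm⟩
  set r := k * k' with hr
  set w := r ^ m with hw
  have hinv : k * r * k⁻¹ = r⁻¹ := by
    rw [hr, mul_inv_rev, hk.inv_eq, hk'.inv_eq, ← mul_assoc, hk.mul_self, one_mul]
  have hpos : 0 < m := by
    have := orderOf_pos r
    omega
  have hww : w * w = 1 := by rw [hw, ← pow_add, ← hm, pow_orderOf_eq_one]
  have hw1 : w ≠ 1 := fun h => by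
    have := orderOf_dvd_of_pow_eq_one (hw ▸ h : r ^ m = 1)
    exact absurd (Nat.le_of_dvd hpos this) (by omega)
  have hwo : orderOf w = 2 :=
    haveI : Fact (Nat.Prime 2) := ⟨Nat.prime_two⟩
    orderOf_eq_prime (by rw [pow_two, hww]) hw1
  have hwi : w⁻¹ = w := inv_eq_of_mul_eq_one_right hww
  have hkr : ∀ n : ℕ, k * r ^ n = (r ^ n)⁻¹ * k := fun n => by
    rw [← inv_pow, ← hinv, conj_pow, hk.inv_eq, mul_assoc, hk.mul_self, mul_one]
  have hkw : k * w = w * k := by rw [hw, hkr, ← hw, hwi]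
  have hk'w : k' * w = w * k' := by
    have hk'e : k' = k * r := by rw [hr, ← mul_assoc, hk.mul_self, one_mul]
    rw [hk'e, mul_assoc, ((Commute.refl r).pow_right m).eq, ← mul_assoc, hkw, mul_assoc]
  -- `k * w` is a conjugate of `k` or `k'`
  have hkwF : FixInv Ω (k * w) := by
    rcases Nat.even_or_odd m with ⟨j, hj⟩ | ⟨j, hj⟩
    · have e : k * w = (r ^ j)⁻¹ * k * ((r ^ j)⁻¹)⁻¹ := by
        rw [hw, hj, pow_add, ← mul_assoc, hkr, inv_inv]
      rw [e]; exact hk.conj _
    · have e : k * w = (r ^ j)⁻¹ * k' * ((r ^ j)⁻¹)⁻¹ := by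
        rw [hw, hj, show 2 * j + 1 = j + (1 + j) by ring, pow_add, pow_add, pow_one, ← mul_assoc,
          hkr, inv_inv, hr]
        simp only [mul_assoc]
        rw [← mul_assoc k k, hk.mul_self, one_mul]
      rw [e]; exact hk'.conj _
  have h1 : fixedBy Ω (k * w) = fixedBy Ω k :=
    fix_eq_of_commute hun hkwF hk (by rw [mul_assoc, ← hkw])
  have hwF : FixInv Ω w := by
    obtain ⟨x, hx⟩ := hk.2
    have hx' : (k * w) • x = x := by
      have := hx
      rw [← h1] at this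
      exact this
    refine ⟨hwo, x, ?_⟩
    rw [mem_fixedBy] at hx ⊢
    rw [mul_smul, smul_eq_iff_eq_inv_smul, hk.inv_eq, hx] at hx'
    exact hx'
  exact hne ((fix_eq_of_commute hun hk hwF hkw).trans (fix_eq_of_commute hun hk' hwF hk'w).symm)

/-- Two involutions with different fixed point sets: a third one swaps the two sets. -/
theorem exists_swapper (hun : ∀ S : Sylow 2 G, ¬ Mixed ↥(S : Subgroup G) Ω) {k k' : G}
    (hk : FixInv Ω k) (hk' : FixInv Ω k') (hne : fixedBy Ω k ≠ fixedBy Ω k') :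
    ∃ c : G, FixInv Ω c ∧ c * k * c⁻¹ = k' := by
  obtain ⟨j, hj⟩ := odd_prod hun hk hk' hne
  set r := k * k' with hr
  have hinv : k * r * k⁻¹ = r⁻¹ := by
    rw [hr, mul_inv_rev, hk.inv_eq, hk'.inv_eq, ← mul_assoc, hk.mul_self, one_mul]
  have hkr : ∀ n : ℕ, k * r ^ n = (r ^ n)⁻¹ * k := fun n => by
    rw [← inv_pow, ← hinv, conj_pow, hk.inv_eq, mul_assoc, hk.mul_self, mul_one]
  have hper : r ^ (2 * j + 1) = 1 := by rw [← hj]; exact pow_orderOf_eq_one r
  set i := (j + 1) * (j + 1) with hi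
  refine ⟨(r ^ i)⁻¹ * k * ((r ^ i)⁻¹)⁻¹, hk.conj _, ?_⟩
  have e1 : (r ^ i)⁻¹ * k * ((r ^ i)⁻¹)⁻¹ = k * r ^ (j + 1) := by
    rw [inv_inv, ← hkr, mul_assoc, ← pow_add,
      show i + i = (2 * j + 1) * (j + 1) + (j + 1) by rw [hi]; ring, pow_add, pow_mul, hper, one_pow,
      one_mul]
  rw [e1, mul_inv_rev, hk.inv_eq]
  calc k * r ^ (j + 1) * k * ((r ^ (j + 1))⁻¹ * k)
      = k * r ^ (j + 1) * k * (k * r ^ (j + 1)) := by rw [hkr]
    _ = k * r ^ (j + 1) * (k * k) * r ^ (j + 1) := by simp only [mul_assoc]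
    _ = k * (r ^ (j + 1) * r ^ (j + 1)) := by rw [hk.mul_self, mul_one, mul_assoc]
    _ = k * r := by
        rw [← pow_add, show j + 1 + (j + 1) = (2 * j + 1) + 1 by ring, pow_succ, hper, one_mul]
    _ = k' := by rw [hr, ← mul_assoc, hk.mul_self, one_mul]

section Finsets

variable [FaithfulSMul G Ω] [Finite Ω]

/-- The involutions with a fixed point. -/
noncomputable def invols (G Ω : Type*) [Group G] [Finite G] [MulAction G Ω] : Finset G :=
  (Set.toFinite {k : G | FixInv Ω k}).toFinset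

theorem mem_invols {k : G} : k ∈ invols G Ω ↔ FixInv Ω k := by simp [invols]

/-- The involutions with a given set of fixed points. -/
noncomputable def fibre (G : Type*) {Ω : Type*} [Group G] [Finite G] [MulAction G Ω] (A : Set Ω) :
    Finset G :=
  (invols G Ω).filter fun k => fixedBy Ω k = A

theorem mem_fibre {A : Set Ω} {k : G} : k ∈ fibre G A ↔ FixInv Ω k ∧ fixedBy Ω k = A := by
  simp [fibre, mem_invols]

/-- An odd set invariant under an involutive map contains a fixed point. -/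
theorem exists_fixed {α : Type*} {s : Finset α} (hs : Odd s.card) (f : α → α)
    (hmem : ∀ x ∈ s, f x ∈ s) (hf : ∀ x ∈ s, f (f x) = x) : ∃ x ∈ s, f x = x := by
  classical
  by_contra hno
  push Not at hno
  haveI : Fact (Nat.Prime 2) := ⟨Nat.prime_two⟩
  let F : Function.End s := fun x => ⟨f x, hmem x x.2⟩
  have h := Equiv.Perm.card_fixedPoints_modEq (α := s) (f := F) (p := 2) (n := 1)
    (by funext x; exact Subtype.ext (hf x x.2))
  have h0 : Fintype.card (Function.fixedPoints F) = 0 := by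
    rw [Fintype.card_eq_zero_iff]
    exact ⟨fun x => hno _ x.1.2 (congrArg Subtype.val x.2)⟩
  rw [h0, Fintype.card_coe] at h
  exact (Nat.not_even_iff_odd.2 hs) (Nat.even_iff.2 h)

theorem inv_fix_of_fixing (h4 : InvFour G Ω) {k w : G} (hk : FixInv Ω k) (hw : orderOf w = 2)
    (hwk : w ∈ fixingSubgroup G (fixedBy Ω k)) : FixInv Ω w ∧ fixedBy Ω w = fixedBy Ω k := by
  obtain ⟨x, hx⟩ := hk.2
  have hne : (fixedBy Ω w).Nonempty := ⟨x, subset_fixedBy_of_mem_fixing hwk hx⟩
  exact ⟨⟨hw, hne⟩, (Set.eq_of_subset_of_ncard_le (subset_fixedBy_of_mem_fixing hwk)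
    (le_of_eq ((h4 w hw hne).trans (h4 k hk.1 hk.2).symm))).symm⟩

theorem odd_fibre (h4 : InvFour G Ω) {k : G} (hk : FixInv Ω k) :
    Odd (fibre G (fixedBy Ω k)).card := by
  classical
  set L := fixingSubgroup G (fixedBy Ω k)
  have hkL : k ∈ L := mem_fixing_fixedBy k
  have hev : Even (Nat.card L) := by
    rw [even_iff_two_dvd, ← hk.1]
    exact Subgroup.orderOf_dvd_natCard L hkL
  have h := Recog.SuzThree.odd_card_involutions (W := L) hev
  have e : {w : L // orderOf w = 2} ≃ fibre G (fixedBy Ω k) :=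
    { toFun := fun w => ⟨(w : L), mem_fibre.2 (inv_fix_of_fixing h4 hk
        ((Subgroup.orderOf_coe _).trans w.2) (w : L).2)⟩
      invFun := fun w => ⟨⟨(w : G), by
        have := mem_fixing_fixedBy (Ω := Ω) (w : G)
        rw [(mem_fibre.1 w.2).2] at this
        exact this⟩, by
        rw [orderOf_mk]; exact (mem_fibre.1 w.2).1.1⟩
      left_inv := fun w => Subtype.ext (Subtype.ext rfl)
      right_inv := fun w => Subtype.ext rfl }
  rwa [Nat.card_congr e, Nat.card_eq_fintype_card, Fintype.card_coe] at h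

/-- An involution with fixed points stabilizes no other fixed point set. -/
theorem eq_of_stabilizes (hun : ∀ S : Sylow 2 G, ¬ Mixed ↥(S : Subgroup G) Ω) (h4 : InvFour G Ω)
    {k k' : G} (hk : FixInv Ω k) (hk' : FixInv Ω k')
    (hs : k • fixedBy Ω k' = fixedBy Ω k') : fixedBy Ω k = fixedBy Ω k' := by
  obtain ⟨w, hw, hfix⟩ := exists_fixed (odd_fibre h4 hk') (fun w => k * w * k⁻¹)
    (fun w hw => by
      obtain ⟨h1, h2⟩ := mem_fibre.1 hw
      refine mem_fibre.2 ⟨h1.conj k, ?_⟩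
      rw [fixedBy_conj, h2, hs])
    (fun w _ => by
      rw [hk.inv_eq]
      simp only [← mul_assoc, hk.mul_self, one_mul]
      rw [mul_assoc, hk.mul_self, mul_one])
  obtain ⟨h1, h2⟩ := mem_fibre.1 hw
  rw [← h2]
  exact fix_eq_of_commute hun hk h1 (mul_inv_eq_iff_eq_mul.1 hfix)

theorem card_fibre_smul (g : G) (A : Set Ω) : (fibre G (g • A)).card = (fibre G A).card := by
  classical
  refine (Finset.card_nbij' (fun k => g * k * g⁻¹) (fun k => g⁻¹ * k * g) ?_ ?_ ?_ ?_).symm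
  · intro k hk
    obtain ⟨h1, h2⟩ := mem_fibre.1 (Finset.mem_coe.1 hk)
    exact Finset.mem_coe.2 (mem_fibre.2 ⟨h1.conj g, by rw [fixedBy_conj, h2]⟩)
  · intro k hk
    obtain ⟨h1, h2⟩ := mem_fibre.1 (Finset.mem_coe.1 hk)
    refine Finset.mem_coe.2 (mem_fibre.2 ⟨?_, ?_⟩)
    · have := h1.conj g⁻¹
      rwa [inv_inv] at this
    · show fixedBy Ω (g⁻¹ * k * g) = A
      rw [show g⁻¹ * k * g = g⁻¹ * k * g⁻¹⁻¹ by rw [inv_inv], fixedBy_conj, h2, inv_smul_smul]
  · intro k _; group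
  · intro k _; group

/-! ### swappers of a pair -/

theorem swap_back {k : G} (hk : FixInv Ω k) {A B : Set Ω} (h : k • A = B) : k • B = A := by
  rw [← h, ← mul_smul, hk.mul_self, one_smul]

variable (hfix : ∀ g : G, g ≠ 1 → (fixedBy Ω g).ncard ≤ 4)
  (hun : ∀ S : Sylow 2 G, ¬ Mixed ↥(S : Subgroup G) Ω) (h4 : InvFour G Ω)
  {A B : Set Ω} (hA : ∃ k : G, FixInv Ω k ∧ fixedBy Ω k = A)
  (hB : ∃ k : G, FixInv Ω k ∧ fixedBy Ω k = B)
  (hAB : A ≠ B)

include hfix hun h4 hA hB hAB in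
theorem swap_cube {k l : G} (hk : FixInv Ω k) (hl : FixInv Ω l) (hkA : k • A = B) (hlA : l • A = B) :
    (k * l) ^ 3 = 1 := by
  classical
  obtain ⟨ka, hka, hkaA⟩ := hA
  obtain ⟨kb, hkb, hkbB⟩ := hB
  set b := k * l with hb
  have hbA : b • A = A := by rw [hb, mul_smul, hlA, swap_back hk hkA]
  have hbB : b • B = B := by rw [hb, mul_smul, swap_back hl hlA, hkA]
  have hodd : Odd (orderOf b) := by
    by_cases hne : fixedBy Ω k = fixedBy Ω l
    · rw [← Nat.not_even_iff_odd]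
      intro he
      obtain ⟨m, hm⟩ := he
      have hpos := orderOf_pos b
      have hw : orderOf (b ^ m) = 2 := by
        haveI : Fact (Nat.Prime 2) := ⟨Nat.prime_two⟩
        refine orderOf_eq_prime ?_ ?_
        · rw [← pow_mul, mul_two, ← hm, pow_orderOf_eq_one]
        · exact pow_ne_one_of_lt_orderOf (by omega) (by omega)
      have hbL : b ∈ fixingSubgroup G (fixedBy Ω k) :=
        mul_mem (mem_fixing_fixedBy k) (hne ▸ mem_fixing_fixedBy l)
      obtain ⟨hwF, hwk⟩ := inv_fix_of_fixing h4 hk hw (pow_mem hbL m)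
      have e1 := eq_of_stabilizes hun h4 hwF hka
        (by rw [hkaA]; exact mem_stabilizer_iff.1 (pow_mem (mem_stabilizer_iff.2 hbA) m))
      have e2 := eq_of_stabilizes hun h4 hwF hkb
        (by rw [hkbB]; exact mem_stabilizer_iff.1 (pow_mem (mem_stabilizer_iff.2 hbB) m))
      exact hAB (by rw [← hkaA, ← hkbB, ← e1, ← e2])
    · exact odd_prod hun hk hl hne
  have hcube : ∀ C : Set Ω, C.ncard = 4 → ∀ hC : b • C = C, b ^ 3 ∈ fixingSubgroup G C := by
    intro C hC4 hC
    haveI : Finite C := Set.toFinite C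
    let e : C ≃ Fin 4 := (Finite.equivFinOfCardEq (by rw [Nat.card_coe_set_eq]; exact hC4))
    have h12 := Unmixed.perm_four_pow (permHom C e ⟨b, mem_stabilizer_iff.2 hC⟩)
    set q := permHom C e ⟨b, mem_stabilizer_iff.2 hC⟩
    have hq : orderOf q ∣ orderOf b := by
      have := orderOf_map_dvd (permHom C e) ⟨b, mem_stabilizer_iff.2 hC⟩
      rwa [orderOf_mk] at this
    have h3 : orderOf q ∣ 3 := by
      have hc : (orderOf q).Coprime 4 := by
        exact Nat.Coprime.pow_right 2 (Nat.Coprime.coprime_dvd_left hq hodd.coprime_two_right)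
      exact hc.dvd_of_dvd_mul_left (show orderOf q ∣ 4 * 3 from orderOf_dvd_of_pow_eq_one h12)
    have h1 : permHom C e (⟨b, mem_stabilizer_iff.2 hC⟩ ^ 3) = 1 := by
      rw [map_pow]; exact orderOf_dvd_iff_pow_eq_one.1 h3
    exact (permHom_eq_one_iff C e _).1 h1
  have hA4 : A.ncard = 4 := hkaA ▸ h4 ka hka.1 hka.2
  have hB4 : B.ncard = 4 := hkbB ▸ h4 kb hkb.1 hkb.2
  obtain ⟨x, hxB, hxA⟩ : ∃ x ∈ B, x ∉ A := by
    by_contra h
    push Not at h
    exact hAB (Set.eq_of_subset_of_ncard_le h (by omega)).symm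
  exact eq_one_of_fix_more hfix hA4 (hcube A hA4 hbA) hxA
    (subset_fixedBy_of_mem_fixing (hcube B hB4 hbB) hxB)

include hfix h4 hA hB hAB in
theorem swap_determined {k l : G} (hk : FixInv Ω k) (hl : FixInv Ω l) (hkA : k • A = B)
    (hlA : l • A = B) (hfixA : k * l ∈ fixingSubgroup G A) : k = l := by
  obtain ⟨ka, hka, hkaA⟩ := hA
  obtain ⟨kb, hkb, hkbB⟩ := hB
  have hA4 : A.ncard = 4 := hkaA ▸ h4 ka hka.1 hka.2
  have hB4 : B.ncard = 4 := hkbB ▸ h4 kb hkb.1 hkb.2
  obtain ⟨x, hxB, hxA⟩ : ∃ x ∈ B, x ∉ A := by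
    by_contra h
    push Not at h
    exact hAB (Set.eq_of_subset_of_ncard_le h (by omega)).symm
  have hkl : k * l = 1 := by
    refine eq_one_of_fix_more hfix hA4 hfixA hxA ?_
    have hkx : k • x ∈ A := by rw [← swap_back hk hkA]; exact Set.smul_mem_smul_set hxB
    have h1 : (k * l) • (k • x) = k • x := (mem_fixingSubgroup_iff G).1 hfixA _ hkx
    rw [mul_smul, smul_left_cancel_iff] at h1
    -- `l (k x) = x`
    have h2 : k • x = l • x := by
      conv_rhs => rw [← h1, ← mul_smul, hl.mul_self, one_smul]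
    rw [mul_smul, ← h2, ← mul_smul, hk.mul_self, one_smul]
  calc k = k * l * l := by rw [mul_assoc, hl.mul_self, mul_one]
    _ = l := by rw [hkl, one_mul]

include hfix hun h4 hA hB hAB in
theorem card_swappers : ((invols G Ω).filter fun k => k • A = B).card ≤ 3 := by
  set s := (invols G Ω).filter fun k => k • A = B with hs
  have hmem : ∀ k ∈ s, FixInv Ω k ∧ k • A = B := fun k hk =>
    ⟨mem_invols.1 (Finset.mem_filter.1 hk).1, (Finset.mem_filter.1 hk).2⟩
  by_contra hlt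
  push Not at hlt
  obtain ⟨k, hk⟩ : s.Nonempty := Finset.card_pos.1 (by omega)
  obtain ⟨a, b, c, ha, hb, hc, hab, hac, hbc⟩ := Finset.two_lt_card_iff.1
    (show 2 < (s.erase k).card by rw [Finset.card_erase_of_mem hk]; omega)
  rw [Finset.mem_erase] at ha hb hc
  obtain ⟨ka, hka, hkaA⟩ := hA
  haveI : Finite A := Set.toFinite A
  let e : A ≃ Fin 4 := Finite.equivFinOfCardEq
    (by rw [Nat.card_coe_set_eq]; exact hkaA ▸ h4 ka hka.1 hka.2)
  have hst : ∀ u ∈ s, ∀ w ∈ s, u * w ∈ stabilizer G A := fun u hu w hw => by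
    rw [mem_stabilizer_iff, mul_smul, (hmem w hw).2, swap_back (hmem u hu).1 (hmem u hu).2]
  let q : (u : G) → u ∈ s → (w : G) → w ∈ s → Perm (Fin 4) := fun u hu w hw =>
    permHom A e ⟨u * w, hst u hu w hw⟩
  have hq3 : ∀ u hu w hw, q u hu w hw ^ 3 = 1 := fun u hu w hw => by
    show permHom A e _ ^ 3 = 1
    rw [← map_pow, show (⟨u * w, hst u hu w hw⟩ : stabilizer G A) ^ 3 = 1 from
      Subtype.ext (swap_cube hfix hun h4 ⟨ka, hka, hkaA⟩ hB hAB (hmem u hu).1 (hmem w hw).1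
        (hmem u hu).2 (hmem w hw).2), map_one]
  have hq1 : ∀ u hu w hw, q u hu w hw = 1 → u = w := fun u hu w hw h =>
    swap_determined hfix h4 ⟨ka, hka, hkaA⟩ hB hAB (hmem u hu).1 (hmem w hw).1 (hmem u hu).2
      (hmem w hw).2 ((permHom_eq_one_iff A e _).1 h)
  have hquot : ∀ u hu w hw, (q k hk u hu)⁻¹ * q k hk w hw = q u hu w hw := fun u hu w hw => by
    show (permHom A e _)⁻¹ * permHom A e _ = permHom A e _
    rw [← map_inv, ← map_mul]
    refine congrArg _ (Subtype.ext ?_)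
    show (k * u)⁻¹ * (k * w) = u * w
    rw [mul_inv_rev, (hmem u hu).1.inv_eq, (hmem k hk).1.inv_eq, mul_assoc, ← mul_assoc k,
      (hmem k hk).1.mul_self, one_mul]
  have hne : ∀ u hu w hw, u ≠ w → q k hk u hu ≠ q k hk w hw := fun u hu w hw huw h =>
    huw (hq1 u hu w hw (by rw [← hquot u hu w hw, h, inv_mul_cancel]))
  have h1 : ∀ u hu, u ≠ k → q k hk u hu ≠ 1 := fun u hu huk h => huk (hq1 k hk u hu h).symm
  exact three_classes _ (hq3 k hk a ha.2) (h1 a ha.2 ha.1) _ (hq3 k hk b hb.2) (h1 b hb.2 hb.1)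
    (hne a ha.2 b hb.2 hab) (by rw [hquot a ha.2 b hb.2]; exact hq3 a ha.2 b hb.2) _ (hq3 k hk c hc.2)
    (h1 c hc.2 hc.1) (hne a ha.2 c hc.2 hac) (hne b hb.2 c hc.2 hbc)
    (by rw [hquot a ha.2 c hc.2]; exact hq3 a ha.2 c hc.2) (by rw [hquot b hb.2 c hc.2]; exact hq3 b hb.2 c hc.2)

end Finsets

end Unmixed

open Unmixed in
/-- If no Sylow two-subgroup is mixed: strongly embedded subgroup or small sectional rank. -/
theorem se_or_rank_of_unmixed {G Ω : Type*} [Group G] [Finite G] [MulAction G Ω]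
    [FaithfulSMul G Ω] [Finite Ω] (h : Hyp G Ω) (h4 : InvFour G Ω)
    (hex : ∃ t : G, orderOf t = 2 ∧ (fixedBy Ω t).Nonempty)
    (hun : ∀ S : Sylow 2 G, ¬ Mixed ↥(S : Subgroup G) Ω) :
    (∃ H : Subgroup G, Cfsg.IsStronglyEmbedded H) ∨
      ∀ S : Sylow 2 G, Cfsg.SectionalPRankLE 2 4 ↥(S : Subgroup G) := by
  classical
  obtain ⟨t, ht1, ht2⟩ := hex
  have ht : FixInv Ω t := ⟨ht1, ht2⟩
  haveI := h.trans
  set D0 := fixedBy Ω t with hD0
  set Δ := (invols G Ω).image fun k => fixedBy Ω k with hΔ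
  have hΔmem : ∀ A, A ∈ Δ ↔ ∃ k : G, FixInv Ω k ∧ fixedBy Ω k = A := fun A => by
    simp [hΔ, mem_invols]
  have hΔsmul : ∀ (g : G), ∀ A ∈ Δ, g • A ∈ Δ := fun g A hA => by
    obtain ⟨k, hk, rfl⟩ := (hΔmem A).1 hA
    exact (hΔmem _).2 ⟨g * k * g⁻¹, hk.conj g, fixedBy_conj k g⟩
  have hD0Δ : D0 ∈ Δ := (hΔmem _).2 ⟨t, ht, rfl⟩
  have htrans : ∀ A ∈ Δ, ∃ g : G, g • D0 = A := fun A hA => by
    obtain ⟨k, hk, rfl⟩ := (hΔmem A).1 hA
    by_cases hne : fixedBy Ω t = fixedBy Ω k
    · exact ⟨1, by rw [one_smul, hD0, hne]⟩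
    · obtain ⟨c, -, hc⟩ := exists_swapper hun ht hk hne
      exact ⟨c, by rw [hD0, ← fixedBy_conj, hc]⟩
  obtain ⟨g0, hg0⟩ : ∃ g : G, g • D0 ≠ D0 := by
    by_contra hall
    push Not at hall
    obtain ⟨x, hx⟩ := ht2
    have huniv : D0 = Set.univ := Set.eq_univ_of_forall fun y => by
      obtain ⟨g, rfl⟩ := MulAction.exists_smul_eq G x y
      rw [← hall g]
      exact Set.smul_mem_smul_set hx
    have h5 := h.five
    have h4' := h4 t ht1 ht.2
    rw [← hD0, huniv, Set.ncard_univ] at h4'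
    omega
  by_cases hv : ∃ v : G, orderOf v = 2 ∧ ∃ A ∈ Δ, ∃ B ∈ Δ, A ≠ B ∧ v • A = A ∧ v • B = B
  swap
  · -- a strongly embedded subgroup
    left
    refine ⟨stabilizer G D0, fun htop => hg0 (mem_stabilizer_iff.1 (htop ▸ mem_top g0)), ?_,
      fun g hg => ?_⟩
    · rw [even_iff_two_dvd, ← ht1]
      exact Subgroup.orderOf_dvd_natCard _
        (fixingSubgroup_le_stabilizer D0 (mem_fixing_fixedBy t))
    · rw [← Nat.not_even_iff_odd, even_iff_two_dvd]
      intro h2
      haveI : Fact (Nat.Prime 2) := ⟨Nat.prime_two⟩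
      obtain ⟨⟨w, hw⟩, hwo⟩ := exists_prime_orderOf_dvd_card' 2 h2
      rw [orderOf_mk] at hwo
      obtain ⟨hw1, hw2⟩ := mem_inf.1 hw
      obtain ⟨s, hs, rfl⟩ := mem_map.1 hw2
      refine hv ⟨_, hwo, D0, hD0Δ, g • D0, hΔsmul g _ hD0Δ, fun e => hg (mem_stabilizer_iff.2 e.symm),
        mem_stabilizer_iff.1 hw1, ?_⟩
      show (g * s * g⁻¹) • g • D0 = g • D0
      rw [mul_smul, inv_smul_smul, mul_smul, mem_stabilizer_iff.1 hs]
  right
  obtain ⟨v, hvo, A, hAΔ, B, hBΔ, hAB, hvA, hvB⟩ := hv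
  have hA := (hΔmem A).1 hAΔ
  have hB := (hΔmem B).1 hBΔ
  -- one involution for each set
  have hone : (fibre G D0).card = 1 := by
    set i := (fibre G D0).card with hi
    have hiodd : Odd i := odd_fibre h4 ht
    have hfib : ∀ C ∈ Δ, ((invols G Ω).filter fun k => fixedBy Ω k = C).card = i := fun C hC => by
      obtain ⟨g, rfl⟩ := htrans C hC
      exact card_fibre_smul g D0
    have hF : (invols G Ω).card = Δ.card * i := by
      rw [Finset.card_eq_sum_card_image (fun k => fixedBy Ω k) (invols G Ω), ← hΔ,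
        Finset.sum_congr rfl hfib, Finset.sum_const, smul_eq_mul]
    let T : Finset (G × Set Ω) := (invols G Ω ×ˢ Δ).filter fun p => fixedBy Ω p.1 ≠ p.2
    have hT : T.card = (invols G Ω).card * (Δ.card - 1) := by
      have e : T = (invols G Ω).biUnion fun k => ({k} : Finset G) ×ˢ (Δ.erase (fixedBy Ω k)) := by
        ext ⟨k, C⟩
        simp [T, ne_comm, and_comm, and_assoc, and_left_comm]
      rw [e, Finset.card_biUnion]
      · rw [Finset.sum_congr rfl (fun k hk => by
          rw [Finset.card_product, Finset.card_singleton, one_mul,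
            Finset.card_erase_of_mem ((hΔmem _).2 ⟨k, mem_invols.1 hk, rfl⟩)]),
          Finset.sum_const, smul_eq_mul]
      · intro k _ l _ hkl
        simp only [Function.onFun, Finset.disjoint_left]
        rintro ⟨a, C⟩ ha hb
        simp only [Finset.mem_product, Finset.mem_singleton] at ha hb
        exact hkl (ha.1.symm.trans hb.1)
    let φ : G × Set Ω → Set Ω × Set Ω := fun p => (p.2, p.1 • p.2)
    have hφ : ∀ p ∈ T, φ p ∈ Δ.offDiag := fun p hp => by
      simp only [T, Finset.mem_filter, Finset.mem_product] at hp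
      refine Finset.mem_offDiag.2 ⟨hp.1.2, hΔsmul _ _ hp.1.2, fun e => hp.2 ?_⟩
      obtain ⟨k', hk', hk'C⟩ := (hΔmem _).1 hp.1.2
      have e' : p.2 = p.1 • p.2 := e
      rw [← hk'C]
      exact eq_of_stabilizes hun h4 (mem_invols.1 hp.1.1) hk' (by rw [hk'C]; exact e'.symm)
    have hfibre : ∀ P ∈ Δ.offDiag, (T.filter fun p => φ p = P).card =
        ((invols G Ω).filter fun k => k • P.1 = P.2).card := by
      rintro ⟨C, E⟩ hP
      obtain ⟨hC, -, hCE⟩ := Finset.mem_offDiag.1 hP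
      refine Finset.card_nbij' (fun p => p.1) (fun k => (k, C)) ?_ ?_ ?_ ?_
      · rintro ⟨k, D⟩ hp
        simp only [T, φ, Finset.coe_filter, Finset.mem_filter, Finset.mem_product, Set.mem_setOf_eq,
          Prod.mk.injEq] at hp ⊢
        obtain ⟨⟨⟨h1, -⟩, -⟩, rfl, h3⟩ := hp
        exact ⟨h1, h3⟩
      · intro k hk
        simp only [T, φ, Finset.coe_filter, Finset.mem_filter, Finset.mem_product,
          Set.mem_setOf_eq] at hk ⊢
        refine ⟨⟨⟨hk.1, hC⟩, fun e => hCE ?_⟩, by rw [hk.2]⟩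
        rw [← hk.2, ← e]
        exact (smul_fixedBy_of_commute (Commute.refl k)).symm
      · rintro ⟨k, D⟩ hp
        simp only [φ, Finset.coe_filter, Set.mem_setOf_eq, Prod.mk.injEq] at hp
        obtain ⟨-, rfl, -⟩ := hp
        rfl
      · intro k _; rfl
    have hsum : T.card = ∑ P ∈ Δ.offDiag, ((invols G Ω).filter fun k => k • P.1 = P.2).card := by
      rw [Finset.card_eq_sum_card_fiberwise hφ]
      exact Finset.sum_congr rfl hfibre
    have hle : ∀ P ∈ Δ.offDiag, ((invols G Ω).filter fun k => k • P.1 = P.2).card ≤ 3 := by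
      rintro ⟨C, E⟩ hP
      obtain ⟨hC, hE, hCE⟩ := Finset.mem_offDiag.1 hP
      exact card_swappers h.fix_le hun h4 ((hΔmem C).1 hC) ((hΔmem E).1 hE) hCE
    have hn2 : 2 ≤ Δ.card := Finset.one_lt_card.2 ⟨A, hAΔ, B, hBΔ, hAB⟩
    have hoff : Δ.offDiag.card = Δ.card * (Δ.card - 1) := by
      rw [Finset.offDiag_card, Nat.mul_sub, mul_one]
    have hbound : Δ.card * (Δ.card - 1) * i ≤ Δ.card * (Δ.card - 1) * 3 := by
      have := (hsum ▸ Finset.sum_le_card_nsmul _ _ 3 hle : T.card ≤ Δ.offDiag.card • 3)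
      rw [hT, hF, hoff, smul_eq_mul] at this
      calc Δ.card * (Δ.card - 1) * i = Δ.card * i * (Δ.card - 1) := by ring
        _ ≤ _ := this
    have hi3 : i ≤ 3 := Nat.le_of_mul_le_mul_left hbound (Nat.mul_pos (by omega) (by omega))
    by_contra hne
    have hi3' : i = 3 := by
      obtain ⟨j, hj⟩ := hiodd
      omega
    -- every pair has exactly three swappers
    have hall : ∀ P ∈ Δ.offDiag, ((invols G Ω).filter fun k => k • P.1 = P.2).card = 3 := by
      refine (Finset.sum_eq_sum_iff_of_le hle).1 ?_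
      rw [← hsum, hT, hF, hi3', Finset.sum_const, hoff, smul_eq_mul]
      ring
    set Sw := (invols G Ω).filter fun k => k • A = B with hSw
    have hSw3 : Sw.card = 3 := hall (A, B) (Finset.mem_offDiag.2 ⟨hAΔ, hBΔ, hAB⟩)
    have hmem : ∀ k ∈ Sw, FixInv Ω k ∧ k • A = B := fun k hk =>
      ⟨mem_invols.1 (Finset.mem_filter.1 hk).1, (Finset.mem_filter.1 hk).2⟩
    have hvv : v * v = 1 := by rw [← pow_two, ← hvo, pow_orderOf_eq_one]
    have hvi : v⁻¹ = v := inv_eq_of_mul_eq_one_right hvv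
    have hSwv : ∀ k ∈ Sw, v * k * v⁻¹ ∈ Sw := fun k hk => by
      refine Finset.mem_filter.2 ⟨mem_invols.2 ((hmem k hk).1.conj v), ?_⟩
      rw [mul_smul, mul_smul, hvi, hvA, (hmem k hk).2, hvB]
    obtain ⟨k1, hk1, hk1v⟩ := exists_fixed (by rw [hSw3]; decide) (fun k => v * k * v⁻¹) hSwv
      (fun k _ => by
        rw [hvi]
        simp only [← mul_assoc, hvv, one_mul]
        rw [mul_assoc, hvv, mul_one])
    obtain ⟨k2, hk2, hk21⟩ := Finset.exists_mem_ne (by rw [hSw3]; norm_num : 1 < Sw.card) k1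
    obtain ⟨ka, hka, hkaA⟩ := hA
    haveI : Finite A := Set.toFinite A
    let e : A ≃ Fin 4 := Finite.equivFinOfCardEq
      (by rw [Nat.card_coe_set_eq]; exact hkaA ▸ h4 ka hka.1 hka.2)
    have hst : ∀ u ∈ Sw, ∀ w ∈ Sw, u * w ∈ stabilizer G A := fun u hu w hw => by
      rw [mem_stabilizer_iff, mul_smul, (hmem w hw).2, swap_back (hmem u hu).1 (hmem u hu).2]
    set p := permHom A e ⟨v, mem_stabilizer_iff.2 hvA⟩ with hp
    set q := permHom A e ⟨k1 * k2, hst _ hk1 _ hk2⟩ with hq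
    have hcube : ∀ u ∈ Sw, ∀ w ∈ Sw, (u * w) ^ 3 = 1 := fun u hu w hw =>
      swap_cube h.fix_le hun h4 ⟨ka, hka, hkaA⟩ hB hAB (hmem u hu).1 (hmem w hw).1 (hmem u hu).2
        (hmem w hw).2
    have hq1 : q = 1 := by
      refine no_commuting p ?_ ?_ q ?_ ?_
      · rw [hp, ← map_mul, show (⟨v, mem_stabilizer_iff.2 hvA⟩ : stabilizer G A) *
          ⟨v, mem_stabilizer_iff.2 hvA⟩ = 1 from Subtype.ext hvv, map_one]
      · intro i hi'
        have hfix' : v • ((e.symm i : A) : Ω) = ((e.symm i : A) : Ω) := by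
          have h1 := permHom_apply A e ⟨v, mem_stabilizer_iff.2 hvA⟩ i
          rw [← hp, hi'] at h1
          exact h1.symm
        have hvF : FixInv Ω v := ⟨hvo, _, hfix'⟩
        obtain ⟨kb, hkb, hkbB⟩ := hB
        have e1 := eq_of_stabilizes hun h4 hvF hka (by rw [hkaA]; exact hvA)
        have e2 := eq_of_stabilizes hun h4 hvF hkb (by rw [hkbB]; exact hvB)
        exact hAB (by rw [← hkaA, ← hkbB, ← e1, ← e2])
      · rw [hq, ← map_pow, show (⟨k1 * k2, hst _ hk1 _ hk2⟩ : stabilizer G A) ^ 3 = 1 from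
          Subtype.ext (hcube _ hk1 _ hk2), map_one]
      · rw [hq, hp, ← map_mul, ← map_mul, ← map_inv, ← map_mul, ← map_pow]
        refine (congrArg _ (Subtype.ext ?_)).trans (map_one _)
        show ((k1 * k2)⁻¹ * (v * (k1 * k2) * v)) ^ 3 = 1
        have e' : (k1 * k2)⁻¹ * (v * (k1 * k2) * v) = k2 * (v * k2 * v⁻¹) := by
          calc (k1 * k2)⁻¹ * (v * (k1 * k2) * v)
              = k2⁻¹ * k1⁻¹ * ((v * k1 * v⁻¹) * (v * k2 * v)) := by group
            _ = k2⁻¹ * k1⁻¹ * (k1 * (v * k2 * v)) := by rw [hk1v]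
            _ = k2⁻¹ * (v * k2 * v) := by group
            _ = _ := by rw [(hmem k2 hk2).1.inv_eq, hvi]
        rw [e']
        exact hcube _ hk2 _ (hSwv _ hk2)
    exact hk21 (swap_determined h.fix_le h4 ⟨ka, hka, hkaA⟩ hB hAB (hmem k1 hk1).1 (hmem k2 hk2).1
      (hmem k1 hk1).2 (hmem k2 hk2).2 ((permHom_eq_one_iff A e _).1 hq1)).symm
  -- the sectional rank
  intro S
  haveI : Fact (Nat.Prime 2) := ⟨Nat.prime_two⟩
  obtain ⟨S0, hS0⟩ := (IsPGroup.of_card (p := 2) (n := 1) (G := zpowers t)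
    (by rw [Nat.card_zpowers, ht1, pow_one])).exists_le_sylow
  obtain ⟨g, hg⟩ := MulAction.exists_smul_eq G S0 S
  set k := g * t * g⁻¹ with hk
  have hkF : FixInv Ω k := ht.conj g
  have hkS : k ∈ (S : Subgroup G) := by
    rw [← hg, Sylow.coe_subgroup_smul]
    exact smul_mem_pointwise_smul t (MulAut.conj g) _ (hS0 (mem_zpowers t))
  set D := fixedBy Ω k with hD
  have hSD : (S : Subgroup G) ≤ stabilizer G D := fun s hs => by
    rw [mem_stabilizer_iff, hD, ← fixedBy_conj]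
    exact fix_eq_of_sylow hun (hkF.conj s) hkF (mul_mem (mul_mem hs hkS) (inv_mem hs)) hkS
  have honeD : (fibre G D).card = 1 := by
    rw [hD, hk, fixedBy_conj, card_fibre_smul]; exact hone
  haveI : Finite D := Set.toFinite D
  let e : D ≃ Fin 4 := Finite.equivFinOfCardEq
    (by rw [Nat.card_coe_set_eq]; exact h4 k hkF.1 hkF.2)
  refine sectionalRank_of_perm S.2 ((permHom D e).comp (Subgroup.inclusion hSD))
    fun x y hx hy hxx hyy hx1 hy1 => ?_
  have key : ∀ z : (S : Subgroup G), permHom D e (Subgroup.inclusion hSD z) = 1 → z * z = 1 →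
      z ≠ 1 → (z : G) ∈ fibre G D := fun z hz hzz hz1 => by
    refine mem_fibre.2 (inv_fix_of_fixing h4 hkF ?_ ((permHom_eq_one_iff D e _).1 hz))
    rw [Subgroup.orderOf_coe]
    exact orderOf_eq_prime (by rw [pow_two, hzz]) hz1
  exact Subtype.ext (Finset.card_le_one.1 honeD.le _ (key x hx hxx hx1) _ (key y hy hyy hy1))

end CfsgLib.FixityFour
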