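import Cfsg.Agent.Lib.FixityFour.FourDispatch
import Cfsg.Agent.Lib.FixityFour.OddDispatch
import Cfsg.Agent.Lib.FixityFour.Lift
import Cfsg.Agent.Lib.FixityFour.Free
import Cfsg.Agent.Lib.FixityFour.Unmixed
import Cfsg.Agent.Lib.FixityFour.UnmixedRank
import Cfsg.Agent.Lib.FixityFour.OddCentral

/-!
# Simple groups of fixity four: the main cases
-/

set_option autoImplicit false
set_option linter.unusedSectionVars false
set_option linter.style.haveILetI false

namespace CfsgLib.FixityFour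

open Subgroup MulAction
open scoped Pointwise

variable {G Ω : Type*} [Group G] [Finite G] [MulAction G Ω] [FaithfulSMul G Ω] [Finite Ω]

/-- Involutions with four fixed points: strongly embedded subgroup or small rank. -/
theorem Hyp.four_case (h : Hyp G Ω)
    (hC2 : ∀ S : Sylow 2 G, TwoAct ↥(S : Subgroup G) Ω → Mixed ↥(S : Subgroup G) Ω →
      ∀ E : Subgroup ↥(S : Subgroup G), E.Normal → IsMulCommutative E → (∀ e ∈ E, e ^ 2 = 1) →
      8 ≤ Nat.card E → (∃ e ∈ E, e ≠ 1 ∧ (fixedBy Ω e).Nonempty) →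
      (∀ E' : Subgroup ↥(S : Subgroup G), E'.Normal → IsMulCommutative E' →
        (∀ e ∈ E', e ^ 2 = 1) → E ≤ E' → E' = E) →
      Cfsg.SectionalPRankLE 2 4 ↥(S : Subgroup G))
    (hex : ∃ g : G, orderOf g = 2 ∧ (fixedBy Ω g).ncard = 4) :
    (∃ H : Subgroup G, Cfsg.IsStronglyEmbedded H) ∨ Cfsg.SectionalPRankLE 2 4 G := by
  by_cases hm : ∃ S : Sylow 2 G, Mixed ↥(S : Subgroup G) Ω
  · obtain ⟨S, hS⟩ := hm
    refine Or.inr (sectionalPRankLE_of_sylow S (rank_of_mixed (h.twoAct hex S) ?_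
      (hC2 S (h.twoAct hex S) hS)))
    exact fun E a b c d e f => rank_of_free_normal (h.twoAct hex S) hS E a b c d e f
  · simp only [not_exists] at hm
    obtain ⟨g, hg, hg4⟩ := hex
    rcases se_or_rank_of_unmixed h (h.invFour ⟨g, hg, hg4⟩)
      ⟨g, hg, (Set.ncard_pos (Set.toFinite _)).1 (by omega)⟩ hm with hse | hr
    · exact Or.inl hse
    · obtain ⟨S⟩ := (inferInstance : Nonempty (Sylow 2 G))
      exact Or.inr (sectionalPRankLE_of_sylow S (hr S))

/-- If no involution fixes a point the stabilisers have odd order. -/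
theorem OddStab.odd_card_stabilizer (ho : OddStab G Ω) (a : Ω) :
    Odd (Nat.card (stabilizer G a)) := by
  rw [← Nat.not_even_iff_odd, even_iff_two_dvd]
  intro h2
  haveI : Fact (Nat.Prime 2) := ⟨Nat.prime_two⟩
  obtain ⟨x, hx⟩ := exists_prime_orderOf_dvd_card' 2 h2
  have hxa : a ∈ fixedBy Ω (x : G) := x.2
  rw [ho _ (by rw [Subgroup.orderOf_coe, hx])] at hxa
  exact hxa

end CfsgLib.FixityFour
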