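import Cfsg.Agent.Lib.FixityFour.CentralRank

/-!
# A central involution with fixed points and an involution fixing another four-set
-/

set_option autoImplicit false
set_option linter.unusedSectionVars false
set_option linter.style.haveILetI false
set_option linter.style.maxHeartbeats false

namespace CfsgLib.FixityFour

open Subgroup MulAction
open scoped Pointwise commutatorElement

namespace CentralFixed

theorem comm_of_card_le_four {S : Type*} [Group S] [Finite S] (hS : IsPGroup 2 S) (A : Subgroup S)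
    (h : Nat.card A ≤ 4) : ∀ a ∈ A, ∀ b ∈ A, a * b = b * a := by
  haveI : Fact (Nat.Prime 2) := ⟨Nat.prime_two⟩
  obtain ⟨i, hi⟩ := PGroups.card_subgroup_eq_pow hS A
  have hi2 : i ≤ 2 := (Nat.pow_le_pow_iff_right one_lt_two).1 (hi ▸ h)
  have hc : IsMulCommutative A := by
    rcases (show i = 0 ∨ i = 1 ∨ i = 2 by omega) with rfl | rfl | rfl
    · haveI : Subsingleton A := (Nat.card_eq_one_iff_unique.1 hi).1
      exact ⟨⟨fun a b => Subsingleton.elim _ _⟩⟩
    · haveI : IsCyclic A := isCyclic_of_prime_card (hi.trans (pow_one 2))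
      exact ⟨⟨fun a b => (IsCyclic.commGroup (α := A)).mul_comm a b⟩⟩
    · exact IsPGroup.isMulCommutative_of_card_eq_prime_sq (p := 2) (G := ↥A) hi
  exact fun a ha b hb => congrArg Subtype.val (hc.is_comm.comm ⟨a, ha⟩ ⟨b, hb⟩)

/-- The fixed points of an involution on an elementary abelian group of order at least eight. -/
theorem three_le_fixed {S : Type*} [Group S] [Finite S] (E : Subgroup S) [hn : E.Normal]
    (hc : ∀ a ∈ E, ∀ b ∈ E, a * b = b * a) (h2 : ∀ e ∈ E, e * e = 1) (h8 : 8 ≤ Nat.card E) {u : S}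
    (hu : u * u = 1) : 3 ≤ Nat.card ↥(E ⊓ centralizer ({u} : Set S)) := by
  have hui := inv_eq_of_mul_eq_one_right hu
  have hmem : ∀ e ∈ E, ⁅u, e⁆ ∈ E := fun e he => by
    rw [commutatorElement_def]; exact mul_mem (hn.conj_mem e he u) (inv_mem he)
  let f : ↥E →* ↥E := MonoidHom.mk' (fun e => ⟨⁅u, (e : S)⁆, hmem e e.2⟩) fun a b => Subtype.ext (by
    show ⁅u, (a : S) * b⁆ = ⁅u, (a : S)⁆ * ⁅u, (b : S)⁆
    rw [show ⁅u, (a : S) * b⁆ = ⁅u, (a : S)⁆ * ((a : S) * ⁅u, (b : S)⁆ * (a : S)⁻¹) by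
      simp only [commutatorElement_def]; group, hc _ a.2 _ (hmem b b.2), mul_inv_cancel_right])
  have hker : f.range ≤ f.ker := by
    rintro _ ⟨e, rfl⟩
    refine Subtype.ext ?_
    show ⁅u, ⁅u, (e : S)⁆⁆ = 1
    have h := hmem e e.2
    have hi : ∀ x ∈ E, x⁻¹ = x := fun x hx => inv_eq_of_mul_eq_one_right (h2 x hx)
    have h1 : u * ⁅u, (e : S)⁆ * u⁻¹ = (⁅u, (e : S)⁆)⁻¹ := by
      simp only [commutatorElement_def, hui, mul_inv_rev, hi _ e.2]
      rw [← mul_assoc, ← mul_assoc, ← mul_assoc, hu, one_mul]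
      group
    rw [commutatorElement_def u ⁅u, (e : S)⁆, h1, hi _ h]
    exact h2 _ h
  have hcard := f.ker.card_mul_index
  rw [Subgroup.index_ker] at hcard
  have hle := Subgroup.card_le_of_le hker
  have h3 : 3 ≤ Nat.card f.ker := by
    by_contra hlt
    have := Nat.mul_le_mul (show Nat.card f.ker ≤ 2 by omega)
      (show Nat.card f.range ≤ 2 by omega)
    omega
  refine h3.trans (Nat.card_le_card_of_injective
    (fun x => (⟨((x : ↥E) : S), (x : ↥E).2, Subgroup.mem_centralizer_singleton_iff.2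
      (commutatorElement_eq_one_iff_mul_comm.1 (congrArg Subtype.val x.2)).symm⟩ :
        ↥(E ⊓ centralizer ({u} : Set S)))) fun a b hab => ?_)
  exact Subtype.ext (Subtype.ext (congrArg (fun x : ↥(E ⊓ centralizer ({u} : Set S)) => (x : S)) hab))

end CentralFixed

open CentralFixed

set_option maxHeartbeats 1600000 in
/-- A central involution with fixed points bounds the sectional rank. -/
theorem rank_of_central_fixed {S Ω : Type*} [Group S] [Finite S] [MulAction S Ω] [Finite Ω]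
    (h : TwoAct S Ω) {z : S} (hzc : z ∈ center S) (hz : orderOf z = 2)
    (hzf : (fixedBy Ω z).Nonempty) {u : S} (hu : orderOf u = 2) (huf : (fixedBy Ω u).Nonempty)
    (hne : fixedBy Ω u ≠ fixedBy Ω z) (E : Subgroup S) (hEn : E.Normal) (hEc : IsMulCommutative E)
    (hE2 : ∀ e ∈ E, e ^ 2 = 1) (hE8 : 8 ≤ Nat.card E) (hzE : z ∈ E) :
    Cfsg.SectionalPRankLE 2 4 S := by
  haveI : Fact (Nat.Prime 2) := ⟨Nat.prime_two⟩
  haveI := hEn
  classical
  have hzc' : ∀ g, z * g = g * z := fun g => (Subgroup.mem_center_iff.1 hzc g).symm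
  have hzz : z * z = 1 := by rw [← pow_two, ← hz, pow_orderOf_eq_one]
  have hz1 : z ≠ 1 := fun h' => by rw [h', orderOf_one] at hz; omega
  have huu : u * u = 1 := by rw [← pow_two, ← hu, pow_orderOf_eq_one]
  have hu1 : u ≠ 1 := fun h' => by rw [h', orderOf_one] at hu; omega
  have hEcomm : ∀ a ∈ E, ∀ b ∈ E, a * b = b * a := fun a ha b hb =>
    congrArg Subtype.val (hEc.is_comm.comm ⟨a, ha⟩ ⟨b, hb⟩)
  have hEsq : ∀ e ∈ E, e * e = 1 := fun e he => sq_one (hE2 e he)
  set D := fixedBy Ω z with hD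
  have hD4 : D.ncard = 4 := h.invFour z hz hzf
  have hDs : ∀ (g : S), ∀ ω ∈ D, g • ω ∈ D := fun g ω hω => by
    have := smul_fixedBy_of_commute (Ω := Ω) (g := z) (c := g) (hzc' g).symm
    rw [← hD] at this
    rw [← this]
    exact ⟨ω, hω, rfl⟩
  have hcardD : Nat.card ↥D = 4 := hD4
  let e : Fin 4 ≃ ↥D := (Finite.equivFinOfCardEq hcardD).symm
  let p : S → Equiv.Perm (Fin 4) := fun g =>
    { toFun := fun i => e.symm ⟨g • (e i : Ω), hDs g _ (e i).2⟩
      invFun := fun i => e.symm ⟨g⁻¹ • (e i : Ω), hDs g⁻¹ _ (e i).2⟩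
      left_inv := fun i => by simp
      right_inv := fun i => by simp }
  let ψ : S →* Equiv.Perm (Fin 4) := MonoidHom.mk' p fun a b => by
    ext i; simp [p, mul_smul]
  have happ : ∀ (g : S) (i : Fin 4), (e (ψ g i) : Ω) = g • (e i : Ω) := fun g i => by
    simp [ψ, p]
  have hker : ∀ g, g ∈ ψ.ker ↔ g ∈ fixingSubgroup S D := by
    intro g
    rw [MonoidHom.mem_ker, mem_fixingSubgroup_iff]
    constructor
    · intro hg ω hω
      have := happ g (e.symm ⟨ω, hω⟩)
      rw [hg, Equiv.Perm.one_apply, Equiv.apply_symm_apply] at this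
      exact this.symm
    · intro hg
      ext i : 1
      exact e.injective (Subtype.ext (by rw [happ, hg _ (e i).2, Equiv.Perm.one_apply]))
  have hzK : ψ z = 1 := MonoidHom.mem_ker.1 ((hker z).2 (mem_fixing_fixedBy z))
  have hfree : ∀ g ∈ ψ.ker, ∀ ω, ω ∉ D → g • ω = ω → g = 1 := fun g hg ω hω hgω =>
    eq_one_of_fix_more h.fix_le hD4 ((hker g).1 hg) hω hgω
  -- the first alternative
  by_cases hsmall : ∃ w, orderOf w = 2 ∧ ψ w ≠ 1 ∧ (fixedBy Ω w).Nonempty ∧
      Nat.card ↥(ψ.ker ⊓ centralizer ({w} : Set S)) ≤ 2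
  · obtain ⟨w, hw, hwK, -, hC⟩ := hsmall
    exact rank_of_small_fixed h.pGroup ψ hw hwK hC
  have hinv : ∀ w, orderOf w = 2 → ψ w ≠ 1 → (fixedBy Ω w).Nonempty →
      fixedBy Ω w ∩ D = ∅ ∧ Nat.card ↥(ψ.ker ⊓ centralizer ({w} : Set S)) = 4 := by
    intro w hw hwK hwf
    obtain ⟨ω, hω, hωD⟩ : ∃ ω ∈ fixedBy Ω w, ω ∉ D := by
      by_contra hcon
      simp only [not_exists, not_and, not_not] at hcon
      have heq := Set.eq_of_subset_of_ncard_le hcon (by rw [hD4, h.invFour w hw hwf])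
        (Set.toFinite _)
      exact hwK (MonoidHom.mem_ker.1 ((hker w).2 (heq ▸ mem_fixing_fixedBy w)))
    have hle : Nat.card ↥(ψ.ker ⊓ centralizer ({w} : Set S)) ≤ (fixedBy Ω w \ D).ncard := by
      rw [← Nat.card_coe_set_eq]
      refine Nat.card_le_card_of_injective (fun k => (⟨(k : S) • ω, ?_, ?_⟩ : ↥(fixedBy Ω w \ D)))
        fun a b hab => ?_
      · show w • ((k : S) • ω) = (k : S) • ω
        rw [← mul_smul, ← Subgroup.mem_centralizer_singleton_iff.1 k.2.2, mul_smul,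
          show w • ω = ω from hω]
      · intro hkD
        apply hωD
        have := hDs (k : S)⁻¹ _ hkD
        rwa [inv_smul_smul] at this
      · have hab' : (a : S) • ω = (b : S) • ω := congrArg Subtype.val hab
        have := hfree ((b : S)⁻¹ * a) (mul_mem (inv_mem b.2.1) a.2.1) ω hωD
          (by rw [mul_smul, hab', inv_smul_smul])
        exact Subtype.ext (inv_mul_eq_one.1 this).symm
    obtain ⟨i, hi⟩ := PGroups.card_subgroup_eq_pow h.pGroup (ψ.ker ⊓ centralizer ({w} : Set S))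
    have h2 : 2 ≤ i := by
      by_contra hlt
      refine hsmall ⟨w, hw, hwK, hwf, ?_⟩
      rw [hi]
      exact le_trans (Nat.pow_le_pow_right two_pos (show i ≤ 1 by omega)) (by norm_num)
    have h4 : 4 ≤ Nat.card ↥(ψ.ker ⊓ centralizer ({w} : Set S)) :=
      hi ▸ le_trans (by norm_num) (Nat.pow_le_pow_right two_pos h2)
    have h5 := Set.ncard_le_ncard (Set.sdiff_subset : fixedBy Ω w \ D ⊆ fixedBy Ω w) (Set.toFinite _)
    rw [h.invFour w hw hwf] at h5
    refine ⟨?_, by omega⟩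
    have h6 : fixedBy Ω w \ D = fixedBy Ω w :=
      Set.eq_of_subset_of_ncard_le Set.sdiff_subset (by rw [h.invFour w hw hwf]; omega) (Set.toFinite _)
    exact Set.disjoint_iff_inter_eq_empty.1 (sdiff_eq_left.1 h6)
  have hsemi : ∀ g : S, ∀ ω, ω ∉ D → g • ω = ω → ∀ d ∈ D, g • d = d → g = 1 := by
    intro g ω hω hgω d hd hgd
    by_contra hg1
    obtain ⟨i, hi⟩ := h.pGroup g
    obtain ⟨j, -, hj⟩ := (Nat.dvd_prime_pow Nat.prime_two).1 (orderOf_dvd_of_pow_eq_one hi)
    have hj0 : j ≠ 0 := fun h0 => hg1 (orderOf_eq_one_iff.1 (by rw [hj, h0, pow_zero]))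
    set w := g ^ 2 ^ (j - 1) with hw
    have hwo : orderOf w = 2 := by
      rw [hw, orderOf_pow_of_dvd (pow_ne_zero _ two_ne_zero)
        (by rw [hj]; exact pow_dvd_pow 2 (by omega)), hj, Nat.pow_div (by omega) two_pos,
        show j - (j - 1) = 1 by omega, pow_one]
    have hwω : ω ∈ fixedBy Ω w := mem_fixedBy_pow hgω _
    have hwd : d ∈ fixedBy Ω w := mem_fixedBy_pow hgd _
    by_cases hwK : ψ w = 1
    · have := hfree w hwK ω hω hwω
      rw [this, orderOf_one] at hwo
      omega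
    · have := (hinv w hwo hwK ⟨ω, hwω⟩).1
      rw [Set.eq_empty_iff_forall_notMem] at this
      exact this d ⟨hwd, hd⟩
  -- the involution u
  have huK : ψ u ≠ 1 := fun hK => hne (Set.eq_of_subset_of_ncard_le
    (subset_fixedBy_of_mem_fixing ((hker u).1 hK)) (by rw [hD4, h.invFour u hu huf])
    (Set.toFinite _)).symm
  obtain ⟨hudisj, hV4⟩ := hinv u hu huK huf
  obtain ⟨ω₀, hω₀⟩ := huf
  have hω₀D : ω₀ ∉ D := fun hd => Set.eq_empty_iff_forall_notMem.1 hudisj ω₀ ⟨hω₀, hd⟩
  set V := ψ.ker ⊓ centralizer ({u} : Set S) with hV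
  set Ce := centralizer ({u} : Set S) ⊓ stabilizer S ω₀ with hCe
  have huCe : u ∈ Ce := ⟨Subgroup.mem_centralizer_singleton_iff.2 rfl, hω₀⟩
  have hzV : z ∈ V := ⟨MonoidHom.mem_ker.2 hzK, Subgroup.mem_centralizer_singleton_iff.2 (hzc' u)⟩
  have hVu : ∀ v ∈ V, v * u = u * v := fun v hv => Subgroup.mem_centralizer_singleton_iff.1 hv.2
  have hVK : V ≤ ψ.ker := inf_le_left
  have hCeu : ∀ c ∈ Ce, c * u = u * c := fun c hc => Subgroup.mem_centralizer_singleton_iff.1 hc.1
  have hsemi' : ∀ c ∈ Ce, ∀ i, ψ c i = i → c = 1 := fun c hc i hi => by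
    refine hsemi c ω₀ hω₀D hc.2 _ (e i).2 ?_
    rw [← happ, hi]
  have hCeK : ∀ c ∈ Ce, ψ c = 1 → c = 1 := fun c hc hc1 => hsemi' c hc 0 (by rw [hc1]; rfl)
  have hCe4 : Nat.card Ce ≤ 4 := by
    refine le_of_le_of_eq (Nat.card_le_card_of_injective (fun c : Ce => ψ (c : S) 0) ?_)
      (by rw [Nat.card_eq_fintype_card, Fintype.card_fin])
    rintro ⟨a, ha⟩ ⟨b, hb⟩ hab
    have hab' : ψ a 0 = ψ b 0 := hab
    have := hsemi' _ (mul_mem (inv_mem hb) ha) 0 (by
      rw [map_mul, Equiv.Perm.mul_apply, hab', map_inv, Equiv.Perm.inv_def, Equiv.symm_apply_apply])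
    exact Subtype.ext (inv_mul_eq_one.1 this).symm
  have hCec := comm_of_card_le_four h.pGroup Ce hCe4
  have hVc := comm_of_card_le_four h.pGroup V hV4.le
  have hdec : ∀ x, x * u = u * x → ∃ v ∈ V, ∃ c ∈ Ce, x = v * c := by
    intro x hx
    have hf4 : Nat.card ↥(fixedBy Ω u) = 4 := h.invFour u hu ⟨ω₀, hω₀⟩
    have hmem : ∀ g : S, g * u = u * g → g • ω₀ ∈ fixedBy Ω u := fun g hg => by
      show u • g • ω₀ = g • ω₀
      rw [← mul_smul, ← hg, mul_smul, show u • ω₀ = ω₀ from hω₀]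
    have hinj : Function.Injective
        (fun v : V => (⟨(v : S) • ω₀, hmem v (hVu v v.2)⟩ : ↥(fixedBy Ω u))) := by
      rintro ⟨a, ha⟩ ⟨b, hb⟩ hab
      have hab' : a • ω₀ = b • ω₀ := congrArg Subtype.val hab
      have := hfree (b⁻¹ * a) (mul_mem (inv_mem (hVK hb)) (hVK ha)) ω₀ hω₀D
        (by rw [mul_smul, hab', inv_smul_smul])
      exact Subtype.ext (inv_mul_eq_one.1 this).symm
    obtain ⟨⟨v, hv⟩, hvx⟩ := (hinj.bijective_of_nat_card_le (by rw [hf4, hV4])).2
      ⟨x • ω₀, hmem x hx⟩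
    have hvx' : v • ω₀ = x • ω₀ := congrArg Subtype.val hvx
    refine ⟨v, hv, v⁻¹ * x, ⟨?_, ?_⟩, (mul_inv_cancel_left v x).symm⟩
    · show v⁻¹ * x ∈ centralizer ({u} : Set S)
      exact mul_mem (inv_mem hv.2) (Subgroup.mem_centralizer_singleton_iff.2 hx)
    · show (v⁻¹ * x) • ω₀ = ω₀
      rw [mul_smul, ← hvx', inv_smul_smul]
  have hCeV : ∀ c ∈ Ce, ∀ v ∈ V, c * v * c⁻¹ ∈ V := fun c hc v hv =>
    ⟨(inferInstance : ψ.ker.Normal).conj_mem v hv.1 c,
      show c * v * c⁻¹ ∈ centralizer ({u} : Set S) from mul_mem (mul_mem hc.1 hv.2) (inv_mem hc.1)⟩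
  -- four elements in the stabiliser
  have hfourCe : ∀ c ∈ Ce, c ≠ 1 → c ≠ u →
      (∀ d ∈ Ce, d = 1 ∨ d = u ∨ d = c ∨ d = u * c) ∧ Nat.card Ce = 4 := by
    intro c hc hc1 hcu
    have h3 := PGroups.Harada.three_le_card huCe hc hu1 hc1 (Ne.symm hcu)
    obtain ⟨i, hi⟩ := PGroups.card_subgroup_eq_pow h.pGroup Ce
    have h4 : Nat.card Ce = 4 := by
      rw [hi] at hCe4 h3 ⊢
      have := (Nat.pow_le_pow_iff_right one_lt_two).1 (show 2 ^ i ≤ 2 ^ 2 from hCe4)
      have h2 : i = 2 := by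
        by_contra hne2
        have := Nat.pow_le_pow_right (show 0 < 2 by omega) (show i ≤ 1 by omega)
        omega
      rw [h2]; rfl
    refine ⟨fun d hd => ?_, h4⟩
    have huc1 : u * c ≠ 1 := fun he => hcu (by
      rw [← inv_eq_of_mul_eq_one_right he, inv_eq_of_mul_eq_one_right huu])
    have huc2 : u * c ≠ u := fun he => hc1 (mul_eq_left.1 he)
    have huc3 : u * c ≠ c := fun he => hu1 (mul_eq_right.1 he)
    have hsub : ({1, u, c, u * c} : Set S) ⊆ (Ce : Set S) := by
      rintro y (rfl | rfl | rfl | rfl)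
      exacts [one_mem _, huCe, hc, mul_mem huCe hc]
    have hn : ({1, u, c, u * c} : Set S).ncard = 4 := by
      rw [Set.ncard_insert_of_notMem (by simp [Ne.symm hu1, Ne.symm hc1, Ne.symm huc1]),
        Set.ncard_insert_of_notMem (by simp [Ne.symm hcu, Ne.symm huc2]),
        Set.ncard_insert_of_notMem (by simp [Ne.symm huc3]), Set.ncard_singleton]
    have heq := Set.eq_of_subset_of_ncard_le hsub (by rw [hn]; exact h4.le) (Set.toFinite _)
    have : d ∈ ({1, u, c, u * c} : Set S) := heq ▸ hd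
    simpa using this
  -- the regular four group
  have mkReg : ∀ c ∈ Ce, c ≠ 1 → c ≠ u → c * c = 1 → (∀ v ∈ V, v * c = c * v) →
      ∃ Q : CentralFixed.Reg S, Q.ψ = ψ ∧ Q.V = V ∧ Q.z = z := by
    intro c hc hc1 hcu hcc hcV
    obtain ⟨hall, h4⟩ := hfourCe c hc hc1 hcu
    have hR2 : ∀ r ∈ Ce, r * r = 1 := fun r hr => by
      rcases hall r hr with rfl | rfl | rfl | rfl
      · exact one_mul _
      · exact huu
      · exact hcc
      · calc u * c * (u * c) = u * (c * u) * c := by group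
          _ = u * (u * c) * c := by rw [hCec c hc u huCe]
          _ = (u * u) * (c * c) := by group
          _ = 1 := by rw [huu, hcc, one_mul]
    have hcent : ∀ r ∈ Ce, ∀ v ∈ V, v * r = r * v := fun r hr v hv => by
      rcases hall r hr with rfl | rfl | rfl | rfl
      · rw [one_mul, mul_one]
      · exact hVu v hv
      · exact hcV v hv
      · exact (Commute.mul_right (hVu v hv) (hcV v hv)).eq
    have hRψ : ∀ r ∈ Ce, r ≠ 1 → ψ r ≠ 1 ∧ Reg4 (ψ r) := fun r hr hr1 =>
      ⟨fun hh => hr1 (hCeK r hr hh), Or.inr ⟨by rw [← map_mul, hR2 r hr, map_one],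
        fun i hi => hr1 (hsemi' r hr i hi)⟩⟩
    refine ⟨⟨h.pGroup, ψ, z, hzc', hzz, hz1, hzK, V, Ce, hVK, hzV, hV4, h4, hR2, hRψ, ?_, hcent⟩,
      rfl, rfl, rfl⟩
    intro r hr hr1 x hx hxr
    have ho : orderOf r = 2 := orderOf_eq_prime (by rw [pow_two, hR2 r hr]) hr1
    have hc4 := (hinv r ho (hRψ r hr hr1).1 ⟨ω₀, hr.2⟩).2
    have hle : V ≤ ψ.ker ⊓ centralizer ({r} : Set S) := fun v hv =>
      ⟨hVK hv, Subgroup.mem_centralizer_singleton_iff.2 (hcent r hr v hv)⟩
    rw [Subgroup.eq_of_le_of_card_ge hle (by rw [hc4, hV4])]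
    exact ⟨hx, Subgroup.mem_centralizer_singleton_iff.2 hxr⟩
  by_cases hV2 : ∀ v ∈ V, v * v = 1
  · by_cases hR : ∃ c ∈ Ce, c ≠ 1 ∧ c ≠ u ∧ ∀ v ∈ V, v * c = c * v
    · obtain ⟨c, hc, hc1, hcu, hcV⟩ := hR
      by_cases hcc : c * c = 1
      · obtain ⟨Q, hQψ, hQV, hQz⟩ := mkReg c hc hc1 hcu hcc hcV
        exact Quad.rank
          { toReg := Q, hV2 := by rw [hQV]; exact hV2, E := E, hEn := hEn, hEc := hEcomm,
            hE2 := hEsq, hE8 := hE8, hzE := by rw [hQz]; exact hzE }
      obtain ⟨hall, -⟩ := hfourCe c hc hc1 hcu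
      have hcu2 : c * c = u := by
        rcases hall _ (mul_mem hc hc) with h' | h' | h' | h'
        · exact absurd h' hcc
        · exact h'
        · exact absurd (mul_eq_left.1 h') hc1
        · exact absurd (mul_right_cancel h') hcu
      refine rank_of_small_ker h.pGroup ψ ((Subgroup.card_le_of_le (K := V) ?_).trans hV4.le)
      by_contra hnle
      have hcent : ∀ r ∈ Ce, ∀ v ∈ V, r * v * r⁻¹ = v := fun r hr v hv => by
        have : r * v = v * r := by
          rcases hall r hr with rfl | rfl | rfl | rfl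
          · rw [one_mul, mul_one]
          · exact (hVu v hv).symm
          · exact (hcV v hv).symm
          · exact (Commute.mul_left (hVu v hv).symm (hcV v hv).symm).eq
        rw [this, mul_inv_cancel_right]
      obtain ⟨y, hy, hyV, ha, -⟩ := exists_step h.pGroup Ce V ψ.ker hVK hnle
        (fun r hr hrK => hCeK r hr hrK)
        (fun r _ b hb => (inferInstance : ψ.ker.Normal).conj_mem b hb r)
        (fun r hr a ha => by rw [hcent r hr a ha]; exact ha)
      refine hyV ⟨hy, Subgroup.mem_centralizer_singleton_iff.2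
        (commutatorElement_eq_one_iff_mul_comm.1 ?_)⟩
      rw [← hcu2, cm_mul_right, hcent c hc _ (ha c hc)]
      exact hV2 _ (ha c hc)
    · refine rank_of_self_cent h.pGroup V hV4 hV2 huu (fun hh => huK (hVK hh))
        (fun v hv => (hVu v hv).symm) fun x hxu hxV => ?_
      obtain ⟨v, hv, c, hc, rfl⟩ := hdec x hxu
      have hcV : ∀ w ∈ V, w * c = c * w := fun w hw => by
        have h1 := hxV w hw
        rw [mul_assoc, ← mul_assoc w, ← hVc v hv w hw, mul_assoc] at h1
        exact (mul_left_cancel h1).symm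
      by_cases hc1 : c = 1
      · rw [hc1, mul_one]; exact Or.inl hv
      by_cases hcu : c = u
      · right; rw [hcu, mul_assoc, huu, mul_one]; exact hv
      exact absurd ⟨c, hc, hc1, hcu, hcV⟩ hR
  -- V is cyclic
  simp only [not_forall] at hV2
  obtain ⟨k, hk, hk2⟩ := hV2
  have hzinv : ∀ v ∈ V, v * v = 1 → v = 1 ∨ v = z := by
    intro v hv hvv
    by_contra hcon
    simp only [not_or] at hcon
    let O : Subgroup S :=
      { carrier := {g | g ∈ V ∧ g * g = 1}
        one_mem' := ⟨one_mem _, one_mul _⟩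
        mul_mem' := fun {a b} ha hb => ⟨mul_mem ha.1 hb.1, by
          calc a * b * (a * b) = a * (b * a) * b := by group
            _ = a * (a * b) * b := by rw [hVc b hb.1 a ha.1]
            _ = (a * a) * (b * b) := by group
            _ = 1 := by rw [ha.2, hb.2, one_mul]⟩
        inv_mem' := fun {a} ha => ⟨inv_mem ha.1, by rw [← mul_inv_rev, ha.2, inv_one]⟩ }
    have hO3 := PGroups.Harada.three_le_card (X := O) (u := v) (v := z) ⟨hv, hvv⟩ ⟨hzV, hzz⟩
      hcon.1 hz1 hcon.2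
    have hOV : O = V := PGroups.Harada.eq_of_lt_two_mul (fun g hg => hg.1) (k := 1)
      (by rw [hV4]; rfl) (by omega)
    have : k ∈ O := hOV.symm ▸ hk
    exact hk2 this.2
  have hVk : ∀ v ∈ V, ∃ i : ℕ, v = k ^ i := by
    have hkk : orderOf k = 4 := by
      have hd : orderOf k ∣ 4 := hV4 ▸ Subgroup.orderOf_dvd_natCard V hk
      obtain ⟨i, hi, hi'⟩ := (Nat.dvd_prime_pow Nat.prime_two).1 (show orderOf k ∣ 2 ^ 2 from hd)
      by_contra hne4
      apply hk2
      rw [← pow_two, ← orderOf_dvd_iff_pow_eq_one, hi']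
      exact dvd_trans (pow_dvd_pow 2 (show i ≤ 1 by
        by_contra h'
        exact hne4 (by rw [hi', show i = 2 by omega]; rfl))) (by norm_num)
    have hz' : zpowers k = V := Subgroup.eq_of_le_of_card_ge (zpowers_le.2 hk)
      (by rw [Nat.card_zpowers, hkk, hV4])
    intro v hv
    rw [← hz', ← mem_powers_iff_mem_zpowers] at hv
    obtain ⟨i, hi⟩ := hv
    exact ⟨i, hi.symm⟩
  -- an element of E centralising u outside K and Ku
  obtain ⟨e', he', he'u, he'K, he'Ku⟩ :
      ∃ e' ∈ E, e' * u = u * e' ∧ ψ e' ≠ 1 ∧ ψ (e' * u) ≠ 1 := by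
    by_contra hcon
    simp only [not_exists, not_and, not_not] at hcon
    have hin : ∀ g ∈ E ⊓ centralizer ({u} : Set S), (g = 1 ∨ g = z) ∨ (g * u = 1 ∨ g * u = z) := by
      intro g hg
      have hgu : g * u = u * g := Subgroup.mem_centralizer_singleton_iff.1 hg.2
      by_cases hgK : ψ g = 1
      · exact Or.inl (hzinv g ⟨hgK, hg.2⟩ (hEsq g hg.1))
      · refine Or.inr (hzinv _ ⟨hcon g hg.1 hgu hgK,
          mul_mem hg.2 (Subgroup.mem_centralizer_singleton_iff.2 rfl)⟩ ?_)
        calc g * u * (g * u) = g * (u * g) * u := by group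
          _ = g * (g * u) * u := by rw [hgu]
          _ = (g * g) * (u * u) := by group
          _ = 1 := by rw [hEsq g hg.1, huu, one_mul]
    by_cases huE : u ∈ E
    · have hall : (E : Set S) ⊆ {1, z, u, z * u} := fun g hg => by
        rcases hin g ⟨hg, Subgroup.mem_centralizer_singleton_iff.2 (hEcomm g hg u huE)⟩ with
          (h' | h') | (h' | h')
        · simp [h']
        · simp [h']
        · simp [show g = u by rw [mul_eq_one_iff_eq_inv.1 h', inv_eq_of_mul_eq_one_right huu]]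
        · simp [show g = z * u by rw [← h', mul_assoc, huu, mul_one]]
      have h4 : ({1, z, u, z * u} : Set S).ncard ≤ 4 := by
        refine (Set.ncard_insert_le _ _).trans (Nat.succ_le_succ ?_)
        refine (Set.ncard_insert_le _ _).trans (Nat.succ_le_succ ?_)
        exact (Set.ncard_insert_le _ _).trans (by rw [Set.ncard_singleton])
      have := PGroups.Harada.card_sub_le hall h4
      omega
    · have hall : ((E ⊓ centralizer ({u} : Set S) : Subgroup S) : Set S) ⊆ {1, z} := fun g hg => by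
        rcases hin g hg with (h' | h') | (h' | h')
        · simp [h']
        · simp [h']
        · exact absurd (inv_mem_iff.1 (mul_eq_one_iff_eq_inv.1 h' ▸ (show g ∈ E from hg.1))) huE
        · exfalso; apply huE
          have := mul_mem (inv_mem (show g ∈ E from hg.1)) hzE
          rwa [← h', inv_mul_cancel_left] at this
      have := PGroups.Harada.card_sub_le hall
        ((Set.ncard_insert_le _ _).trans (by rw [Set.ncard_singleton]))
      have := three_le_fixed E hEcomm hEsq hE8 huu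
      omega
  obtain ⟨v₀, hv₀, c, hc, rfl⟩ := hdec e' he'u
  have hc1 : c ≠ 1 := fun h' => he'K (by rw [h', mul_one]; exact hVK hv₀)
  have hcu : c ≠ u := fun h' => he'Ku (by
    rw [h', mul_assoc, huu, mul_one]; exact hVK hv₀)
  have hsq : (v₀ * (c * v₀ * c⁻¹)) * (c * c) = 1 := by
    rw [← hEsq _ he']; group
  by_cases hck : k * c = c * k
  · have hcV : ∀ v ∈ V, v * c = c * v := fun v hv => by
      obtain ⟨i, rfl⟩ := hVk v hv
      exact (Commute.pow_left hck i).eq
    have hcc : c * c = 1 := by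
      refine hCeK _ (mul_mem hc hc) ?_
      have h1 : c * c = (v₀ * (c * v₀ * c⁻¹))⁻¹ := (inv_eq_of_mul_eq_one_right hsq).symm
      rw [h1]
      exact inv_mem (mul_mem (hVK hv₀) (hVK (hCeV c hc v₀ hv₀)))
    obtain ⟨Q, hQψ, hQV, hQz⟩ := mkReg c hc hc1 hcu hcc hcV
    exact Q.rank_of_cyclic (by rw [hQV, hQz]; exact hzinv)
  have hk' : c * k * c⁻¹ = k⁻¹ := by
    have hk1 := hCeV c hc k hk
    have hk2z : k * k = z := (hzinv _ (mul_mem hk hk) (by
      have h4 : k ^ 4 = 1 := orderOf_dvd_iff_pow_eq_one.1 (hV4 ▸ Subgroup.orderOf_dvd_natCard V hk)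
      rw [← h4]; simp [pow_succ, mul_assoc])).resolve_left hk2
    have hq : (c * k * c⁻¹ * k⁻¹) * (c * k * c⁻¹ * k⁻¹) = 1 := by
      calc (c * k * c⁻¹ * k⁻¹) * (c * k * c⁻¹ * k⁻¹)
          = c * k * c⁻¹ * (k⁻¹ * (c * k * c⁻¹)) * k⁻¹ := by group
        _ = c * k * c⁻¹ * ((c * k * c⁻¹) * k⁻¹) * k⁻¹ := by rw [hVc _ (inv_mem hk) _ hk1]
        _ = c * (k * k) * c⁻¹ * (k * k)⁻¹ := by group
        _ = 1 := by rw [hk2z, ← hzc' c, mul_inv_cancel_right, mul_inv_cancel]
    rcases hzinv _ (mul_mem hk1 (inv_mem hk)) hq with h' | h'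
    · exact absurd (mul_inv_eq_iff_eq_mul.1 (mul_inv_eq_one.1 h')).symm hck
    · rw [mul_inv_eq_iff_eq_mul] at h'
      rw [h']
      have : z * k = k⁻¹ := by
        refine eq_inv_of_mul_eq_one_left ?_
        rw [mul_assoc, hk2z, hzz]
      exact this
  have hcinv : ∀ v ∈ V, c * v * c⁻¹ = v⁻¹ := fun v hv => by
    obtain ⟨i, rfl⟩ := hVk v hv
    rw [← conj_pow, hk', inv_pow]
  have hcc : c * c = 1 := by
    rw [hcinv v₀ hv₀, mul_inv_cancel, one_mul] at hsq
    exact hsq
  obtain ⟨hall, -⟩ := hfourCe c hc hc1 hcu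
  have hzK' : ∀ g ∈ ψ.ker, g ∈ Ce → g = 1 := fun g hg hg' => hCeK g hg' hg
  let W : Subgroup S :=
    { carrier := {g | ∃ a, (a = 1 ∨ a = z) ∧ (g = a ∨ g = a * c)}
      one_mem' := ⟨1, Or.inl rfl, Or.inl rfl⟩
      mul_mem' := by
        rintro x y ⟨a, ha, hx⟩ ⟨b, hb, hy⟩
        refine ⟨a * b, ?_, ?_⟩
        · rcases ha with rfl | rfl <;> rcases hb with rfl | rfl
          exacts [Or.inl (one_mul _), Or.inr (one_mul _), Or.inr (mul_one _), Or.inl hzz]
        · have hbc : c * b = b * c := by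
            rcases hb with rfl | rfl
            · rw [one_mul, mul_one]
            · exact (hzc' c).symm
          rcases hx with rfl | rfl <;> rcases hy with rfl | rfl
          · exact Or.inl rfl
          · exact Or.inr (mul_assoc _ _ _).symm
          · right; rw [mul_assoc, hbc, mul_assoc]
          · left; rw [mul_assoc, ← mul_assoc c, hbc, mul_assoc, hcc, mul_one]
      inv_mem' := by
        rintro x ⟨a, ha, hx⟩
        have hai : a⁻¹ = a := by
          rcases ha with rfl | rfl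
          · exact inv_one
          · exact inv_eq_of_mul_eq_one_right hzz
        refine ⟨a, ha, ?_⟩
        rcases hx with rfl | rfl
        · exact Or.inl hai
        · right
          rw [mul_inv_rev, hai, inv_eq_of_mul_eq_one_right hcc]
          rcases ha with rfl | rfl
          · rw [one_mul, mul_one]
          · exact (hzc' c).symm }
  have hWset : (W : Set S) = {1, z, c, z * c} := by
    ext g
    constructor
    · rintro ⟨a, (rfl | rfl), (rfl | rfl)⟩ <;> simp
    · rintro (rfl | rfl | rfl | rfl)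
      exacts [⟨1, Or.inl rfl, Or.inl rfl⟩, ⟨_, Or.inr rfl, Or.inl rfl⟩,
        ⟨1, Or.inl rfl, Or.inr (one_mul _).symm⟩, ⟨z, Or.inr rfl, Or.inr rfl⟩]
  have hW4 : Nat.card W = 4 := by
    have hcz : c ≠ z := fun h' => hc1 (hCeK c hc (by rw [h', hzK]))
    have hzc1 : z * c ≠ 1 := fun h' => hcz (by
      rw [← inv_eq_of_mul_eq_one_right h', inv_eq_of_mul_eq_one_right hzz])
    show (W : Set S).ncard = 4
    rw [hWset, Set.ncard_insert_of_notMem (by simp [Ne.symm hz1, Ne.symm hc1, Ne.symm hzc1]),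
      Set.ncard_insert_of_notMem (by
        simp only [Set.mem_insert_iff, Set.mem_singleton_iff, not_or]
        exact ⟨Ne.symm hcz, fun h' => hc1 (mul_eq_left.1 h'.symm)⟩),
      Set.ncard_insert_of_notMem (by simp [hz1]),
      Set.ncard_singleton]
  have hW2 : ∀ w ∈ W, w * w = 1 := by
    rintro w ⟨a, ha | ha, hw | hw⟩ <;> rw [hw, ha]
    · exact one_mul _
    · rw [one_mul]; exact hcc
    · exact hzz
    · calc z * c * (z * c) = z * (c * z) * c := by group
        _ = z * (z * c) * c := by rw [← hzc' c]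
        _ = (z * z) * (c * c) := by group
        _ = 1 := by rw [hzz, hcc, one_mul]
  refine rank_of_self_cent h.pGroup W hW4 hW2 huu ?_ ?_ ?_
  · rintro ⟨a, ha, hx⟩
    have haK : ψ a = 1 := by rcases ha with rfl | rfl; exacts [map_one _, hzK]
    rcases hx with h' | h'
    · exact huK (by rw [h', haK])
    · have ha1 : a = 1 := hzK' a haK (by
        have := mul_mem huCe (inv_mem hc)
        rwa [h', mul_inv_cancel_right] at this)
      exact hcu (by rw [h', ha1, one_mul])
  · rintro w ⟨a, (rfl | rfl), (rfl | rfl)⟩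
    · rw [one_mul, mul_one]
    · rw [one_mul]; exact (hCeu c hc).symm
    · exact (hzc' u).symm
    · exact (Commute.mul_right (hzc' u).symm (hCeu c hc).symm).eq
  intro x hxu hxW
  obtain ⟨v, hv, d, hd, rfl⟩ := hdec x hxu
  have hxc := hxW c ⟨1, Or.inl rfl, Or.inr (one_mul c).symm⟩
  have hvc : v * c = c * v := by
    rw [mul_assoc, hCec d hd c hc, ← mul_assoc, ← mul_assoc] at hxc
    exact mul_right_cancel hxc
  have hvz : v = 1 ∨ v = z := hzinv v hv (by
    have := hcinv v hv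
    rw [← hvc, mul_inv_cancel_right] at this
    rw [← eq_inv_iff_mul_eq_one]; exact this)
  rcases hall d hd with rfl | rfl | rfl | rfl
  · exact Or.inl ⟨v, hvz, Or.inl (mul_one v)⟩
  · refine Or.inr ⟨v, hvz, Or.inl ?_⟩
    rw [mul_assoc, huu, mul_one]
  · exact Or.inl ⟨v, hvz, Or.inr rfl⟩
  · refine Or.inr ⟨v, hvz, Or.inr ?_⟩
    rw [hCec u huCe c hc, mul_assoc, mul_assoc, huu, mul_one]

end CfsgLib.FixityFour
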