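import Mathlib

/-!
# Permutations of four points: the regular four-group
-/

set_option autoImplicit false

namespace CfsgLib.FixityFour.CentralFixed

open Equiv

/-- The elements of the regular four-group. -/
abbrev Reg4 (g : Perm (Fin 4)) : Prop := g = 1 ∨ (g * g = 1 ∧ ∀ i, g i ≠ i)

theorem reg4_mul : ∀ g h : Perm (Fin 4), Reg4 g → Reg4 h → Reg4 (g * h) := by decide +kernel

theorem reg4_comm : ∀ g h : Perm (Fin 4), Reg4 g → Reg4 h → g * h = h * g := by decide +kernel

theorem reg4_conj : ∀ g h : Perm (Fin 4), Reg4 g → Reg4 (h * g * h⁻¹) := by decide +kernel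

theorem reg4_of_commute : ∀ h : Perm (Fin 4), (∀ g, Reg4 g → g * h = h * g) → Reg4 h := by decide +kernel

theorem reg4_eq_of_apply : ∀ g h : Perm (Fin 4), Reg4 g → Reg4 h → g 0 = h 0 → g = h := by decide +kernel

theorem reg4_exists : ∀ i : Fin 4, ∃ g : Perm (Fin 4), Reg4 g ∧ g 0 = i := by decide +kernel

theorem card_perm_four : Nat.card (Perm (Fin 4)) = 24 := by
  rw [Nat.card_eq_fintype_card]; decide

theorem reg4_sq : ∀ a : Perm (Fin 4), (a * a) * (a * a) = 1 → Reg4 (a * a) := by decide +kernel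

theorem eight_pow : ∀ a : Perm (Fin 4), a ^ 8 = 1 → (a * a) * (a * a) = 1 := by decide +kernel

theorem reg4_of_transpositions : ∀ a b : Perm (Fin 4), a * a = 1 → b * b = 1 →
    (a * b) * (a * b) = 1 → ¬ Reg4 a → ¬ Reg4 b → a ≠ b → Reg4 (a * b) := by decide +kernel

theorem klein_bound : ∀ a b c : Perm (Fin 4), a * a = 1 → b * b = 1 → c * c = 1 →
    a * b = b * a → a * c = c * a → b * c = c * b → a ≠ 1 → b ≠ 1 → b ≠ a →
    c = 1 ∨ c = a ∨ c = b ∨ c = a * b := by
  set_option synthInstance.maxHeartbeats 400000 in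
  set_option synthInstance.maxSize 4096 in
  decide +kernel

end CfsgLib.FixityFour.CentralFixed
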