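import Cfsg.Agent.Lib.FixityFour.Basic
import Cfsg.Agent.Lib.FixityFour.CentralPerm
import Cfsg.Agent.Lib.PGroups.Harada.Count
import Cfsg.Agent.Lib.CharP.FixSylow
import Cfsg.Agent.S1232

/-!
# A central involution with fixed points: group-theoretic tools
-/

set_option autoImplicit false
set_option linter.unusedSectionVars false
set_option linter.style.haveILetI false

namespace CfsgLib.FixityFour.CentralFixed

open Subgroup
open scoped commutatorElement Pointwise

universe u

variable {S : Type u} [Group S] [Finite S]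

theorem sq_one {a : S} (h : a ^ 2 = 1) : a * a = 1 := by rwa [← pow_two]

theorem inv_of_sq {a : S} (h : a * a = 1) : a⁻¹ = a := inv_eq_of_mul_eq_one_right h

theorem cm_mem {M : Subgroup S} {a b : S} (ha : a ∈ M) (hb : b ∈ M) : ⁅a, b⁆ ∈ M := by
  rw [commutatorElement_def]
  exact mul_mem (mul_mem (mul_mem ha hb) (inv_mem ha)) (inv_mem hb)

/-- A four-element group of exponent two. -/
theorem mem_four {R : Subgroup S} (hR : Nat.card R = 4) (h2 : ∀ r ∈ R, r * r = 1) {a b : S}
    (ha : a ∈ R) (hb : b ∈ R) (ha1 : a ≠ 1) (hb1 : b ≠ 1) (hab : a ≠ b) {x : S} (hx : x ∈ R) :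
    x = 1 ∨ x = a ∨ x = b ∨ x = a * b := by
  have hsub : ({1, a, b, a * b} : Set S) ⊆ (R : Set S) := by
    intro y hy
    rcases hy with rfl | rfl | rfl | rfl
    exacts [one_mem _, ha, hb, mul_mem ha hb]
  have h1 : a * b ≠ 1 := fun h => hab (by rw [← mul_eq_one_iff_eq_inv.1 h |>.trans (inv_of_sq (h2 b hb))])
  have h3 : a * b ≠ a := fun h => hb1 (mul_eq_left.1 h)
  have h4 : a * b ≠ b := fun h => ha1 (mul_eq_right.1 h)
  have hc : ({1, a, b, a * b} : Set S).ncard = 4 := by
    rw [Set.ncard_insert_of_notMem (by simp [Ne.symm ha1, Ne.symm hb1, Ne.symm h1]),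
      Set.ncard_insert_of_notMem (by simp [hab, Ne.symm h3]),
      Set.ncard_insert_of_notMem (by simp [Ne.symm h4]), Set.ncard_singleton]
  have heq := Set.eq_of_subset_of_ncard_le hsub (by rw [hc]; exact le_of_eq hR) (Set.toFinite _)
  have : x ∈ ({1, a, b, a * b} : Set S) := heq ▸ hx
  simpa using this

theorem comm_of_sq {R : Subgroup S} (h2 : ∀ r ∈ R, r * r = 1) {a b : S} (ha : a ∈ R)
    (hb : b ∈ R) : a * b = b * a := by
  have := inv_of_sq (h2 _ (mul_mem ha hb))
  rw [mul_inv_rev, inv_of_sq (h2 a ha), inv_of_sq (h2 b hb)] at this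
  exact this.symm

/-- An element normalising `A`, outside it, moved by `R` only into `A`. -/
theorem exists_step (hS : IsPGroup 2 S) (R A B : Subgroup S) (hAB : A ≤ B) (hne : ¬ B ≤ A)
    (hRB : ∀ r ∈ R, r ∈ B → r = 1) (hnB : ∀ r ∈ R, ∀ b ∈ B, r * b * r⁻¹ ∈ B)
    (hnA : ∀ r ∈ R, ∀ a ∈ A, r * a * r⁻¹ ∈ A) :
    ∃ y ∈ B, y ∉ A ∧ (∀ r ∈ R, ⁅y, r⁆ ∈ A) ∧ ∀ a ∈ A, y * a * y⁻¹ ∈ A := by
  haveI : Fact (Nat.Prime 2) := ⟨Nat.prime_two⟩
  have hn : ∀ {W : Subgroup S}, (∀ r ∈ R, ∀ w ∈ W, r * w * r⁻¹ ∈ W) →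
      ((R ⊔ W : Subgroup S) : Set S) = (R : Set S) * (W : Set S) := fun {W} hW => by
    refine Subgroup.coe_mul_of_left_le_normalizer_right _ _ fun r hr => ?_
    rw [Subgroup.mem_normalizer_iff]
    refine fun w => ⟨hW r hr w, fun h => ?_⟩
    have := hW r⁻¹ (inv_mem hr) _ h
    simpa [mul_assoc] using this
  have hlt : R ⊔ A < R ⊔ B := by
    refine lt_of_le_of_ne (sup_le_sup_left hAB R) fun h => hne fun b hb => ?_
    have hb' : b ∈ (R : Set S) * (A : Set S) := by
      rw [← hn hnA, h]; exact SetLike.le_def.1 le_sup_right hb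
    obtain ⟨r, hr, a, ha, rfl⟩ := Set.mem_mul.1 hb'
    have hrB : r ∈ B := by simpa using mul_mem hb (inv_mem (hAB ha))
    rw [hRB r hr hrB, one_mul]; exact ha
  obtain ⟨g, hg, hgA⟩ := SetLike.exists_of_lt
    (CfsgLib.CharP.lt_normalizer_inf (p := 2) (hS.to_subgroup _) hlt)
  obtain ⟨hgN, hgB⟩ := hg
  have hgB' : g ∈ (R : Set S) * (B : Set S) := by rw [← hn hnB]; exact hgB
  obtain ⟨r0, hr0, y, hy, rfl⟩ := Set.mem_mul.1 hgB'
  have hr0A : r0 ∈ R ⊔ A := SetLike.le_def.1 le_sup_left hr0
  have hyA : y ∉ A := fun h => hgA (mul_mem hr0A (SetLike.le_def.1 le_sup_right h))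
  have hyN : y ∈ normalizer ((R ⊔ A : Subgroup S) : Set S) := by
    have : r0 ∈ normalizer ((R ⊔ A : Subgroup S) : Set S) := le_normalizer hr0A
    simpa using mul_mem (inv_mem this) hgN
  have hcap : ∀ x ∈ R ⊔ A, x ∈ B → x ∈ A := fun x hx hxB => by
    rw [← SetLike.mem_coe, hn hnA] at hx
    obtain ⟨r, hr, a, ha, rfl⟩ := Set.mem_mul.1 hx
    have hrB : r ∈ B := by simpa using mul_mem hxB (inv_mem (hAB ha))
    rw [hRB r hr hrB, one_mul]; exact ha
  refine ⟨y, hy, hyA, fun r hr => hcap _ ?_ ?_, fun a ha => hcap _ ?_ ?_⟩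
  · exact mul_mem ((Subgroup.mem_normalizer_iff.1 hyN r).1 (SetLike.le_def.1 le_sup_left hr))
      (inv_mem (SetLike.le_def.1 le_sup_left hr))
  · have := hnB r hr _ (inv_mem hy)
    have h2 := mul_mem hy this
    simpa [commutatorElement_def, mul_assoc] using h2
  · exact (Subgroup.mem_normalizer_iff.1 hyN a).1 (SetLike.le_def.1 le_sup_right ha)
  · exact mul_mem (mul_mem hy (hAB ha)) (inv_mem hy)

/-- An elementary abelian `W × ⟨v⟩` of order eight which is self-centralising bounds the rank. -/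
theorem rank_of_self_cent (hS : IsPGroup 2 S) (W : Subgroup S) (hW : Nat.card W = 4)
    (hW2 : ∀ w ∈ W, w * w = 1) {v : S} (hv : v * v = 1) (hvW : v ∉ W)
    (hvc : ∀ w ∈ W, v * w = w * v)
    (hC : ∀ x : S, x * v = v * x → (∀ w ∈ W, x * w = w * x) → x ∈ W ∨ x * v ∈ W) :
    Cfsg.SectionalPRankLE 2 4 S := by
  let A : Subgroup S :=
    { carrier := {x | x ∈ W ∨ x * v ∈ W}
      one_mem' := Or.inl (one_mem _)
      mul_mem' := by
        intro a b ha hb
        have hva : ∀ b, b ∈ W ∨ b * v ∈ W → v * b = b * v := fun b hb => by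
          rcases hb with hb | hb
          · exact hvc b hb
          · have h := hvc _ hb
            rw [mul_assoc, hv, mul_one, ← mul_assoc] at h
            calc v * b = v * b * v * v := by rw [mul_assoc, hv, mul_one]
              _ = b * v := by rw [h]
        rcases ha with ha | ha <;> rcases hb with hb' | hb'
        · exact Or.inl (mul_mem ha hb')
        · refine Or.inr ?_
          rw [mul_assoc]; exact mul_mem ha hb'
        · refine Or.inr ?_
          rw [mul_assoc, ← hva b (Or.inl hb'), ← mul_assoc]; exact mul_mem ha hb'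
        · refine Or.inl ?_
          have := mul_mem ha hb'
          rwa [← mul_assoc, mul_assoc a v b, hva b (Or.inr hb'), ← mul_assoc a b v,
            mul_assoc (a * b) v v, hv, mul_one] at this
      inv_mem' := by
        intro a ha
        rcases ha with ha | ha
        · exact Or.inl (inv_mem ha)
        · refine Or.inr ?_
          have h := hvc _ (inv_mem ha)
          rw [mul_inv_rev, inv_of_sq hv] at h
          have h' := inv_mem ha
          rw [mul_inv_rev, inv_of_sq hv] at h'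
          have h2 : v * (v * a⁻¹) * v⁻¹ = v * a⁻¹ := by rw [h, mul_inv_cancel_right]
          rw [inv_of_sq hv, ← mul_assoc v v, hv, one_mul] at h2
          rw [h2]; exact h' }
  have hmem : ∀ x, x ∈ A ↔ x ∈ W ∨ x * v ∈ W := fun x => Iff.rfl
  have hcomm : ∀ x ∈ A, ∀ y ∈ A, x * y = y * x := by
    have hWv : ∀ x ∈ A, ∃ w ∈ W, x = w ∨ x = w * v := fun x hx => by
      rcases (hmem x).1 hx with h | h
      · exact ⟨x, h, Or.inl rfl⟩
      · exact ⟨x * v, h, Or.inr (by rw [mul_assoc, hv, mul_one])⟩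
    have hW' : ∀ a ∈ W, ∀ b ∈ W, Commute a b := fun a ha b hb => comm_of_sq hW2 ha hb
    intro x hx y hy
    obtain ⟨a, ha, rfl | rfl⟩ := hWv x hx <;> obtain ⟨b, hb, rfl | rfl⟩ := hWv y hy
    · exact (hW' _ ha _ hb).eq
    · exact ((hW' _ ha _ hb).mul_right (hvc _ ha).symm).eq
    · exact ((hW' _ ha _ hb).mul_left (hvc _ hb)).eq
    · exact (((hW' _ ha _ hb).mul_right (hvc _ ha).symm).mul_left
        ((Commute.mul_right (hvc _ hb) (Commute.refl v)))).eq
  have hsq : ∀ x ∈ A, x ^ 2 = 1 := fun x hx => by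
    rw [pow_two]
    rcases (hmem x).1 hx with h | h
    · exact hW2 x h
    · have h2 := hW2 _ h
      have hxv : x * v = v * x := hcomm x hx v ((hmem v).2 (Or.inr (by rw [hv]; exact one_mem _)))
      rwa [hxv, mul_assoc, ← mul_assoc x v x, hxv, mul_assoc v x x, ← mul_assoc v v, hv,
        one_mul] at h2
  have hc8 : Nat.card A = 8 := by
    have hinj : Function.Injective (· * v : S → S) := mul_left_injective v
    have hset : (A : Set S) = (W : Set S) ∪ (· * v) '' (W : Set S) := by
      ext x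
      constructor
      · rintro (h | h)
        · exact Or.inl h
        · exact Or.inr ⟨x * v, h, by simp [mul_assoc, hv]⟩
      · rintro (h | ⟨w, hw, rfl⟩)
        · exact Or.inl h
        · refine Or.inr ?_
          show w * v * v ∈ W
          rw [mul_assoc, hv, mul_one]; exact hw
    show (A : Set S).ncard = 8
    rw [hset, Set.ncard_union_eq ?_ (Set.toFinite _) (Set.toFinite _),
      Set.ncard_image_of_injective _ hinj, show (W : Set S).ncard = 4 from hW]
    rw [Set.disjoint_left]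
    rintro x hx ⟨w, hw, rfl⟩
    exact hvW (by simpa using mul_mem (inv_mem hw) hx)
  refine Cfsg.Agent.S1232.result hS A ⟨⟨⟨fun a b => Subtype.ext (hcomm _ a.2 _ b.2)⟩⟩, hsq⟩ hc8
    (le_antisymm (fun x hx => ?_) fun x hx => Subgroup.mem_centralizer_iff.2 fun y hy => hcomm y hy x hx)
  rw [Subgroup.mem_centralizer_iff] at hx
  exact hC x (hx v (Or.inr (by rw [hv]; exact one_mem _))).symm fun w hw => (hx w (Or.inl hw)).symm

theorem image_index_le {P : Subgroup (Equiv.Perm (Fin 4))} (hP : IsPGroup 2 P) :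
    (frattini P).index ≤ 4 := by
  haveI : Fact (Nat.Prime 2) := ⟨Nat.prime_two⟩
  obtain ⟨n, hn⟩ := IsPGroup.iff_card.1 hP
  have hn3 : n ≤ 3 := by
    by_contra h
    have hd := Subgroup.card_subgroup_dvd_card P
    rw [hn, card_perm_four] at hd
    have : 2 ^ 4 ∣ 24 := dvd_trans (pow_dvd_pow 2 (by omega)) hd
    omega
  by_cases hn2 : n ≤ 2
  · exact PGroups.Harada.index_frattini_le_card.trans (by
      rw [hn]; exact le_trans (Nat.pow_le_pow_right two_pos hn2) (by norm_num))
  obtain ⟨a, ha⟩ : ∃ a : P, a * a ≠ 1 := by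
    by_contra hall
    simp only [not_exists, not_not] at hall
    have h2 : ∀ x ∈ P, x * x = 1 := fun x hx => congrArg Subtype.val (hall ⟨x, hx⟩)
    have hPb : P ≠ ⊥ := fun h => by
      have := congrArg (fun Q : Subgroup (Equiv.Perm (Fin 4)) => Nat.card Q) h
      simp only [Subgroup.card_bot] at this
      rw [hn, show n = 3 by omega] at this
      omega
    obtain ⟨⟨a, ha⟩, ha1⟩ := P.bot_or_exists_ne_one.resolve_left hPb |> fun ⟨a, h, h1⟩ =>
      (⟨⟨a, h⟩, h1⟩ : ∃ a : P, (a : Equiv.Perm (Fin 4)) ≠ 1)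
    obtain ⟨b, hb, hbn⟩ : ∃ b ∈ P, b ∉ ({1, a} : Set (Equiv.Perm (Fin 4))) := by
      by_contra hh
      simp only [not_exists, not_and, not_not] at hh
      have := Set.ncard_le_ncard (fun x hx => hh x hx : (P : Set (Equiv.Perm (Fin 4))) ⊆ {1, a})
        (Set.toFinite _)
      rw [show (P : Set (Equiv.Perm (Fin 4))).ncard = 2 ^ n from hn, show n = 3 by omega] at this
      have := this.trans (Set.ncard_insert_le _ _)
      rw [Set.ncard_singleton] at this
      omega
    simp only [Set.mem_insert_iff, Set.mem_singleton_iff, not_or] at hbn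
    have hsub : (P : Set (Equiv.Perm (Fin 4))) ⊆ {1, a, b, a * b} := fun c hc => by
      have hcm : ∀ x ∈ P, ∀ y ∈ P, x * y = y * x := fun x hx y hy => comm_of_sq h2 hx hy
      simpa using klein_bound a b c (h2 a ha) (h2 b hb) (h2 c hc) (hcm a ha b hb) (hcm a ha c hc)
        (hcm b hb c hc) ha1 hbn.1 hbn.2
    have := Set.ncard_le_ncard hsub (Set.toFinite _)
    rw [show (P : Set (Equiv.Perm (Fin 4))).ncard = 2 ^ n from hn, show n = 3 by omega] at this
    have h4 : ({1, a, b, a * b} : Set (Equiv.Perm (Fin 4))).ncard ≤ 4 := by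
      refine (Set.ncard_insert_le _ _).trans (Nat.succ_le_succ ?_)
      refine (Set.ncard_insert_le _ _).trans (Nat.succ_le_succ ?_)
      exact (Set.ncard_insert_le _ _).trans (by rw [Set.ncard_singleton])
    omega
  refine PGroups.Harada.index_frattini_le_four_of_cyclic hP (zpowers a) ?_
  obtain ⟨j, hj⟩ := (hP a)
  have hord : orderOf a ∣ 2 ^ j := orderOf_dvd_of_pow_eq_one hj
  obtain ⟨i, -, hi⟩ := (Nat.dvd_prime_pow Nat.prime_two).1 hord
  have hi2 : 2 ≤ i := by
    by_contra h
    apply ha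
    rw [← pow_two, ← orderOf_dvd_iff_pow_eq_one, hi]
    exact dvd_trans (pow_dvd_pow 2 (show i ≤ 1 by omega)) (by norm_num)
  have h1 := Subgroup.card_mul_index (zpowers a)
  rw [Nat.card_zpowers, hi, hn, show n = 3 by omega] at h1
  have : 4 ≤ 2 ^ i := le_trans (by norm_num) (Nat.pow_le_pow_right two_pos hi2)
  by_contra h
  have := Nat.mul_le_mul this (show 3 ≤ (zpowers a).index by omega)
  omega

/-- The counting bound through the action on the four points. -/
theorem rank_of_counts (hS : IsPGroup 2 S) (ψ : S →* Equiv.Perm (Fin 4))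
    (h : ∀ (L : Type u) [Group L] [Finite L] (ι : L →* S), Function.Injective ι →
      (frattini L).relIndex (ψ.comp ι).ker ≤ 4 ∨
        ((frattini L).relIndex (ψ.comp ι).ker ≤ 8 ∧ IsCyclic (ψ.comp ι).range) ∨
        ((ψ.comp ι).range = ⊥ ∧ Nat.card L ≤ 16)) :
    Cfsg.SectionalPRankLE 2 4 S := by
  refine PGroups.Harada.sectionalPRankLE_of_index fun L _ _ ι hι => ?_
  have hL : IsPGroup 2 L := hS.of_injective ι hι
  have hR : IsPGroup 2 (ψ.comp ι).range := hL.of_surjective _ (ψ.comp ι).rangeRestrict_surjective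
  have h1 := PGroups.Harada.index_frattini_eq (ψ.comp ι).ker
  have h2 := PGroups.Harada.sup_index_le hL (ψ.comp ι) _ rfl
  rcases h L ι hι with hc | ⟨hc, hcy⟩ | ⟨-, hc⟩
  · rw [h1]; exact (Nat.mul_le_mul hc (h2.trans (image_index_le hR))).trans (by norm_num)
  · haveI := hcy
    rw [h1]
    exact (Nat.mul_le_mul hc (h2.trans (PGroups.Harada.index_frattini_le_two_of_cyclic hR))).trans
      (by norm_num)
  · exact PGroups.Harada.index_frattini_le_card.trans (hc.trans (by norm_num))

theorem relIndex_le_index_frattini {L : Type u} [Group L] [Finite L] (N : Subgroup L) [N.Normal] :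
    (frattini L).relIndex N ≤ (frattini N).index := by
  refine Nat.le_of_dvd (Nat.pos_of_ne_zero Subgroup.index_ne_zero_of_finite)
    (Subgroup.index_dvd_of_le ?_)
  intro x hx
  exact Base.map_frattini_le_frattini N (Subgroup.mem_map_of_mem _ hx)

/-- If the kernel has order at most four, the rank is at most four. -/
theorem rank_of_small_ker (hS : IsPGroup 2 S) (ψ : S →* Equiv.Perm (Fin 4))
    (hK : Nat.card ψ.ker ≤ 4) : Cfsg.SectionalPRankLE 2 4 S := by
  refine rank_of_counts hS ψ fun L _ _ ι hι => Or.inl ?_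
  refine (PGroups.Harada.relIndex_le_card _).trans (le_trans ?_ hK)
  exact Nat.card_le_card_of_injective (fun x => (⟨ι x, x.2⟩ : ψ.ker))
    fun x y hxy => Subtype.ext (hι (congrArg Subtype.val hxy))

/-- An involution with two fixed elements in the kernel. -/
theorem rank_of_small_fixed (hS : IsPGroup 2 S) (ψ : S →* Equiv.Perm (Fin 4)) {w : S}
    (hw : orderOf w = 2) (hwK : ψ w ≠ 1)
    (hC : Nat.card ↥(ψ.ker ⊓ centralizer ({w} : Set S)) ≤ 2) :
    Cfsg.SectionalPRankLE 2 4 S := by
  haveI : Fact (Nat.Prime 2) := ⟨Nat.prime_two⟩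
  have hww : w * w = 1 := by rw [← pow_two, ← hw, pow_orderOf_eq_one]
  set X := zpowers w ⊔ ψ.ker with hX
  have hwX : w ∈ X := SetLike.le_def.1 le_sup_left (mem_zpowers w)
  have hdec : ∀ x ∈ X, x ∈ ψ.ker ∨ x * w ∈ ψ.ker := fun x hx => by
    rw [← SetLike.mem_coe, hX, Subgroup.coe_mul_of_left_le_normalizer_right _ _
      (le_trans le_top (Subgroup.normalizer_eq_top ψ.ker).ge), Set.mem_mul] at hx
    obtain ⟨a, ha, k, hk, rfl⟩ := hx
    obtain ⟨i, rfl⟩ := mem_zpowers_iff.1 ha
    rcases Int.even_or_odd i with ⟨j, rfl⟩ | ⟨j, rfl⟩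
    · left
      rwa [show w ^ (j + j) = 1 by
        rw [← two_mul, zpow_mul, zpow_ofNat, pow_two, hww, one_zpow], one_mul]
    · right
      rw [show w ^ (2 * j + 1) = w by
        rw [zpow_add, zpow_one, zpow_mul, zpow_ofNat, pow_two, hww, one_zpow, one_mul]]
      rw [MonoidHom.mem_ker, map_mul, map_mul, MonoidHom.mem_ker.1 hk, mul_one, ← map_mul, hww,
        map_one]
  set T : Set S := ((ψ.ker ⊓ centralizer ({w} : Set S) : Subgroup S) : Set S) with hT
  have hsub : (((centralizer ({⟨w, hwX⟩} : Set X)).map X.subtype : Subgroup S) : Set S)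
      ⊆ T ∪ (· * w) '' T := by
    rintro _ ⟨x, hx, rfl⟩
    have hc : (x : S) * w = w * x :=
      congrArg Subtype.val (Subgroup.mem_centralizer_singleton_iff.1 hx)
    rcases hdec _ x.2 with h | h
    · exact Or.inl ⟨h, Subgroup.mem_centralizer_singleton_iff.2 hc⟩
    · refine Or.inr ⟨x * w, ⟨h, Subgroup.mem_centralizer_singleton_iff.2 ?_⟩, ?_⟩
      · rw [← mul_assoc w, ← hc]
      · simp [mul_assoc, hww]
  have hcard : Nat.card (centralizer ({⟨w, hwX⟩} : Set X)) ≤ 4 := by
    rw [← Subgroup.card_map_of_injective X.subtype_injective]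
    refine PGroups.Harada.card_sub_le hsub ?_
    refine (Set.ncard_union_le _ _).trans ?_
    have h1 : T.ncard ≤ 2 := hC
    have h2 := Set.ncard_image_le (s := T) (f := (· * w)) (Set.toFinite _)
    omega
  have hw1 : (⟨w, hwX⟩ : X) ≠ 1 := fun h =>
    hwK (by rw [show w = 1 from congrArg Subtype.val h, map_one])
  have hZ := PGroups.Harada.exists_cyclic_index_two (hS.to_subgroup X) hw1 hcard
  refine rank_of_counts hS ψ fun L _ _ ι hι => Or.inl ?_
  refine (relIndex_le_index_frattini _).trans ?_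
  let j : (ψ.comp ι).ker →* X :=
    { toFun := fun x => ⟨ι x, SetLike.le_def.1 le_sup_right x.2⟩
      map_one' := Subtype.ext (map_one ι)
      map_mul' := fun a b => Subtype.ext (map_mul ι _ _) }
  have hj : Function.Injective j := fun a b hab => Subtype.ext (hι (congrArg Subtype.val hab))
  let e := MonoidHom.ofInjective hj
  have := PGroups.Harada.index_frattini_subgroup_le (hS.to_subgroup X) hZ j.range
  refine le_trans ?_ this
  haveI : Finite j.range := inferInstance
  refine Nat.le_of_dvd (Nat.pos_of_ne_zero Subgroup.index_ne_zero_of_finite) ?_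
  have hle : (frattini (ψ.comp ι).ker).map e.toMonoidHom ≤ frattini j.range :=
    Base.map_frattini_le e.toMonoidHom e.surjective
  have hge : frattini j.range ≤ (frattini (ψ.comp ι).ker).map e.toMonoidHom := by
    have := Subgroup.map_mono (f := e.toMonoidHom)
      (Base.map_frattini_le e.symm.toMonoidHom e.symm.surjective)
    rwa [Subgroup.map_map, show e.toMonoidHom.comp e.symm.toMonoidHom = MonoidHom.id _ by
      ext x; simp, Subgroup.map_id] at this
  rw [le_antisymm hge hle, Subgroup.index_map_of_bijective (f := e.toMonoidHom) e.bijective]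

end CfsgLib.FixityFour.CentralFixed
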