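import Cfsg.Agent.Lib.FixityFour.CentralBasic

/-!
# A four-group fixing a four-set pointwise, seen from the kernel of the action on the other four-set
-/

set_option autoImplicit false
set_option linter.unusedSectionVars false
set_option linter.style.haveILetI false

namespace CfsgLib.FixityFour.CentralFixed

open Subgroup
open scoped commutatorElement

universe u

theorem cm_mul_right {S : Type*} [Group S] (x r s : S) :
    ⁅x, r * s⁆ = ⁅x, r⁆ * (r * ⁅x, s⁆ * r⁻¹) := by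
  simp only [commutatorElement_def]; group

theorem cm_mul_left {S : Type*} [Group S] (x y r : S) :
    ⁅x * y, r⁆ = x * ⁅y, r⁆ * x⁻¹ * ⁅x, r⁆ := by
  simp only [commutatorElement_def]; group

theorem cm_inverted {S : Type*} [Group S] (y : S) {r : S} (hr : r * r = 1) :
    r * ⁅y, r⁆ * r⁻¹ = (⁅y, r⁆)⁻¹ := by
  have hi := inv_eq_of_mul_eq_one_right hr
  simp only [commutatorElement_def, hi, mul_inv_rev, inv_inv, mul_assoc]
  rw [hr, mul_one]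

theorem cm_central {S : Type*} [Group S] {w : S} (hw : ∀ g, w * g = g * w) (a b : S) :
    ⁅a, b * w⁆ = ⁅a, b⁆ := by
  have h : ⁅a, w⁆ = 1 := by
    rw [commutatorElement_eq_one_iff_mul_comm]; exact (hw a).symm
  rw [cm_mul_right, h, mul_one, mul_inv_cancel, mul_one]

/-- A four-group `R` acting regularly on the four points, centralising `V`, with fixed points
exactly `V` in the kernel. -/
structure Reg (S : Type u) [Group S] where
  hS : IsPGroup 2 S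
  ψ : S →* Equiv.Perm (Fin 4)
  z : S
  hzc : ∀ g, z * g = g * z
  hz2 : z * z = 1
  hz1 : z ≠ 1
  hzK : ψ z = 1
  V : Subgroup S
  R : Subgroup S
  hVK : V ≤ ψ.ker
  hzV : z ∈ V
  hV4 : Nat.card V = 4
  hR4 : Nat.card R = 4
  hR2 : ∀ r ∈ R, r * r = 1
  hRψ : ∀ r ∈ R, r ≠ 1 → ψ r ≠ 1 ∧ Reg4 (ψ r)
  hfix : ∀ r ∈ R, r ≠ 1 → ∀ x ∈ ψ.ker, x * r = r * x → x ∈ V
  hcent : ∀ r ∈ R, ∀ v ∈ V, v * r = r * v

namespace Reg

variable {S : Type u} [Group S] [Finite S] (Q : Reg S)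

theorem eq_one_of_mem {r : S} (hr : r ∈ Q.R) (h : Q.ψ r = 1) : r = 1 := by
  by_contra h1; exact (Q.hRψ r hr h1).1 h

theorem Rcomm {r s : S} (hr : r ∈ Q.R) (hs : s ∈ Q.R) : r * s = s * r := comm_of_sq Q.hR2 hr hs

theorem Rinv {r : S} (hr : r ∈ Q.R) : r⁻¹ = r := inv_of_sq (Q.hR2 r hr)

theorem conj_V {r v : S} (hr : r ∈ Q.R) (hv : v ∈ Q.V) : r * v * r⁻¹ = v := by
  rw [← Q.hcent r hr v hv, mul_inv_cancel_right]

theorem exists_pair : ∃ r ∈ Q.R, ∃ s ∈ Q.R, r ≠ 1 ∧ s ≠ 1 ∧ r ≠ s := by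
  have hR : Q.R ≠ ⊥ := fun h => by
    have := Q.hR4
    rw [h, Subgroup.card_bot] at this; omega
  obtain ⟨r, hr, hr1⟩ := Q.R.bot_or_exists_ne_one.resolve_left hR
  by_contra hcon
  simp only [not_exists, not_and, not_not] at hcon
  have hsub : (Q.R : Set S) ⊆ {1, r} := fun x hx => by
    by_cases h : x = 1
    · exact Or.inl h
    · exact Or.inr (hcon r hr x hx hr1 h).symm
  have := PGroups.Harada.card_sub_le hsub ((Set.ncard_insert_le _ _).trans (by rw [Set.ncard_singleton]))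
  rw [Q.hR4] at this
  omega

theorem mem_of_two_valued {y : S} (hy : y ∈ Q.ψ.ker)
    (h : ∀ r ∈ Q.R, ⁅y, r⁆ = 1 ∨ ⁅y, r⁆ = Q.z) : y ∈ Q.V := by
  obtain ⟨r, hr, s, hs, hr1, hs1, hrs⟩ := Q.exists_pair
  have key : ∀ t ∈ Q.R, t ≠ 1 → ⁅y, t⁆ = 1 → y ∈ Q.V := fun t ht ht1 h =>
    Q.hfix t ht ht1 y hy (commutatorElement_eq_one_iff_mul_comm.1 h)
  rcases h r hr with hr' | hr'
  · exact key r hr hr1 hr'
  rcases h s hs with hs' | hs'
  · exact key s hs hs1 hs'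
  refine key (r * s) (mul_mem hr hs) ?_ ?_
  · intro h'
    exact hrs (by rw [mul_eq_one_iff_eq_inv.1 h', Q.Rinv hs])
  · rw [cm_mul_right, hr', hs', ← Q.hzc r, mul_inv_cancel_right, Q.hz2]

theorem cm_conj {r y : S} (hr : r ∈ Q.R) (h : ⁅y, r⁆ ∈ Q.V) : ⁅y, r⁆ * ⁅y, r⁆ = 1 := by
  have h1 := cm_inverted y (Q.hR2 r hr)
  rw [Q.conj_V hr h] at h1
  exact mul_eq_one_iff_eq_inv.2 h1

theorem exists_r {σ : Equiv.Perm (Fin 4)} (hσ : Reg4 σ) : ∃ r ∈ Q.R, Q.ψ r = σ := by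
  have hreg : ∀ r ∈ Q.R, Reg4 (Q.ψ r) := fun r hr => by
    by_cases h : r = 1
    · left; rw [h, map_one]
    · exact (Q.hRψ r hr h).2
  have hinj : Function.Injective (fun r : Q.R => Q.ψ r 0) := by
    rintro ⟨r, hr⟩ ⟨s, hs⟩ h
    have h1 := reg4_eq_of_apply _ _ (hreg r hr) (hreg s hs) h
    have h2 := Q.eq_one_of_mem (mul_mem (inv_mem hr) hs) (by rw [map_mul, map_inv, h1, inv_mul_cancel])
    exact Subtype.ext (inv_mul_eq_one.1 h2)
  obtain ⟨⟨r, hr⟩, h⟩ := (hinj.bijective_of_nat_card_le (by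
    rw [Q.hR4, Nat.card_eq_fintype_card, Fintype.card_fin])).2 (σ 0)
  exact ⟨r, hr, reg4_eq_of_apply _ _ (hreg r hr) hσ h⟩

theorem exists_reg_split {m : S} (hm : Reg4 (Q.ψ m)) :
    ∃ k ∈ Q.ψ.ker, ∃ r ∈ Q.R, m = k * r := by
  obtain ⟨r, hr, h⟩ := Q.exists_r hm
  refine ⟨m * r⁻¹, ?_, r, hr, (inv_mul_cancel_right m r).symm⟩
  rw [MonoidHom.mem_ker, map_mul, map_inv, h, mul_inv_cancel]

theorem ker_conj (g : S) {x : S} (hx : x ∈ Q.ψ.ker) : g * x * g⁻¹ ∈ Q.ψ.ker :=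
  (inferInstance : Q.ψ.ker.Normal).conj_mem x hx g

theorem R_inter_ker : ∀ r ∈ Q.R, r ∈ Q.ψ.ker → r = 1 := fun _ hr h => Q.eq_one_of_mem hr h

/-- When the only involution of `V` is `z`, the kernel is `V`. -/
theorem ker_le_of_cyclic (hV : ∀ v ∈ Q.V, v * v = 1 → v = 1 ∨ v = Q.z) : Q.ψ.ker ≤ Q.V := by
  by_contra hne
  obtain ⟨y, hy, hyV, ha, -⟩ := exists_step Q.hS Q.R Q.V Q.ψ.ker Q.hVK hne Q.R_inter_ker
    (fun r _ b hb => Q.ker_conj r hb) (fun r hr a ha => by rw [Q.conj_V hr ha]; exact ha)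
  exact hyV (Q.mem_of_two_valued hy fun r hr => hV _ (ha r hr) (Q.cm_conj hr (ha r hr)))

theorem rank_of_cyclic (hV : ∀ v ∈ Q.V, v * v = 1 → v = 1 ∨ v = Q.z) :
    Cfsg.SectionalPRankLE 2 4 S :=
  rank_of_small_ker Q.hS Q.ψ ((Subgroup.card_le_of_le (Q.ker_le_of_cyclic hV)).trans Q.hV4.le)

end Reg

/-- The case of a four-group `V`, with the normal elementary subgroup. -/
structure Quad (S : Type u) [Group S] extends Reg S where
  hV2 : ∀ v ∈ V, v * v = 1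
  E : Subgroup S
  hEn : E.Normal
  hEc : ∀ a ∈ E, ∀ b ∈ E, a * b = b * a
  hE2 : ∀ e ∈ E, e * e = 1
  hE8 : 8 ≤ Nat.card E
  hzE : z ∈ E

namespace Quad

variable {S : Type u} [Group S] [Finite S] (Q : Quad S)

/-- The elements of the kernel centralising `V` and moved into `V` by `R`. -/
def X : Subgroup S where
  carrier := {y | y ∈ Q.ψ.ker ∧ (∀ v ∈ Q.V, y * v = v * y) ∧ ∀ r ∈ Q.R, ⁅y, r⁆ ∈ Q.V}
  one_mem' := ⟨one_mem _, fun v _ => by rw [one_mul, mul_one], fun r _ => by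
    rw [commutatorElement_one_left]; exact one_mem _⟩
  mul_mem' := by
    rintro a b ⟨ha, hac, har⟩ ⟨hb, hbc, hbr⟩
    refine ⟨mul_mem ha hb, fun v hv => ?_, fun r hr => ?_⟩
    · rw [mul_assoc, hbc v hv, ← mul_assoc, hac v hv, mul_assoc]
    · rw [cm_mul_left, hac _ (hbr r hr), mul_inv_cancel_right]
      exact mul_mem (hbr r hr) (har r hr)
  inv_mem' := by
    rintro a ⟨ha, hac, har⟩
    refine ⟨inv_mem ha, fun v hv => ?_, fun r hr => ?_⟩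
    · have h := hac v hv
      calc a⁻¹ * v = a⁻¹ * (v * a) * a⁻¹ := by group
        _ = a⁻¹ * (a * v) * a⁻¹ := by rw [h]
        _ = v * a⁻¹ := by group
    · have h := cm_mul_left a⁻¹ a r
      rw [inv_mul_cancel, commutatorElement_one_left] at h
      rw [← eq_inv_of_mul_eq_one_right h.symm |>.symm]
      have h2 := hac _ (har r hr)
      rw [inv_inv, show a⁻¹ * ⁅a, r⁆ * a = ⁅a, r⁆ by rw [mul_assoc, ← h2, inv_mul_cancel_left]]
      exact inv_mem (har r hr)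

theorem mem_X {y : S} :
    y ∈ Q.X ↔ y ∈ Q.ψ.ker ∧ (∀ v ∈ Q.V, y * v = v * y) ∧ ∀ r ∈ Q.R, ⁅y, r⁆ ∈ Q.V := Iff.rfl

theorem Vcomm {a b : S} (ha : a ∈ Q.V) (hb : b ∈ Q.V) : a * b = b * a := comm_of_sq Q.hV2 ha hb

theorem cm_V {r v : S} (hr : r ∈ Q.R) (hv : v ∈ Q.V) : ⁅v, r⁆ = 1 :=
  commutatorElement_eq_one_iff_mul_comm.2 (Q.hcent r hr v hv)

theorem V_le_X : Q.V ≤ Q.X := fun v hv => Q.mem_X.2
  ⟨Q.hVK hv, fun w hw => Q.Vcomm hv hw, fun r hr => by rw [Q.cm_V hr hv]; exact one_mem _⟩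

theorem cmX_mul {x y r : S} (hx : x ∈ Q.X) (hy : y ∈ Q.X) (hr : r ∈ Q.R) :
    ⁅x * y, r⁆ = ⁅x, r⁆ * ⁅y, r⁆ := by
  rw [cm_mul_left, (Q.mem_X.1 hx).2.1 _ ((Q.mem_X.1 hy).2.2 r hr), mul_inv_cancel_right,
    Q.Vcomm ((Q.mem_X.1 hy).2.2 r hr) ((Q.mem_X.1 hx).2.2 r hr)]

theorem cmX_right {x r s : S} (hx : x ∈ Q.X) (hr : r ∈ Q.R) (hs : s ∈ Q.R) :
    ⁅x, r * s⁆ = ⁅x, r⁆ * ⁅x, s⁆ := by
  rw [cm_mul_right, Q.conj_V hr ((Q.mem_X.1 hx).2.2 s hs)]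

theorem mem_V_of_cm {x r : S} (hx : x ∈ Q.X) (hr : r ∈ Q.R) (hr1 : r ≠ 1) (h : ⁅x, r⁆ = 1) :
    x ∈ Q.V :=
  Q.hfix r hr hr1 x (Q.mem_X.1 hx).1 (commutatorElement_eq_one_iff_mul_comm.1 h)

theorem eq_of_cm {x r s : S} (hx : x ∈ Q.X) (hxV : x ∉ Q.V) (hr : r ∈ Q.R) (hs : s ∈ Q.R)
    (h : ⁅x, r⁆ = ⁅x, s⁆) : r = s := by
  by_contra hne
  refine hxV (Q.mem_V_of_cm hx (mul_mem hr hs) (fun h' => hne ?_) ?_)
  · rw [mul_eq_one_iff_eq_inv.1 h', Q.Rinv hs]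
  · rw [Q.cmX_right hx hr hs, h, Q.hV2 _ ((Q.mem_X.1 hx).2.2 s hs)]

theorem sq_mem {x : S} (hx : x ∈ Q.X) : x * x ∈ Q.V := by
  obtain ⟨r, hr, -, -, hr1, -⟩ := Q.exists_pair
  exact Q.mem_V_of_cm (mul_mem hx hx) hr hr1
    (by rw [Q.cmX_mul hx hx hr, Q.hV2 _ ((Q.mem_X.1 hx).2.2 r hr)])

theorem comm_mem {x y : S} (hx : x ∈ Q.X) (hy : y ∈ Q.X) : ⁅x, y⁆ ∈ Q.V := by
  obtain ⟨r, hr, -, -, hr1, -⟩ := Q.exists_pair
  refine Q.mem_V_of_cm (cm_mem hx hy) hr hr1 ?_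
  have h := Q.cmX_mul (mul_mem hx hy) (mul_mem (inv_mem hx) (inv_mem hy)) hr
  have hi : ∀ a ∈ Q.X, ⁅a⁻¹, r⁆ = ⁅a, r⁆ := fun a ha => by
    have h1 := Q.cmX_mul (inv_mem ha) ha hr
    rw [inv_mul_cancel, commutatorElement_one_left] at h1
    rw [eq_inv_of_mul_eq_one_left h1.symm, inv_of_sq (Q.hV2 _ ((Q.mem_X.1 ha).2.2 r hr))]
  rw [show x * y * (x⁻¹ * y⁻¹) = ⁅x, y⁆ by rw [commutatorElement_def]; group,
    Q.cmX_mul hx hy hr, Q.cmX_mul (inv_mem hx) (inv_mem hy) hr, hi x hx, hi y hy] at h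
  rw [h]
  exact Q.hV2 _ (mul_mem ((Q.mem_X.1 hx).2.2 r hr) ((Q.mem_X.1 hy).2.2 r hr))

theorem R_conj_X {r x : S} (hr : r ∈ Q.R) (hx : x ∈ Q.X) : r * x * r⁻¹ ∈ Q.X := by
  have h : r * x * r⁻¹ = ⁅r, x⁆ * x := by rw [commutatorElement_def]; group
  rw [h, ← commutatorElement_inv x r]
  exact mul_mem (Q.V_le_X (inv_mem ((Q.mem_X.1 hx).2.2 r hr))) hx

theorem mem_z_of_mem {W : Subgroup S} (hW : W ≤ Q.ψ.ker) (hzW : Q.z ∈ W)
    (hWn : ∀ r ∈ Q.R, ∀ w ∈ W, r * w * r⁻¹ ∈ W)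
    (hWV : ∀ w ∈ W, w ∈ Q.V → w = 1 ∨ w = Q.z) {w : S} (hw : w ∈ W) : w = 1 ∨ w = Q.z := by
  let Z : Subgroup S :=
    { carrier := {g | g = 1 ∨ g = Q.z}
      one_mem' := Or.inl rfl
      mul_mem' := by
        rintro a b (rfl | rfl) (rfl | rfl)
        exacts [Or.inl (one_mul _), Or.inr (one_mul _), Or.inr (mul_one _), Or.inl Q.hz2]
      inv_mem' := by
        rintro a (rfl | rfl)
        exacts [Or.inl inv_one, Or.inr (inv_of_sq Q.hz2)] }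
  by_contra hne
  have hZW : Z ≤ W := by
    rintro g (rfl | rfl)
    exacts [one_mem _, hzW]
  obtain ⟨y, hy, hyZ, ha, -⟩ := exists_step Q.hS Q.R Z W hZW (fun h => hne (h hw))
    (fun r hr hrW => Q.eq_one_of_mem hr (hW hrW)) hWn (fun r hr a ha => by
      have hav : a ∈ Q.V := by rcases ha with rfl | rfl; exacts [one_mem _, Q.hzV]
      rw [Q.conj_V hr hav]; exact ha)
  exact hyZ (hWV y hy (Q.mem_of_two_valued (hW hy) ha))

theorem V_le_of_ne {W : Subgroup S} (hzW : Q.z ∈ W) {w : S} (hw : w ∈ W) (hwV : w ∈ Q.V)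
    (h1 : w ≠ 1) (hz : w ≠ Q.z) : Q.V ≤ W := fun v hv => by
  rcases mem_four Q.hV4 Q.hV2 Q.hzV hwV Q.hz1 h1 (Ne.symm hz) hv with rfl | rfl | rfl | rfl
  exacts [one_mem _, hzW, hw, mul_mem hzW hw]

theorem norm_back {y x : S} (hyn : ∀ v ∈ Q.V, y * v * y⁻¹ ∈ Q.V) (h : y * x * y⁻¹ ∈ Q.V) :
    x ∈ Q.V := by
  have hinj : Function.Injective (fun v : Q.V => (⟨y * v * y⁻¹, hyn v v.2⟩ : Q.V)) :=
    fun a b hab => Subtype.ext (by simpa using congrArg Subtype.val hab)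
  obtain ⟨⟨v, hv⟩, hv'⟩ := (hinj.bijective_of_nat_card_le le_rfl).2 ⟨_, h⟩
  have : v = x := by simpa using congrArg Subtype.val hv'
  exact this ▸ hv

/-- No element of the kernel normalising `V` is moved into `X` but not into `V`. -/
theorem no_level_two {y : S} (hyK : y ∈ Q.ψ.ker) (hyn : ∀ v ∈ Q.V, y * v * y⁻¹ ∈ Q.V)
    (ha : ∀ r ∈ Q.R, ⁅y, r⁆ ∈ Q.X) {r₁ : S} (hr₁ : r₁ ∈ Q.R) (hnot : ⁅y, r₁⁆ ∉ Q.V) : False := by
  haveI := Q.hEn
  have hXV : ∀ {x v : S}, x ∈ Q.X → v ∈ Q.V → x * v = v * x := fun hx hv => (Q.mem_X.1 hx).2.1 _ hv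
  -- all values are outside V
  have haV : ∀ r ∈ Q.R, r ≠ 1 → ⁅y, r⁆ ∉ Q.V := by
    intro r hr hr1 hw
    apply hnot
    have h1 := cm_mul_right y r r₁
    have h2 := cm_mul_right y r₁ r
    rw [Q.Rcomm hr₁ hr, Q.conj_V hr₁ hw, hXV (ha r₁ hr₁) hw] at h2
    rw [h2] at h1
    refine Q.hfix r hr hr1 _ (Q.mem_X.1 (ha r₁ hr₁)).1 ?_
    exact mul_inv_eq_iff_eq_mul.1 (mul_left_cancel h1).symm |>.symm
  have haV' : ∀ r ∈ Q.R, ⁅y, r⁆ ∈ Q.V → r = 1 := fun r hr h => by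
    by_contra h1; exact haV r hr h1 h
  have hmod : ∀ r ∈ Q.R, ∀ s ∈ Q.R, (⁅y, r⁆ * ⁅y, s⁆ ∈ Q.V → r = s) := by
    intro r hr s hs h
    have h1 := cm_mul_right y r s
    have h2 : r * ⁅y, s⁆ * r⁻¹ = ⁅r, ⁅y, s⁆⁆ * ⁅y, s⁆ := by
      rw [commutatorElement_def r]; group
    have hv : ⁅r, ⁅y, s⁆⁆ ∈ Q.V := by
      rw [← commutatorElement_inv _ r]; exact inv_mem ((Q.mem_X.1 (ha s hs)).2.2 r hr)
    rw [h2, ← mul_assoc, hXV (ha r hr) hv, mul_assoc] at h1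
    have h3 := haV' _ (mul_mem hr hs) (by rw [h1]; exact mul_mem hv h)
    rw [mul_eq_one_iff_eq_inv.1 h3, Q.Rinv hs]
  -- the values are the classes modulo V
  have hclass : ∀ x ∈ Q.X, ∀ r ∈ Q.R, r ≠ 1 → ∃ s ∈ Q.R, ⁅x, r⁆ = ⁅⁅y, s⁆, r⁆ ∧ x * ⁅y, s⁆ ∈ Q.V := by
    intro x hx r hr hr1
    have hinj : Function.Injective
        (fun s : Q.R => (⟨⁅⁅y, (s : S)⁆, r⁆, (Q.mem_X.1 (ha s s.2)).2.2 r hr⟩ : Q.V)) := by
      rintro ⟨s, hs⟩ ⟨t, ht⟩ h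
      have h' : ⁅⁅y, s⁆, r⁆ = ⁅⁅y, t⁆, r⁆ := congrArg Subtype.val h
      refine Subtype.ext (hmod s hs t ht (Q.mem_V_of_cm (mul_mem (ha s hs) (ha t ht)) hr hr1 ?_))
      rw [Q.cmX_mul (ha s hs) (ha t ht) hr, h', Q.hV2 _ ((Q.mem_X.1 (ha t ht)).2.2 r hr)]
    obtain ⟨⟨s, hs⟩, h⟩ := (hinj.bijective_of_nat_card_le (by rw [Q.hV4, Q.hR4])).2
      ⟨⁅x, r⁆, (Q.mem_X.1 hx).2.2 r hr⟩
    have h' : ⁅⁅y, s⁆, r⁆ = ⁅x, r⁆ := congrArg Subtype.val h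
    refine ⟨s, hs, h'.symm, Q.mem_V_of_cm (mul_mem hx (ha s hs)) hr hr1 ?_⟩
    rw [Q.cmX_mul hx (ha s hs) hr, h', Q.hV2 _ ((Q.mem_X.1 hx).2.2 r hr)]
  -- a class determines square and values
  have hval : ∀ x ∈ Q.X, ∀ s ∈ Q.R, x * ⁅y, s⁆ ∈ Q.V →
      x * x = ⁅y, s⁆ * ⁅y, s⁆ ∧ ⁅x, s⁆ = ⁅y, s⁆ * ⁅y, s⁆ := by
    intro x hx s hs h
    set a := ⁅y, s⁆ with hadef
    have hval0 : ⁅a, s⁆ = a * a := by
      have h1 := cm_inverted y (Q.hR2 s hs)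
      rw [← hadef] at h1
      calc ⁅a, s⁆ = a * (s * a * s⁻¹)⁻¹ := by rw [commutatorElement_def]; group
        _ = a * a := by rw [h1, inv_inv]
    have hsq := Q.sq_mem (ha s hs)
    rw [← hadef] at hsq
    have hx' : x = x * a * a⁻¹ := (mul_inv_cancel_right x a).symm
    constructor
    · calc x * x = x * a * a⁻¹ * (x * a * a⁻¹) := by rw [← hx']
        _ = x * a * (a⁻¹ * (x * a)) * a⁻¹ := by group
        _ = x * a * (x * a * a⁻¹) * a⁻¹ := by rw [hXV (inv_mem (ha s hs)) h]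
        _ = (x * a) * (x * a) * (a * a)⁻¹ := by group
        _ = a * a := by rw [Q.hV2 _ h, one_mul, inv_of_sq (Q.hV2 _ hsq)]
    · have h1 := Q.cmX_mul hx (ha s hs) hs
      rw [← hadef, Q.cm_V hs h, hval0] at h1
      rw [eq_inv_of_mul_eq_one_left h1.symm, inv_of_sq (Q.hV2 _ hsq)]
  have hnoinv : ∀ x ∈ Q.X, x * x = 1 → x ∈ Q.V := by
    intro x hx hxx
    by_contra hxV
    obtain ⟨r, hr, -, -, hr1, -⟩ := Q.exists_pair
    obtain ⟨s, hs, -, h⟩ := hclass x hx r hr hr1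
    obtain ⟨h1, h2⟩ := hval x hx s hs h
    rw [← h1, hxx] at h2
    by_cases hs1 : s = 1
    · rw [hs1, commutatorElement_one_right, mul_one] at h; exact hxV h
    · exact hxV (Q.mem_V_of_cm hx hs hs1 h2)
  -- the part of E in the kernel
  have hFn : ∀ g : S, ∀ f ∈ Q.E ⊓ Q.ψ.ker, g * f * g⁻¹ ∈ Q.E ⊓ Q.ψ.ker := fun g f hf =>
    ⟨Q.hEn.conj_mem f hf.1 g, Q.ker_conj g hf.2⟩
  have hzF : Q.z ∈ Q.E ⊓ Q.ψ.ker := ⟨Q.hzE, MonoidHom.mem_ker.2 Q.hzK⟩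
  have hFV : ∀ f ∈ Q.E ⊓ Q.ψ.ker, f ∈ Q.V := by
    intro f hf
    by_cases hVF : Q.V ≤ Q.E ⊓ Q.ψ.ker
    · by_contra hfV
      have hfX : f ∉ Q.X := fun h => hfV (hnoinv f h (Q.hE2 f hf.1))
      obtain ⟨y', hy', hy'X, ha', -⟩ := exists_step Q.hS Q.R (Q.E ⊓ Q.ψ.ker ⊓ Q.X)
        (Q.E ⊓ Q.ψ.ker) inf_le_left (fun h => hfX (h hf).2)
        (fun r hr h => Q.eq_one_of_mem hr h.2) (fun r _ b hb => hFn r b hb)
        (fun r hr a ha => ⟨hFn r a ha.1, Q.R_conj_X hr ha.2⟩)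
      refine hy'X ⟨hy', Q.mem_X.2 ⟨hy'.2, fun v hv => Q.hEc _ hy'.1 _ (hVF hv).1, fun r hr => ?_⟩⟩
      exact hnoinv _ (ha' r hr).2 (Q.hE2 _ (ha' r hr).1.1)
    · rcases Q.mem_z_of_mem inf_le_right hzF (fun r _ w hw => hFn r w hw) (fun w hw hwV => by
        by_contra hcon
        simp only [not_or] at hcon
        exact hVF (Q.V_le_of_ne hzF hw hwV hcon.1 hcon.2)) hf with rfl | rfl
      · exact one_mem _
      · exact Q.hzV
  -- an element of E over a regular involution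
  obtain ⟨e, heE, her, he1⟩ : ∃ e ∈ Q.E, Reg4 (Q.ψ e) ∧ Q.ψ e ≠ 1 := by
    obtain ⟨e, heE, heK⟩ : ∃ e ∈ Q.E, Q.ψ e ≠ 1 := by
      by_contra hcon
      simp only [not_exists, not_and, not_not] at hcon
      have := Subgroup.card_le_of_le (H := Q.E) (K := Q.V) fun e he => hFV e ⟨he, hcon e he⟩
      rw [Q.hV4] at this
      exact absurd (Q.hE8.trans this) (by norm_num)
    by_cases hreg : Reg4 (Q.ψ e)
    · exact ⟨e, heE, hreg, heK⟩
    obtain ⟨g, hg, hne⟩ : ∃ g, Reg4 g ∧ g * Q.ψ e ≠ Q.ψ e * g := by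
      by_contra hcon
      simp only [not_exists, not_and, not_not] at hcon
      exact hreg (reg4_of_commute _ hcon)
    obtain ⟨r, hr, rfl⟩ := Q.exists_r hg
    refine ⟨r * e * r⁻¹ * e⁻¹, mul_mem (Q.hEn.conj_mem e heE r) (inv_mem heE), ?_, fun h => hne ?_⟩
    · have hc := reg4_mul _ _ hg (reg4_conj _ (Q.ψ e) hg)
      have hgi : (Q.ψ r)⁻¹ = Q.ψ r := by rw [← map_inv, Q.Rinv hr]
      rw [map_mul, map_mul, map_mul, map_inv, map_inv, hgi]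
      rw [show Q.ψ r * Q.ψ e * Q.ψ r * (Q.ψ e)⁻¹ = Q.ψ r * (Q.ψ e * Q.ψ r * (Q.ψ e)⁻¹) by group]
      exact hc
    · rw [map_mul, map_mul, map_mul, map_inv, map_inv, mul_inv_eq_one, mul_inv_eq_iff_eq_mul] at h
      exact h
  obtain ⟨k, hk, r₀, hr₀, rfl⟩ := Q.exists_reg_split her
  have hr₀1 : r₀ ≠ 1 := fun h => he1 (by rw [h, mul_one]; exact hk)
  have hsk : ∀ s ∈ Q.R, ⁅s, k⁆ ∈ Q.E ⊓ Q.ψ.ker := by
    intro s hs
    have h1 : ⁅s, k * r₀⁆ = ⁅s, k⁆ := by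
      rw [cm_mul_right, commutatorElement_eq_one_iff_mul_comm.2 (Q.Rcomm hs hr₀), mul_one,
        mul_inv_cancel, mul_one]
    refine ⟨h1 ▸ ?_, ?_⟩
    · rw [commutatorElement_def]
      show s * (k * r₀) * s⁻¹ * (k * r₀)⁻¹ ∈ Q.E
      exact mul_mem (Q.hEn.conj_mem _ heE s) (inv_mem heE)
    · show ⁅s, k⁆ ∈ Q.ψ.ker
      rw [MonoidHom.mem_ker, map_commutatorElement, MonoidHom.mem_ker.1 hk,
        commutatorElement_one_right]
  have hyx : ∀ g ∈ Q.ψ.ker, ⁅g, k * r₀⁆ ∈ Q.E ⊓ Q.ψ.ker := fun g hg => by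
    refine ⟨?_, ?_⟩
    · rw [commutatorElement_def]
      show g * (k * r₀) * g⁻¹ * (k * r₀)⁻¹ ∈ Q.E
      exact mul_mem (Q.hEn.conj_mem _ heE g) (inv_mem heE)
    · show ⁅g, k * r₀⁆ ∈ Q.ψ.ker
      rw [MonoidHom.mem_ker, map_commutatorElement, MonoidHom.mem_ker.1 hg,
        commutatorElement_one_left]
  have hkV : ∀ v ∈ Q.V, k * v = v * k := by
    by_cases hVF : Q.V ≤ Q.E ⊓ Q.ψ.ker
    · intro v hv
      have h := Q.hEc _ heE _ (hVF hv).1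
      rw [mul_assoc, ← Q.hcent r₀ hr₀ v hv, ← mul_assoc, ← mul_assoc] at h
      exact mul_right_cancel h
    have hF2 : ∀ f ∈ Q.E ⊓ Q.ψ.ker, f = 1 ∨ f = Q.z := fun f hf =>
      Q.mem_z_of_mem inf_le_right hzF (fun r _ w hw => hFn r w hw) (fun w hw hwV => by
        by_contra hcon
        simp only [not_or] at hcon
        exact hVF (Q.V_le_of_ne hzF hw hwV hcon.1 hcon.2)) hf
    obtain ⟨w, hw, hwr⟩ : ∃ w, (∀ g, w * g = g * w) ∧ k * r₀ * k⁻¹ = r₀ * w := by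
      refine ⟨r₀⁻¹ * (k * r₀ * k⁻¹), ?_, by group⟩
      have h1 : r₀⁻¹ * (k * r₀ * k⁻¹) = ⁅r₀, k⁆ := by
        rw [commutatorElement_def, Q.Rinv hr₀]; group
      rw [h1]
      rcases hF2 _ (hsk r₀ hr₀) with h | h <;> rw [h]
      · intro g; rw [one_mul, mul_one]
      · exact Q.hzc
    have hkn : ∀ v ∈ Q.V, k * v * k⁻¹ ∈ Q.V := fun v hv => by
      refine Q.hfix r₀ hr₀ hr₀1 _ (Q.ker_conj k (Q.hVK hv)) ?_
      have h1 : (k * v * k⁻¹) * (r₀ * w) = (r₀ * w) * (k * v * k⁻¹) := by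
        rw [← hwr]
        calc k * v * k⁻¹ * (k * r₀ * k⁻¹) = k * (v * r₀) * k⁻¹ := by group
          _ = k * (r₀ * v) * k⁻¹ := by rw [Q.hcent r₀ hr₀ v hv]
          _ = _ := by group
      rw [← mul_assoc, mul_assoc r₀ w, hw, ← mul_assoc r₀] at h1
      exact mul_right_cancel h1
    intro v hv
    obtain ⟨t, ht, -, -, ht1, -⟩ := Q.exists_pair
    -- every element of V is a value at r₀
    have hval' : ∀ x ∈ Q.X, k * ⁅x, r₀⁆ * k⁻¹ = ⁅x, r₀⁆ := by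
      intro x hx
      have h1 := hFV _ (hyx x (Q.mem_X.1 hx).1)
      rw [cm_mul_right] at h1
      have hxk : ⁅x, k⁆ ∈ Q.V := by
        have h2 := mul_mem h1 (inv_mem (hkn _ ((Q.mem_X.1 hx).2.2 r₀ hr₀)))
        rwa [mul_inv_cancel_right] at h2
      have hkx : k * x * k⁻¹ = (⁅x, k⁆)⁻¹ * x := by
        rw [commutatorElement_def]; group
      calc k * ⁅x, r₀⁆ * k⁻¹ = ⁅k * x * k⁻¹, k * r₀ * k⁻¹⁆ := by
            rw [commutatorElement_def, commutatorElement_def]; group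
        _ = ⁅(⁅x, k⁆)⁻¹ * x, r₀⁆ := by rw [hwr, cm_central hw, hkx]
        _ = ⁅x, r₀⁆ := by
            rw [Q.cmX_mul (Q.V_le_X (inv_mem hxk)) hx hr₀, Q.cm_V hr₀ (inv_mem hxk), one_mul]
    have hinj : Function.Injective
        (fun s : Q.R => (⟨⁅⁅y, (s : S)⁆, r₀⁆, (Q.mem_X.1 (ha s s.2)).2.2 r₀ hr₀⟩ : Q.V)) := by
      rintro ⟨s, hs⟩ ⟨t, ht⟩ h
      have h' : ⁅⁅y, s⁆, r₀⁆ = ⁅⁅y, t⁆, r₀⁆ := congrArg Subtype.val h
      refine Subtype.ext (hmod s hs t ht (Q.mem_V_of_cm (mul_mem (ha s hs) (ha t ht)) hr₀ hr₀1 ?_))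
      rw [Q.cmX_mul (ha s hs) (ha t ht) hr₀, h', Q.hV2 _ ((Q.mem_X.1 (ha t ht)).2.2 r₀ hr₀)]
    obtain ⟨⟨s, hs⟩, h⟩ := (hinj.bijective_of_nat_card_le (by rw [Q.hV4, Q.hR4])).2 ⟨v, hv⟩
    have h' : ⁅⁅y, s⁆, r₀⁆ = v := congrArg Subtype.val h
    have h3 := hval' _ (ha s hs)
    rw [h'] at h3
    exact mul_inv_eq_iff_eq_mul.1 h3
  have hkX : k ∈ Q.X := Q.mem_X.2 ⟨hk, hkV, fun s hs => by
    rw [← commutatorElement_inv s k]; exact inv_mem (hFV _ (hsk s hs))⟩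
  have ha0 := ha r₀ hr₀
  have hcm : ⁅y, k⁆ * ⁅y, r₀⁆ ∈ Q.V := by
    have h := hFV _ (hyx y hyK)
    rw [cm_mul_right, show k * ⁅y, r₀⁆ * k⁻¹ = ⁅k, ⁅y, r₀⁆⁆ * ⁅y, r₀⁆ by
      rw [commutatorElement_def k]; group] at h
    have hc := Q.comm_mem hkX ha0
    rw [← hXV ha0 hc, ← mul_assoc] at h
    have h2 := mul_mem h (inv_mem hc)
    rwa [mul_inv_cancel_right] at h2
  have hkV' : k ∉ Q.V := fun h => haV r₀ hr₀ hr₀1 (by
    have h1 : ⁅y, k⁆ ∈ Q.V := mul_mem (hyn k h) (inv_mem h)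
    have h2 := mul_mem (inv_mem h1) hcm
    rwa [inv_mul_cancel_left] at h2)
  have hk2 : ⁅k, r₀⁆ = k * k := by
    have h := Q.hE2 _ heE
    calc ⁅k, r₀⁆ = k * (r₀ * k⁻¹ * r₀⁻¹) := by rw [commutatorElement_def]; group
      _ = k * k := by
        congr 1
        rw [Q.Rinv hr₀]
        calc r₀ * k⁻¹ * r₀ = r₀ * k⁻¹ * r₀ * ((k * r₀) * (k * r₀))⁻¹ * ((k * r₀) * (k * r₀)) := by group
          _ = r₀ * k⁻¹ * r₀ * ((k * r₀) * (k * r₀)) := by rw [h, inv_one, mul_one]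
          _ = r₀ * k⁻¹ * (r₀ * k * r₀ * k * r₀) := by group
          _ = r₀ * k⁻¹ * (r₀ * (k * r₀ * k * r₀)) := by group
          _ = k := ?_
        rw [show k * r₀ * k * r₀ = (1 : S) by rw [← h]; group, mul_one]
        have h' : r₀ * k⁻¹ * r₀ = k := by
          calc r₀ * k⁻¹ * r₀ = ((k * r₀) * (k * r₀)) * (r₀ * k⁻¹ * r₀) := by rw [h, one_mul]
            _ = k * r₀ * k * (r₀ * r₀) * k⁻¹ * r₀ := by group
            _ = k := by rw [Q.hR2 r₀ hr₀, mul_one, mul_inv_cancel_right, mul_assoc, Q.hR2 r₀ hr₀, mul_one]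
        exact h'
  obtain ⟨s, hs, -, hks⟩ := hclass k hkX r₀ hr₀ hr₀1
  obtain ⟨h1, h2⟩ := hval k hkX s hs hks
  have hsr : s = r₀ := Q.eq_of_cm hkX hkV' hs hr₀ (by rw [h2, hk2, h1])
  rw [hsr] at hks
  refine hkV' (Q.norm_back hyn ?_)
  have h3 : (⁅y, r₀⁆)⁻¹ * k ∈ Q.V := by
    have hq := Q.sq_mem ha0
    have := mul_mem (inv_mem hq) (mul_mem hks (one_mem Q.V))
    have e : (⁅y, r₀⁆)⁻¹ * k = (⁅y, r₀⁆ * ⁅y, r₀⁆)⁻¹ * (⁅y, r₀⁆ * k) := by group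
    have hc : ⁅y, r₀⁆ * k = k * ⁅y, r₀⁆ * ⁅(⁅y, r₀⁆)⁻¹, k⁻¹⁆⁻¹⁻¹ := by
      simp only [inv_inv, commutatorElement_def]; group
    rw [e, hc]
    exact mul_mem (inv_mem hq) (mul_mem hks (inv_mem (inv_mem
      (Q.comm_mem (inv_mem ha0) (inv_mem hkX)))))
  have e : y * k * y⁻¹ = ⁅y, k⁆ * ⁅y, r₀⁆ * ((⁅y, r₀⁆)⁻¹ * k) := by
    simp only [commutatorElement_def]; group
  rw [e]
  exact mul_mem hcm h3

/-- The kernel centralises `V` and is moved into `V`. -/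
theorem ker_le_X : Q.ψ.ker ≤ Q.X := by
  haveI : Fact (Nat.Prime 2) := ⟨Nat.prime_two⟩
  -- V is normal in the kernel
  let W : Subgroup S :=
    { carrier := {g | g ∈ Q.ψ.ker ∧ ∀ x ∈ Q.ψ.ker, ⁅g, x⁆ = 1 ∨ ⁅g, x⁆ = Q.z}
      one_mem' := ⟨one_mem _, fun x _ => Or.inl (commutatorElement_one_left x)⟩
      mul_mem' := by
        rintro a b ⟨ha, ha'⟩ ⟨hb, hb'⟩
        refine ⟨mul_mem ha hb, fun x hx => ?_⟩
        rw [cm_mul_left]
        rcases hb' x hx with h | h <;> rw [h]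
        · rw [mul_one, mul_inv_cancel, one_mul]; exact ha' x hx
        · rw [← Q.hzc a, mul_inv_cancel_right]
          rcases ha' x hx with h' | h' <;> rw [h']
          · right; rw [mul_one]
          · left; exact Q.hz2
      inv_mem' := by
        rintro a ⟨ha, ha'⟩
        refine ⟨inv_mem ha, fun x hx => ?_⟩
        have h := cm_mul_left a⁻¹ a x
        rw [inv_mul_cancel, commutatorElement_one_left] at h
        rw [eq_inv_of_mul_eq_one_right h.symm]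
        rcases ha' x hx with h' | h' <;> rw [h']
        · left; group
        · right; rw [← Q.hzc a⁻¹, mul_inv_cancel_right, inv_of_sq Q.hz2] }
  have hVn : ∀ y ∈ Q.ψ.ker, ∀ v ∈ Q.V, y * v * y⁻¹ ∈ Q.V := by
    intro y hy v hv
    have hzW : Q.z ∈ W := ⟨MonoidHom.mem_ker.2 Q.hzK, fun x _ => Or.inl
      (commutatorElement_eq_one_iff_mul_comm.2 (Q.hzc x))⟩
    have hVW : Q.V ≤ W := by
      by_contra hne
      have hW2 : ∀ w ∈ W, w = 1 ∨ w = Q.z := fun w hw =>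
        Q.mem_z_of_mem (W := W) (fun g hg => (show g ∈ Q.ψ.ker ∧ _ from hg).1) hzW
          (fun r hr g hg => ⟨Q.ker_conj r (show g ∈ Q.ψ.ker ∧ _ from hg).1, fun x hx => by
            have h1 := hg.2 (r⁻¹ * x * r) (by
              simpa using Q.ker_conj r⁻¹ hx)
            have h2 : ⁅r * g * r⁻¹, x⁆ = r * ⁅g, r⁻¹ * x * r⁆ * r⁻¹ := by
              simp only [commutatorElement_def]; group
            rw [h2]
            rcases h1 with h1 | h1 <;> rw [h1]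
            · left; group
            · right; rw [← Q.hzc r, mul_inv_cancel_right]⟩)
          (fun w hw hwV => by
            by_contra hcon
            simp only [not_or] at hcon
            exact hne (Q.V_le_of_ne hzW hw hwV hcon.1 hcon.2)) hw
      set Z : Subgroup ↥Q.ψ.ker := zpowers (⟨Q.z, MonoidHom.mem_ker.2 Q.hzK⟩ : ↥Q.ψ.ker) with hZdef
      haveI : Z.Normal := by
        refine ⟨fun n hn g => ?_⟩
        obtain ⟨i, rfl⟩ := mem_zpowers_iff.1 hn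
        have hc : Commute g (⟨Q.z, MonoidHom.mem_ker.2 Q.hzK⟩ : ↥Q.ψ.ker) :=
          Subtype.ext (Q.hzc g).symm
        rw [(hc.zpow_right i).eq, mul_inv_cancel_right]
        exact zpow_mem (mem_zpowers _) i
      have hmem : ∀ g : ↥Q.ψ.ker, g ∈ Z ↔ (g : S) = 1 ∨ (g : S) = Q.z := by
        intro g
        constructor
        · intro hg
          obtain ⟨i, rfl⟩ := mem_zpowers_iff.1 hg
          push_cast
          rcases Int.even_or_odd i with ⟨j, rfl⟩ | ⟨j, rfl⟩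
          · left; rw [← two_mul, zpow_mul, zpow_ofNat, pow_two, Q.hz2, one_zpow]
          · right
            rw [zpow_add, zpow_one, zpow_mul, zpow_ofNat, pow_two, Q.hz2, one_zpow, one_mul]
        · rintro (h | h)
          · rw [show g = 1 from Subtype.ext h]; exact one_mem _
          · rw [show g = ⟨Q.z, MonoidHom.mem_ker.2 Q.hzK⟩ from Subtype.ext h]; exact mem_zpowers _
      have hntriv : Nontrivial (↥Q.ψ.ker ⧸ Z) := by
        rw [QuotientGroup.nontrivial_iff]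
        intro htop
        obtain ⟨v, hv, hvW⟩ := SetLike.not_le_iff_exists.1 hne
        rcases (hmem ⟨v, Q.hVK hv⟩).1 (htop ▸ mem_top _) with h | h
        · exact hvW (show v ∈ W by rw [show v = 1 from h]; exact one_mem _)
        · exact hvW (show v ∈ W by rw [show v = Q.z from h]; exact hzW)
      haveI := hntriv
      haveI := ((Q.hS.to_subgroup Q.ψ.ker).to_quotient Z).center_nontrivial
      obtain ⟨⟨c, hc⟩, hc1⟩ := exists_ne (1 : center (↥Q.ψ.ker ⧸ Z))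
      obtain ⟨g, rfl⟩ := QuotientGroup.mk_surjective c
      refine hc1 (Subtype.ext ((QuotientGroup.eq_one_iff g).2 ((hmem g).2 (hW2 _ ⟨g.2, ?_⟩))))
      intro x hx
      have h1 : ⁅g, (⟨x, hx⟩ : ↥Q.ψ.ker)⁆ ∈ Z := by
        rw [← QuotientGroup.eq_one_iff]
        show QuotientGroup.mk' Z ⁅g, (⟨x, hx⟩ : ↥Q.ψ.ker)⁆ = 1
        rw [map_commutatorElement, commutatorElement_eq_one_iff_mul_comm]
        exact (Subgroup.mem_center_iff.1 hc _).symm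
      exact (hmem _).1 h1
    have hvy := (hVW hv).2 y hy
    have e : y * v * y⁻¹ = (⁅v, y⁆)⁻¹ * v := by simp only [commutatorElement_def]; group
    rw [e]
    rcases hvy with h | h <;> rw [h]
    · simpa using hv
    · exact mul_mem (inv_mem Q.hzV) hv
  by_contra hne
  obtain ⟨y, hy, hyX, ha, -⟩ := exists_step Q.hS Q.R Q.X Q.ψ.ker (fun x hx => (Q.mem_X.1 hx).1) hne
    Q.toReg.R_inter_ker (fun r _ b hb => Q.ker_conj r hb) (fun r hr a ha => Q.R_conj_X hr ha)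
  by_cases hall : ∀ r ∈ Q.R, ⁅y, r⁆ ∈ Q.V
  swap
  · simp only [not_forall] at hall
    obtain ⟨r, hr, h⟩ := hall
    exact Q.no_level_two hy (hVn y hy) ha hr h
  apply hyX
  refine Q.mem_X.2 ⟨hy, ?_, hall⟩
  by_contra hyc
  simp only [not_forall] at hyc
  obtain ⟨v₀, hv₀, hyv₀⟩ := hyc
  have hz_of : ∀ a ∈ Q.V, a * y = y * a → a = 1 ∨ a = Q.z := fun a ha' hay => by
    by_contra hcon
    simp only [not_or] at hcon
    rcases mem_four Q.hV4 Q.hV2 Q.hzV ha' Q.hz1 hcon.1 (Ne.symm hcon.2) hv₀ with h | h | h | h <;>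
      apply hyv₀ <;> rw [h]
    · rw [mul_one, one_mul]
    · exact (Q.hzc y).symm
    · exact hay.symm
    · rw [← mul_assoc, ← Q.hzc y, mul_assoc, ← hay, ← mul_assoc]
  have hyV : ∀ v ∈ Q.V, y * v * y⁻¹ ∈ Q.V := hVn y hy
  have hysq : y * y ∈ Q.X := by
    refine Q.mem_X.2 ⟨mul_mem hy hy, fun v hv => ?_, fun r hr => ?_⟩
    · have h1 := hyV v hv
      -- conjugation by y is an involution fixing z on a four-group
      rcases mem_four Q.hV4 Q.hV2 Q.hzV hv₀ Q.hz1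
        (fun h => hyv₀ (by rw [h, mul_one, one_mul]))
        (fun h => hyv₀ (by rw [← h]; exact (Q.hzc y).symm)) (hyV v₀ hv₀) with h | h | h | h
      · exact absurd (conj_eq_one_iff.1 h) (fun h => hyv₀ (by rw [h, mul_one, one_mul]))
      · have : v₀ = Q.z := by
          calc v₀ = y⁻¹ * (y * v₀ * y⁻¹) * y := by group
            _ = Q.z := by rw [h, mul_assoc, Q.hzc, inv_mul_cancel_left]
        exact absurd (by rw [this]; exact (Q.hzc y).symm) hyv₀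
      · exact absurd (mul_inv_eq_iff_eq_mul.1 h) hyv₀
      · have hz' : y * Q.z * y⁻¹ = Q.z := by rw [← Q.hzc y, mul_inv_cancel_right]
        have h2 : y * y * v₀ * (y * y)⁻¹ = v₀ := by
          calc y * y * v₀ * (y * y)⁻¹ = y * (y * v₀ * y⁻¹) * y⁻¹ := by group
            _ = y * (Q.z * v₀) * y⁻¹ := by rw [h]
            _ = (y * Q.z * y⁻¹) * (y * v₀ * y⁻¹) := by group
            _ = v₀ := by rw [hz', h, ← mul_assoc, Q.hz2, one_mul]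
        have h3 : y * y * v₀ = v₀ * (y * y) := mul_inv_eq_iff_eq_mul.1 h2
        have h4 : y * y * Q.z = Q.z * (y * y) := (Q.hzc _).symm
        rcases mem_four Q.hV4 Q.hV2 Q.hzV hv₀ Q.hz1
          (fun h => hyv₀ (by rw [h, mul_one, one_mul]))
          (fun h => hyv₀ (by rw [← h]; exact (Q.hzc y).symm)) hv with rfl | rfl | rfl | rfl
        · rw [mul_one, one_mul]
        · exact h4
        · exact h3
        · exact (Commute.mul_right h4 h3).eq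
    · rw [cm_mul_left]; exact mul_mem (hyV _ (hall r hr)) (hall r hr)
  have hy2V : y * y ∈ Q.V := Q.mem_of_two_valued (mul_mem hy hy) fun r hr => by
    refine hz_of _ ((Q.mem_X.1 hysq).2.2 r hr) ?_
    -- the value commutes with y
    rw [cm_mul_left]
    have h1 := hyV _ (hall r hr)
    have h2 : y * y * ⁅y, r⁆ = ⁅y, r⁆ * (y * y) := (Q.mem_X.1 hysq).2.1 _ (hall r hr)
    have h3 : y * (y * ⁅y, r⁆ * y⁻¹) * y⁻¹ = ⁅y, r⁆ := by
      calc y * (y * ⁅y, r⁆ * y⁻¹) * y⁻¹ = (y * y * ⁅y, r⁆) * (y * y)⁻¹ := by group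
        _ = ⁅y, r⁆ := by rw [h2, mul_inv_cancel_right]
    symm
    rw [← mul_inv_eq_iff_eq_mul]
    calc y * (y * ⁅y, r⁆ * y⁻¹ * ⁅y, r⁆) * y⁻¹
        = (y * (y * ⁅y, r⁆ * y⁻¹) * y⁻¹) * (y * ⁅y, r⁆ * y⁻¹) := by group
      _ = _ := by rw [h3]; exact Q.Vcomm (hall r hr) h1
  apply hyv₀
  have hyinV := Q.mem_of_two_valued hy fun r hr => by
    refine hz_of _ (hall r hr) ?_
    set a := ⁅y, r⁆ with hadef
    have ha2 : a * a = 1 := Q.hV2 _ (hall r hr)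
    have h1 : r * y * r⁻¹ = a * y := by
      rw [← inv_of_sq ha2, hadef, commutatorElement_def]; group
    have h2 : (r * y * r⁻¹) * (r * y * r⁻¹) = y * y := by
      calc (r * y * r⁻¹) * (r * y * r⁻¹) = r * (y * y) * r⁻¹ := by group
        _ = y * y := Q.conj_V hr hy2V
    rw [h1] at h2
    calc a * y = a * y * a * y * (y⁻¹ * a⁻¹) := by group
      _ = y * y * (y⁻¹ * a⁻¹) := by rw [← h2]; group
      _ = y * a := by rw [inv_of_sq ha2]; group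
  exact Q.Vcomm hyinV hv₀

end Quad

end CfsgLib.FixityFour.CentralFixed
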