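import Cfsg.Agent.Lib.FixityFour.CentralQuad

/-!
# The rank in the case of two four-groups
-/

set_option autoImplicit false
set_option linter.unusedSectionVars false
set_option linter.style.haveILetI false

namespace CfsgLib.FixityFour.CentralFixed

open Subgroup
open scoped commutatorElement

universe u

namespace Quad

variable {S : Type u} [Group S] [Finite S] (Q : Quad S)

theorem memX {x : S} (hx : x ∈ Q.ψ.ker) : x ∈ Q.X := Q.ker_le_X hx

theorem cmK_V {x y : S} (hx : x ∈ Q.ψ.ker) (hy : y ∈ Q.ψ.ker) : ⁅x, y⁆ ∈ Q.V :=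
  Q.comm_mem (Q.memX hx) (Q.memX hy)

theorem conjK {x v : S} (hx : x ∈ Q.ψ.ker) (hv : v ∈ Q.V) : x * v * x⁻¹ = v := by
  rw [(Q.mem_X.1 (Q.memX hx)).2.1 v hv, mul_inv_cancel_right]

/-- Commuting with `x` through `k r`. -/
theorem cm_split {x k r : S} (hx : x ∈ Q.ψ.ker) (hk : k ∈ Q.ψ.ker) (hr : r ∈ Q.R) :
    ⁅x, k * r⁆ = ⁅x, k⁆ * ⁅x, r⁆ := by
  rw [cm_mul_right, Q.conjK hk ((Q.mem_X.1 (Q.memX hx)).2.2 r hr)]

theorem cm_mulK {x y g : S} (hx : x ∈ Q.ψ.ker) (hg : ⁅y, g⁆ ∈ Q.V) (hg' : ⁅x, g⁆ ∈ Q.V) :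
    ⁅x * y, g⁆ = ⁅x, g⁆ * ⁅y, g⁆ := by
  rw [cm_mul_left, Q.conjK hx hg, Q.Vcomm hg hg']

/-- An inner commutator map is never the map of an element of `R`. -/
theorem eq_one_of_cm_eq (hKV : ¬ Q.ψ.ker ≤ Q.V) {k t : S} (hk : k ∈ Q.ψ.ker) (ht : t ∈ Q.R)
    (h : ∀ x ∈ Q.ψ.ker, ⁅x, k⁆ = ⁅x, t⁆) : t = 1 := by
  by_contra ht1
  obtain ⟨x, hx, hxV⟩ := SetLike.not_le_iff_exists.1 hKV
  have hk1 := h k hk
  rw [commutatorElement_self] at hk1
  have hkV := Q.mem_V_of_cm (Q.memX hk) ht ht1 hk1.symm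
  refine hxV (Q.mem_V_of_cm (Q.memX hx) ht ht1 ?_)
  rw [← h x hx]
  exact commutatorElement_eq_one_iff_mul_comm.2 ((Q.mem_X.1 (Q.memX hx)).2.1 k hkV)

/-- An element fixing the kernel modulo `V`, and `V`, normalises each coset of `R`. -/
theorem reg_of_fix (hKV : ¬ Q.ψ.ker ≤ Q.V) {m : S}
    (hV : ∀ v ∈ Q.V, m * v * m⁻¹ = v)
    (hK : ∀ x ∈ Q.ψ.ker, ∃ w ∈ Q.V, m * x * m⁻¹ = x * w) : Reg4 (Q.ψ m) := by
  refine reg4_of_commute _ fun g hg => ?_
  obtain ⟨r, hr, rfl⟩ := Q.exists_r hg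
  obtain ⟨l, hl, r', hr', hmr⟩ := Q.toReg.exists_reg_split (m := m * r * m⁻¹) (by
    rw [map_mul, map_mul, map_inv]; exact reg4_conj _ _ hg)
  have key : ∀ x ∈ Q.ψ.ker, ⁅x, l⁆ = ⁅x, r * r'⁆ := by
    intro x hx
    obtain ⟨w, hw, hxw⟩ := hK x hx
    have hxr := (Q.mem_X.1 (Q.memX hx)).2.2 r hr
    have hxr' := (Q.mem_X.1 (Q.memX hx)).2.2 r' hr'
    have hxl := Q.cmK_V hx hl
    have h1 : ⁅m * x * m⁻¹, m * r * m⁻¹⁆ = ⁅x, r⁆ := by
      rw [show ⁅m * x * m⁻¹, m * r * m⁻¹⁆ = m * ⁅x, r⁆ * m⁻¹ by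
        simp only [commutatorElement_def]; group]
      exact hV _ hxr
    have hwl : ⁅w, l⁆ = 1 := commutatorElement_eq_one_iff_mul_comm.2
      ((Q.mem_X.1 (Q.memX hl)).2.1 w hw).symm
    have h2 : ⁅x * w, l * r'⁆ = ⁅x, l⁆ * ⁅x, r'⁆ := by
      rw [Q.cm_mulK hx (by rw [Q.cm_split (Q.hVK hw) hl hr', hwl, Q.cm_V hr' hw, one_mul]
                           exact one_mem _) (by rw [Q.cm_split hx hl hr']; exact mul_mem hxl hxr'),
        Q.cm_split hx hl hr', Q.cm_split (Q.hVK hw) hl hr', hwl, Q.cm_V hr' hw, mul_one, mul_one]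
    rw [hxw, hmr, h2] at h1
    rw [Q.cmX_right (Q.memX hx) hr hr', ← h1, mul_assoc, Q.hV2 _ hxr', mul_one]
  have hrr := Q.eq_one_of_cm_eq hKV hl (mul_mem hr hr') key
  have hrr' : r = r' := by rw [mul_eq_one_iff_eq_inv.1 hrr, Q.toReg.Rinv hr']
  have h := congrArg Q.ψ hmr
  rw [map_mul, map_mul, map_inv, map_mul, MonoidHom.mem_ker.1 hl, one_mul, ← hrr',
    mul_inv_eq_iff_eq_mul] at h
  exact h.symm

/-- Only kernel elements centralise the kernel. -/
theorem mem_ker_of_central (hKV : ¬ Q.ψ.ker ≤ Q.V) {m : S}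
    (hm : ∀ x ∈ Q.ψ.ker, m * x = x * m) : Q.ψ m = 1 := by
  have hfix : ∀ x ∈ Q.ψ.ker, m * x * m⁻¹ = x := fun x hx => by rw [hm x hx, mul_inv_cancel_right]
  have hreg := Q.reg_of_fix hKV (fun v hv => hfix v (Q.hVK hv))
    (fun x hx => ⟨1, one_mem _, by rw [hfix x hx, mul_one]⟩)
  obtain ⟨k, hk, r, hr, rfl⟩ := Q.toReg.exists_reg_split hreg
  have : r = 1 := Q.eq_one_of_cm_eq hKV hk hr fun x hx => by
    have h := commutatorElement_eq_one_iff_mul_comm.2 (hm x hx).symm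
    rw [Q.cm_split hx hk hr] at h
    rw [eq_inv_of_mul_eq_one_left h, inv_of_sq (Q.hV2 _ ((Q.mem_X.1 (Q.memX hx)).2.2 r hr))]
  rw [this, mul_one]; exact hk

theorem card_ker_le : Nat.card Q.ψ.ker ≤ 16 := by
  obtain ⟨r, hr, -, -, hr1, -⟩ := Q.toReg.exists_pair
  let f : ↥Q.ψ.ker →* ↥Q.V :=
    MonoidHom.mk' (fun x => ⟨⁅(x : S), r⁆, (Q.mem_X.1 (Q.memX x.2)).2.2 r hr⟩)
      fun a b => Subtype.ext (Q.cmX_mul (Q.memX a.2) (Q.memX b.2) hr)
  have hk : Nat.card f.ker ≤ 4 := by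
    refine le_of_le_of_eq ?_ Q.hV4
    refine Nat.card_le_card_of_injective
      (fun x => (⟨((x : ↥Q.ψ.ker) : S), Q.mem_V_of_cm (Q.memX (x : ↥Q.ψ.ker).2) hr hr1
        (congrArg Subtype.val x.2)⟩ : Q.V)) fun a b hab => ?_
    exact Subtype.ext (Subtype.ext (congrArg (fun v : Q.V => (v : S)) hab))
  have h := f.ker.card_mul_index
  rw [Subgroup.index_ker] at h
  have hr' : Nat.card f.range ≤ 4 := (Subgroup.card_le_card_group f.range).trans Q.hV4.le
  calc Nat.card Q.ψ.ker = Nat.card f.ker * Nat.card f.range := h.symm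
    _ ≤ 4 * 4 := Nat.mul_le_mul hk hr'

/-- An abelian subgroup of order eight of a non-abelian kernel is centralised only over `R`. -/
theorem reg_of_centralize (hKV : ¬ Q.ψ.ker ≤ Q.V) {T : Subgroup S} (hTK : T ≤ Q.ψ.ker)
    (hVT : Q.V ≤ T) {x : S} (hxT : x ∈ T) (hx2 : x * x = 1) {k : S} (hk : k ∈ Q.ψ.ker)
    (hxk : x * k ≠ k * x) (hidx : ∀ y ∈ Q.ψ.ker, y ∈ T ∨ y * k⁻¹ ∈ T)
    (hTdec : ∀ a ∈ T, a ∈ Q.V ∨ a * x ∈ Q.V) {m : S} (hm : ∀ a ∈ T, m * a = a * m) :
    Reg4 (Q.ψ m) := by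
  have hfix : ∀ a ∈ T, m * a * m⁻¹ = a := fun a ha => by rw [hm a ha, mul_inv_cancel_right]
  have hV : ∀ v ∈ Q.V, m * v * m⁻¹ = v := fun v hv => hfix v (hVT hv)
  have hk2 : k * k ∈ Q.V := Q.sq_mem (Q.memX hk)
  have hmk : ∃ w ∈ Q.V, m * k * m⁻¹ = k * w := by
    set k' := m * k * m⁻¹ with hk'def
    have hk' : k' ∈ Q.ψ.ker := Q.toReg.ker_conj m hk
    have hsq : k' * k' = k * k := by
      rw [hk'def, show m * k * m⁻¹ * (m * k * m⁻¹) = m * (k * k) * m⁻¹ by group, hV _ hk2]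
    have hk'T : k' ∉ T := fun h => hxk (by
      have : k = k' := by
        calc k = m⁻¹ * k' * m := by rw [hk'def]; group
          _ = k' := by rw [mul_assoc, ← hm k' h, inv_mul_cancel_left]
      rw [← this] at h
      rcases hTdec k h with h1 | h1
      · exact (Q.mem_X.1 (Q.memX (hTK hxT))).2.1 k h1
      · have h2 := (Q.mem_X.1 (Q.memX (hTK hxT))).2.1 _ h1
        rw [← mul_assoc] at h2
        exact mul_right_cancel h2)
    have hdiff : k'* k⁻¹ ∈ T := (hidx k' hk').resolve_left hk'T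
    rcases hTdec _ hdiff with h | h
    · refine ⟨k' * k⁻¹, h, ?_⟩
      rw [(Q.mem_X.1 (Q.memX hk)).2.1 _ h, inv_mul_cancel_right]
    · exfalso
      apply hxk
      set w := k' * k⁻¹ * x with hwdef
      have hk'e : k' = w * x * k := by
        calc k' = k' * k⁻¹ * (x * x) * k := by rw [hx2, mul_one, inv_mul_cancel_right]
          _ = w * x * k := by rw [hwdef]; group
      have hxkK : x * k ∈ Q.ψ.ker := mul_mem (hTK hxT) hk
      have hwc : (x * k) * w = w * (x * k) := (Q.mem_X.1 (Q.memX hxkK)).2.1 w h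
      have hsq' : (x * k) * (x * k) = k * k := by
        rw [← hsq, hk'e, mul_assoc w x k]
        calc (x * k) * (x * k) = (w * w) * ((x * k) * (x * k)) := by rw [Q.hV2 w h, one_mul]
          _ = w * ((w * (x * k)) * (x * k)) := by group
          _ = w * (((x * k) * w) * (x * k)) := by rw [hwc]
          _ = _ := by group
      have h3 : x * k * x = k := by
        have : x * k * x * k = k * k := by rw [← hsq']; group
        exact mul_right_cancel this
      calc x * k = x * k * (x * x) := by rw [hx2, mul_one]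
        _ = k * x := by rw [← mul_assoc, h3]
  obtain ⟨w₀, hw₀, hk₀⟩ := hmk
  refine Q.reg_of_fix hKV hV fun y hy => ?_
  rcases hidx y hy with h | h
  · exact ⟨1, one_mem _, by rw [hfix y h, mul_one]⟩
  · refine ⟨w₀, hw₀, ?_⟩
    calc m * y * m⁻¹ = (m * (y * k⁻¹) * m⁻¹) * (m * k * m⁻¹) := by group
      _ = y * w₀ := by rw [hfix _ h, hk₀, ← mul_assoc, inv_mul_cancel_right]

theorem range_cases {L : Type u} [Group L] [Finite L] (f : L →* Equiv.Perm (Fin 4))
    (hL : IsPGroup 2 L) (h : ∀ m : L, Reg4 (f m) → f m = 1) : IsCyclic f.range := by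
  haveI : Fact (Nat.Prime 2) := ⟨Nat.prime_two⟩
  have h4 : ∀ m : L, (f m * f m) * (f m * f m) = 1 := by
    intro m
    obtain ⟨j, hj⟩ := hL m
    have h1 : orderOf (f m) ∣ 2 ^ j := orderOf_dvd_of_pow_eq_one (by rw [← map_pow, hj, map_one])
    obtain ⟨i, -, hi⟩ := (Nat.dvd_prime_pow Nat.prime_two).1 h1
    have h24 : orderOf (f m) ∣ 24 := card_perm_four ▸ orderOf_dvd_natCard _
    have hi3 : i ≤ 3 := by
      by_contra hlt
      rw [hi] at h24
      have := dvd_trans (pow_dvd_pow 2 (show 4 ≤ i by omega)) h24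
      omega
    have h8 : f m ^ 8 = 1 := orderOf_dvd_iff_pow_eq_one.1 (by
      rw [hi, show (8 : ℕ) = 2 ^ 3 from rfl]; exact pow_dvd_pow 2 hi3)
    exact eight_pow _ h8
  have h2 : ∀ m : L, f m * f m = 1 := fun m => by
    have := h (m * m) (by rw [map_mul]; exact reg4_sq _ (h4 m))
    rwa [map_mul] at this
  have hcard : Nat.card f.range ≤ 2 := by
    by_cases hall : ∀ m, f m = 1
    · have hbot : f.range = ⊥ := by
        rw [eq_bot_iff]
        rintro _ ⟨m, rfl⟩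
        exact Subgroup.mem_bot.2 (hall m)
      rw [hbot, Subgroup.card_bot]; omega
    simp only [not_forall] at hall
    obtain ⟨a, ha⟩ := hall
    refine PGroups.Harada.card_sub_le (s := {1, f a}) ?_
      ((Set.ncard_insert_le _ _).trans (by rw [Set.ncard_singleton]))
    rintro _ ⟨b, rfl⟩
    by_contra hcon
    simp only [Set.mem_insert_iff, Set.mem_singleton_iff, not_or] at hcon
    have hr := reg4_of_transpositions (f a) (f b) (h2 a) (h2 b) (by rw [← map_mul]; exact h2 _)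
      (fun hr => ha (h a hr)) (fun hr => hcon.1 (h b hr)) (Ne.symm hcon.2)
    have := h (a * b) (by rw [map_mul]; exact hr)
    rw [map_mul, mul_eq_one_iff_eq_inv, inv_of_sq (h2 b)] at this
    exact hcon.2 this.symm
  rcases (show Nat.card f.range = 1 ∨ Nat.card f.range = 2 by
    have := Nat.card_pos (α := f.range); omega) with h1 | h1
  · haveI : Subsingleton f.range := (Nat.card_eq_one_iff_unique.1 h1).1
    infer_instance
  · exact isCyclic_of_prime_card h1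

/-- The bound on sections in the case of two four-groups. -/
theorem rank (Q : Quad S) : Cfsg.SectionalPRankLE 2 4 S := by
  haveI : Fact (Nat.Prime 2) := ⟨Nat.prime_two⟩
  by_cases hKV : Q.ψ.ker ≤ Q.V
  · exact rank_of_small_ker Q.hS Q.ψ ((Subgroup.card_le_of_le hKV).trans Q.hV4.le)
  refine rank_of_counts Q.hS Q.ψ fun L _ _ ι hι => ?_
  have hL : IsPGroup 2 L := Q.hS.of_injective ι hι
  set N := (Q.ψ.comp ι).ker with hN
  have hNK : ∀ a ∈ N, ι a ∈ Q.ψ.ker := fun a ha => ha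
  set T := N.map ι with hT
  have hTK : T ≤ Q.ψ.ker := by rintro _ ⟨a, ha, rfl⟩; exact hNK a ha
  have hcardT : Nat.card T = Nat.card N := Subgroup.card_map_of_injective hι
  have hN16 : Nat.card N ≤ 16 := hcardT ▸ (Subgroup.card_le_of_le hTK).trans Q.card_ker_le
  obtain ⟨j, hj⟩ := PGroups.card_subgroup_eq_pow hL N
  have hj4 : j ≤ 4 := (Nat.pow_le_pow_iff_right one_lt_two).1 (hj ▸ hN16)
  have hcmΦ : ∀ a ∈ N, ∀ m : L, ⁅a, m⁆ ∈ (frattini L) := fun a _ m =>
    PGroups.commutator_le_frattini hL (Subgroup.commutator_mem_commutator (mem_top _) (mem_top _))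
  have hcmN : ∀ a ∈ N, ∀ m : L, ⁅a, m⁆ ∈ N := fun a ha m => by
    rw [hN, MonoidHom.mem_ker, map_commutatorElement, MonoidHom.mem_ker.1 ha,
      commutatorElement_one_left]
  by_cases htriv : (Q.ψ.comp ι).range = ⊥
  · refine Or.inr (Or.inr ⟨htriv, ?_⟩)
    rw [← Subgroup.card_top, ← show N = ⊤ from ?_]
    · exact hN16
    rw [hN, eq_top_iff]
    intro m _
    have : (Q.ψ.comp ι) m ∈ (Q.ψ.comp ι).range := ⟨m, rfl⟩
    rw [htriv] at this
    exact Subgroup.mem_bot.1 this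
  by_cases hsmall : Nat.card N ≤ 4
  · exact Or.inl ((PGroups.Harada.relIndex_le_card N).trans hsmall)
  -- m outside N
  obtain ⟨m₁, hm₁⟩ : ∃ m, Q.ψ (ι m) ≠ 1 := by
    by_contra hcon
    simp only [not_exists, not_not] at hcon
    exact htriv (by rw [eq_bot_iff]; rintro _ ⟨m, rfl⟩; exact Subgroup.mem_bot.2 (hcon m))
  by_cases hreg : ∃ m, Reg4 (Q.ψ (ι m)) ∧ Q.ψ (ι m) ≠ 1
  swap
  · -- cyclic image
    simp only [not_exists, not_and, not_not] at hreg
    refine Or.inr (Or.inl ⟨?_, range_cases _ hL hreg⟩)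
    by_cases h8 : Nat.card N ≤ 8
    · exact (PGroups.Harada.relIndex_le_card N).trans h8
    have hTeq : T = Q.ψ.ker := Subgroup.eq_of_le_of_card_ge hTK (by
      rw [hcardT]
      refine Q.card_ker_le.trans ?_
      rw [hj] at h8 ⊢
      have : 2 ^ 3 < 2 ^ j := by omega
      have := (Nat.pow_lt_pow_iff_right one_lt_two).1 this
      exact le_trans (by norm_num) (Nat.pow_le_pow_right two_pos (show 4 ≤ j by omega)))
    obtain ⟨a, ha, hne⟩ : ∃ a ∈ N, ⁅a, m₁⁆ ≠ 1 := by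
      by_contra hcon
      simp only [not_exists, not_and, not_not] at hcon
      refine hm₁ (Q.mem_ker_of_central hKV fun x hx => ?_)
      rw [← hTeq] at hx
      obtain ⟨a, ha, rfl⟩ := hx
      rw [← map_mul, ← map_mul, commutatorElement_eq_one_iff_mul_comm.1 (hcon a ha)]
    have := PGroups.Harada.two_mul_relIndex_le N (hcmN a ha m₁) hne (hcmΦ a ha m₁)
    omega
  obtain ⟨m, hmreg, hm1⟩ := hreg
  obtain ⟨k, hk, r, hr, hmkr⟩ := Q.toReg.exists_reg_split hmreg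
  have hr1 : r ≠ 1 := fun h => hm1 (by rw [hmkr, h, mul_one]; exact hk)
  -- Frattini elements inside N
  set C := (frattini L).subgroupOf N with hC
  have hrel := PGroups.Harada.relIndex_mul_card (H := L) N
  rw [← hC] at hrel
  obtain ⟨i, hi⟩ := PGroups.card_subgroup_eq_pow (hL.to_subgroup N) C
  by_cases h16 : Nat.card N = 16
  · refine Or.inl ?_
    by_contra hbig
    have hTeq : T = Q.ψ.ker := Subgroup.eq_of_le_of_card_ge hTK (by
      rw [hcardT, h16]; exact Q.card_ker_le)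
    have hC2 : Nat.card C ≤ 2 := by
      by_contra hlt
      have : 2 ≤ i := by
        by_contra h
        rw [hi] at hlt
        have := Nat.pow_le_pow_right (show 0 < 2 by omega) (show i ≤ 1 by omega)
        omega
      have h4 : 4 ≤ Nat.card C := hi ▸ le_trans (by norm_num) (Nat.pow_le_pow_right two_pos this)
      have := Nat.mul_le_mul (show 5 ≤ (frattini L).relIndex N by omega) h4
      omega
    -- all values at r lie in the image of C
    set U : Subgroup S := (C.map N.subtype).map ι with hU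
    have hUmem : ∀ b ∈ N, b ∈ frattini L → ι b ∈ U := fun b hb hb' =>
      ⟨b, ⟨⟨b, hb⟩, hb', rfl⟩, rfl⟩
    have hUc : Nat.card U ≤ 2 := by
      rw [hU, Subgroup.card_map_of_injective hι, Subgroup.card_map_of_injective N.subtype_injective]
      exact hC2
    have hall : ∀ x ∈ Q.ψ.ker, ⁅x, r⁆ ∈ U := by
      intro x hx
      have h1 : ⁅x, k * r⁆ ∈ U := by
        rw [← hTeq] at hx
        obtain ⟨a, ha, rfl⟩ := hx
        rw [← hmkr, ← map_commutatorElement]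
        exact hUmem _ (hcmN a ha m) (hcmΦ a ha m)
      have h2 : ⁅x, k⁆ ∈ U := by
        rw [← hTeq] at hx
        obtain ⟨a, ha, rfl⟩ := hx
        rw [← hTeq] at hk
        obtain ⟨b, hb, rfl⟩ := hk
        rw [← map_commutatorElement]
        exact hUmem _ (hcmN a ha b) (hcmΦ a ha b)
      rw [Q.cm_split hx hk hr] at h1
      have h3 := mul_mem (inv_mem h2) h1
      rwa [inv_mul_cancel_left] at h3
    let f : ↥Q.ψ.ker →* ↥U :=
      MonoidHom.mk' (fun x => ⟨⁅(x : S), r⁆, hall _ x.2⟩)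
        fun a b => Subtype.ext (Q.cmX_mul (Q.memX a.2) (Q.memX b.2) hr)
    have hk4 : Nat.card f.ker ≤ 4 := by
      refine le_of_le_of_eq ?_ Q.hV4
      refine Nat.card_le_card_of_injective
        (fun x => (⟨((x : ↥Q.ψ.ker) : S), Q.mem_V_of_cm (Q.memX (x : ↥Q.ψ.ker).2) hr hr1
          (congrArg Subtype.val x.2)⟩ : Q.V)) fun a b hab => ?_
      exact Subtype.ext (Subtype.ext (congrArg (fun v : Q.V => (v : S)) hab))
    have hcm := f.ker.card_mul_index
    have hK16 : Nat.card Q.ψ.ker = 16 := by rw [← hTeq, hcardT, h16]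
    rw [Subgroup.index_ker, hK16] at hcm
    have := Nat.mul_le_mul hk4 ((Subgroup.card_le_card_group f.range).trans hUc)
    omega
  -- now N has order eight
  have h8 : Nat.card N = 8 := by
    rw [hj] at hsmall h16 ⊢
    have h2 : 3 ≤ j := by
      by_contra h
      exact hsmall (le_trans (Nat.pow_le_pow_right two_pos (show j ≤ 2 by omega)) (by norm_num))
    have h3 : j ≠ 4 := fun h => h16 (by rw [h]; rfl)
    rw [show j = 3 by omega]; rfl
  by_cases htc : ∀ a ∈ N, a ∈ frattini L → a = 1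
  swap
  · simp only [not_forall] at htc
    obtain ⟨a, ha, ha', hne⟩ := htc
    have := PGroups.Harada.two_mul_relIndex_le N ha hne ha'
    exact Or.inl (by omega)
  have htrivC := htc
  have hcen : ∀ a ∈ N, ∀ g : L, a * g = g * a := fun a ha g =>
    commutatorElement_eq_one_iff_mul_comm.1 (htrivC _ (hcmN a ha g) (hcmΦ a ha g))
  have hsqN : ∀ a ∈ N, a * a = 1 := fun a ha =>
    htrivC _ (mul_mem ha ha) (by rw [← pow_two]; exact PGroups.pow_mem_frattini hL a)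
  have hTc : ∀ a ∈ T, ∀ g : L, ι g * a = a * ι g := by
    rintro _ ⟨a, ha, rfl⟩ g
    rw [← map_mul, ← map_mul, hcen a ha g]
  have hT2 : ∀ a ∈ T, a * a = 1 := by
    rintro _ ⟨a, ha, rfl⟩
    rw [← map_mul, hsqN a ha, map_one]
  have hval : ∀ x ∈ T, ∀ g : L, ∀ l ∈ Q.ψ.ker, ∀ s ∈ Q.R, ι g = l * s →
      ⁅x, l⁆ = ⁅x, s⁆ := fun x hx g l hl s hs hg => by
    have h1 : ⁅x, ι g⁆ = 1 := commutatorElement_eq_one_iff_mul_comm.2 (hTc x hx g).symm
    rw [hg, Q.cm_split (hTK hx) hl hs] at h1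
    rw [eq_inv_of_mul_eq_one_left h1,
      inv_of_sq (Q.hV2 _ ((Q.mem_X.1 (Q.memX (hTK hx))).2.2 s hs))]
  obtain ⟨x, hxT, hxV⟩ : ∃ x ∈ T, x ∉ Q.V := SetLike.not_le_iff_exists.1 fun h => by
    have := Subgroup.card_le_of_le h
    rw [hcardT, h8, Q.hV4] at this; omega
  have hxr : ⁅x, r⁆ ≠ 1 := fun h => hxV (Q.mem_V_of_cm (Q.memX (hTK hxT)) hr hr1 h)
  have hxk : ⁅x, k⁆ = ⁅x, r⁆ := hval x hxT m k hk r hr hmkr
  -- the centraliser of x in the kernel
  let Cx : Subgroup S := Q.ψ.ker ⊓ centralizer ({x} : Set S)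
  have hVCx : Q.V ≤ Cx := fun v hv => ⟨Q.hVK hv, Subgroup.mem_centralizer_singleton_iff.2
    ((Q.mem_X.1 (Q.memX (hTK hxT))).2.1 v hv).symm⟩
  have hTCx : T ≤ Cx := fun a ha => ⟨hTK ha, Subgroup.mem_centralizer_singleton_iff.2
    (comm_of_sq hT2 ha hxT)⟩
  have hkCx : k ∉ Cx := fun h => hxr (by
    rw [← hxk]
    exact commutatorElement_eq_one_iff_mul_comm.2 (Subgroup.mem_centralizer_singleton_iff.1 h.2).symm)
  have hCxT : Cx = T := by
    refine (Subgroup.eq_of_le_of_card_ge hTCx ?_).symm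
    obtain ⟨l, hl⟩ := PGroups.card_subgroup_eq_pow Q.hS Cx
    rw [hcardT, h8]
    have hlt : Nat.card Cx < Nat.card Q.ψ.ker := lt_of_le_of_ne
      (Subgroup.card_le_of_le inf_le_left) fun h =>
        hkCx (by rw [show Cx = Q.ψ.ker from Subgroup.eq_of_le_of_card_ge inf_le_left h.ge]; exact hk)
    have := hlt.trans_le Q.card_ker_le
    rw [hl, show (16 : ℕ) = 2 ^ 4 from rfl] at this
    have := (Nat.pow_lt_pow_iff_right one_lt_two).1 this
    rw [hl]
    exact le_trans (Nat.pow_le_pow_right two_pos (show l ≤ 3 by omega)) (by norm_num)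
  have hidx : ∀ y ∈ Q.ψ.ker, y ∈ T ∨ y * k⁻¹ ∈ T := by
    intro y hy
    by_contra hcon
    simp only [not_or] at hcon
    have h16' : 16 < Nat.card Q.ψ.ker + 1 := by
      have hlt : Nat.card T < Nat.card Q.ψ.ker := lt_of_le_of_ne (Subgroup.card_le_of_le hTK)
        fun h => hkCx (hCxT ▸ (Subgroup.eq_of_le_of_card_ge hTK h.ge) ▸ hk)
      obtain ⟨l, hl⟩ := PGroups.card_subgroup_eq_pow Q.hS Q.ψ.ker
      rw [hcardT, h8, hl, show (8 : ℕ) = 2 ^ 3 from rfl] at hlt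
      have := (Nat.pow_lt_pow_iff_right one_lt_two).1 hlt
      rw [hl]
      have := Nat.pow_le_pow_right two_pos (show 4 ≤ l by omega)
      omega
    have hk16 := Q.card_ker_le
    have hindex : (T.subgroupOf Q.ψ.ker).index = 2 := by
      have h := (T.subgroupOf Q.ψ.ker).card_mul_index
      rw [Nat.card_congr (Subgroup.subgroupOfEquivOfLe hTK).toEquiv, hcardT, h8] at h
      omega
    have h := Subgroup.mul_mem_iff_of_index_two hindex (a := ⟨y, hy⟩) (b := ⟨k⁻¹, inv_mem hk⟩)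
    rw [Subgroup.mem_subgroupOf, Subgroup.mem_subgroupOf, Subgroup.mem_subgroupOf] at h
    refine hcon.2 (h.2 (iff_of_false hcon.1 fun h' => hkCx (hCxT ▸ ?_)))
    simpa using inv_mem h'
  have hxkne : x * k ≠ k * x := fun h =>
    hxr (by rw [← hxk]; exact commutatorElement_eq_one_iff_mul_comm.2 h)
  have hTdec : ∀ a ∈ T, a ∈ Q.V ∨ a * x ∈ Q.V := by
    intro a ha
    by_cases haV : a ∈ Q.V
    · exact Or.inl haV
    refine Or.inr ?_
    by_contra haxV
    have har : ∀ b ∈ T, ⁅b, r⁆ = ⁅b, k⁆ := fun b hb => (hval b hb m k hk r hr hmkr).symm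
    -- a and x generate the kernel modulo V, so k centralises x
    have hkr : ⁅k, r⁆ ∈ Q.V := (Q.mem_X.1 (Q.memX hk)).2.2 r hr
    have hmemV : ∀ b ∈ Q.ψ.ker, ⁅b, r⁆ = 1 → b ∈ Q.V := fun b hb h =>
      Q.mem_V_of_cm (Q.memX hb) hr hr1 h
    have hax : a * x ∈ T := mul_mem ha hxT
    have hcl : ∀ b ∈ T, b ∉ Q.V → ⁅b, r⁆ ≠ 1 := fun b hb hbV h => hbV (hmemV b (hTK hb) h)
    have hne : ⁅a, r⁆ ≠ ⁅x, r⁆ := fun h => haxV (hmemV _ (hTK hax) (by
      rw [Q.cmX_mul (Q.memX (hTK ha)) (Q.memX (hTK hxT)) hr, h,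
        Q.hV2 _ ((Q.mem_X.1 (Q.memX (hTK hxT))).2.2 r hr)]))
    rcases mem_four Q.hV4 Q.hV2 ((Q.mem_X.1 (Q.memX (hTK ha))).2.2 r hr)
      ((Q.mem_X.1 (Q.memX (hTK hxT))).2.2 r hr) (hcl a ha haV) hxr hne hkr with h | h | h | h
    · exact hkCx (hVCx (hmemV k hk h))
    · exact hkCx (by
        have h1 : k * a ∈ Q.V := hmemV _ (mul_mem hk (hTK ha)) (by
          rw [Q.cmX_mul (Q.memX hk) (Q.memX (hTK ha)) hr, h,
            Q.hV2 _ ((Q.mem_X.1 (Q.memX (hTK ha))).2.2 r hr)])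
        simpa using mul_mem (hVCx h1) (inv_mem (hTCx ha)))
    · exact hkCx (by
        have h1 : k * x ∈ Q.V := hmemV _ (mul_mem hk (hTK hxT)) (by
          rw [Q.cmX_mul (Q.memX hk) (Q.memX (hTK hxT)) hr, h,
            Q.hV2 _ ((Q.mem_X.1 (Q.memX (hTK hxT))).2.2 r hr)])
        simpa using mul_mem (hVCx h1) (inv_mem (hTCx hxT)))
    · exact hkCx (by
        have h1 : k * (a * x) ∈ Q.V := hmemV _ (mul_mem hk (hTK hax)) (by
          rw [Q.cmX_mul (Q.memX hk) (Q.memX (hTK hax)) hr, h,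
            Q.cmX_mul (Q.memX (hTK ha)) (Q.memX (hTK hxT)) hr]
          exact Q.hV2 _ (mul_mem ((Q.mem_X.1 (Q.memX (hTK ha))).2.2 r hr)
            ((Q.mem_X.1 (Q.memX (hTK hxT))).2.2 r hr)))
        have h2 := mul_mem (hVCx h1) (inv_mem (hTCx hax))
        rwa [mul_inv_cancel_right] at h2)
  have hregall : ∀ g : L, Reg4 (Q.ψ (ι g)) := fun g =>
    Q.reg_of_centralize hKV hTK (fun v hv => hCxT ▸ hVCx hv) hxT (hT2 x hxT) hk hxkne hidx hTdec
      fun a ha => hTc a ha g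
  -- so a single regular involution occurs
  have honly : ∀ g : L, Q.ψ (ι g) = 1 ∨ Q.ψ (ι g) = Q.ψ r := by
    intro g
    obtain ⟨l, hl, s, hs, hg⟩ := Q.toReg.exists_reg_split (hregall g)
    by_cases hs1 : s = 1
    · left; rw [hg, hs1, mul_one]; exact hl
    right
    rw [hg, map_mul, MonoidHom.mem_ker.1 hl, one_mul]
    have hxl := hval x hxT g l hl s hs hg
    have hlT : l ∉ T := fun h => hxV (Q.mem_V_of_cm (Q.memX (hTK hxT)) hs hs1 (by
      rw [← hxl]; exact commutatorElement_eq_one_iff_mul_comm.2 (comm_of_sq hT2 hxT h)))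
    have hlk := (hidx l hl).resolve_left hlT
    have heq : ⁅x, l⁆ = ⁅x, k⁆ := by
      have h1 : ⁅x, l * k⁻¹⁆ = 1 :=
        commutatorElement_eq_one_iff_mul_comm.2 (comm_of_sq hT2 hxT hlk)
      calc ⁅x, l⁆ = ⁅x, l * k⁻¹ * k⁆ := by rw [inv_mul_cancel_right]
        _ = ⁅x, k⁆ := by rw [cm_mul_right, h1, one_mul, Q.conjK (hTK hlk) (Q.cmK_V (hTK hxT) hk)]
    exact congrArg Q.ψ (Q.eq_of_cm (Q.memX (hTK hxT)) hxV hs hr (by
      rw [← hval x hxT g l hl s hs hg, heq, hxk]))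
  have hr2 : Nat.card (Q.ψ.comp ι).range ≤ 2 := by
    refine PGroups.Harada.card_sub_le (s := {1, Q.ψ r}) ?_
      ((Set.ncard_insert_le _ _).trans (by rw [Set.ncard_singleton]))
    rintro _ ⟨g, rfl⟩
    simpa using honly g
  refine Or.inr (Or.inl ⟨(PGroups.Harada.relIndex_le_card N).trans h8.le, ?_⟩)
  rcases (show Nat.card (Q.ψ.comp ι).range = 1 ∨ Nat.card (Q.ψ.comp ι).range = 2 by
    have := Nat.card_pos (α := (Q.ψ.comp ι).range); omega) with h1 | h1
  · haveI : Subsingleton (Q.ψ.comp ι).range := (Nat.card_eq_one_iff_unique.1 h1).1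
    infer_instance
  · exact isCyclic_of_prime_card h1

end Quad

end CfsgLib.FixityFour.CentralFixed
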