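import Cfsg.Agent.Lib.FixityFour.Basic
import Cfsg.Agent.Lib.PGroups.Harada.Count

/-!
# Simple groups of fixity four: bounding the sectional rank of a two-group
-/

set_option autoImplicit false
set_option linter.unusedSectionVars false
set_option linter.style.haveILetI false

namespace CfsgLib.FixityFour

open Subgroup MulAction CfsgLib.PGroups
open scoped Pointwise commutatorElement

variable {S : Type*} [Group S] [Finite S]

/-- If the Frattini index of every subgroup is at most sixteen, the sectional rank is at most four. -/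
theorem rank_of_forall (h : ∀ M : Subgroup S, (frattini ↥M).index ≤ 16) :
    Cfsg.SectionalPRankLE 2 4 S := by
  refine Harada.sectionalPRankLE_of_index fun L _ _ ι hι => ?_
  have e : L ≃* ↥ι.range := MonoidHom.ofInjective hι
  have h1 := Subgroup.index_map_equiv (frattini L) e
  have h2 := CfsgLib.Base.map_frattini_mulEquiv e
  rw [show (2 : ℕ) ^ 4 = 16 from rfl, ← h1]
  refine le_of_eq_of_le ?_ (h ι.range)
  exact congrArg Subgroup.index h2

/-- The Frattini index of a subgroup splits along a normal subgroup of the group. -/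
theorem index_frattini_le_split (hS : IsPGroup 2 S) (M N : Subgroup S) [N.Normal] :
    (frattini ↥M).index ≤ (frattini ↥M).relIndex (N.subgroupOf M) *
      (frattini ↥(M.map (QuotientGroup.mk' N))).index := by
  rw [Harada.index_frattini_eq (N.subgroupOf M)]
  refine Nat.mul_le_mul_left _ ?_
  let f : ↥M →* S ⧸ N := (QuotientGroup.mk' N).comp M.subtype
  have hk : f.ker = N.subgroupOf M := by
    ext x
    simp [f, MonoidHom.mem_ker, Subgroup.mem_subgroupOf]
  have hr : f.range = M.map (QuotientGroup.mk' N) := by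
    rw [MonoidHom.range_comp, Subgroup.range_subtype]
  exact hr ▸ Harada.sup_index_le (hS.to_subgroup M) f _ hk

/-- The part inside a normal subgroup is bounded by its own Frattini index. -/
theorem relIndex_frattini_le_index (M N : Subgroup S) [N.Normal] :
    (frattini ↥M).relIndex (N.subgroupOf M) ≤ (frattini ↥(N.subgroupOf M)).index := by
  have hle : frattini ↥(N.subgroupOf M) ≤ (frattini ↥M).subgroupOf (N.subgroupOf M) := fun x hx =>
    CfsgLib.Base.map_frattini_le_frattini (N.subgroupOf M) ⟨x, hx, rfl⟩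
  exact Nat.le_of_dvd (Nat.pos_of_ne_zero index_ne_zero_of_finite) (index_dvd_of_le hle)

/-- The part inside a normal subgroup is bounded by its order. -/
theorem relIndex_frattini_le_card (M N : Subgroup S) :
    (frattini ↥M).relIndex (N.subgroupOf M) ≤ Nat.card ↥(M ⊓ N) :=
  (Harada.relIndex_le_card _).trans (le_of_eq (Nat.card_congr
    { toFun := fun x => ⟨((x : ↥M) : S), ⟨(x : ↥M).2, x.2⟩⟩
      invFun := fun x => ⟨⟨x.1, x.2.1⟩, x.2.2⟩
      left_inv := fun _ => rfl
      right_inv := fun _ => rfl }))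

/-- The part inside a normal subgroup is bounded by the centraliser there of any element. -/
theorem relIndex_frattini_le_centralizer (hS : IsPGroup 2 S) (M N : Subgroup S) [N.Normal] {m : S}
    (hm : m ∈ M) :
    (frattini ↥M).relIndex (N.subgroupOf M) ≤
      Nat.card ↥(M ⊓ N ⊓ centralizer ({m} : Set S)) := by
  classical
  haveI : Fact (Nat.Prime 2) := ⟨Nat.prime_two⟩
  set A : Subgroup ↥M := N.subgroupOf M with hA
  set C : Subgroup ↥A := (centralizer ({m} : Set S)).comap (M.subtype.comp A.subtype) with hC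
  set F : Subgroup ↥A := (frattini ↥M).subgroupOf A with hF
  let m' : ↥M := ⟨m, hm⟩
  have hc : ∀ a : ↥A, ⁅(a : ↥M), m'⁆ ∈ A := fun a => by
    have h : (a : ↥M) * (m' * (a : ↥M)⁻¹ * m'⁻¹) ∈ A :=
      mul_mem a.2 ((inferInstance : A.Normal).conj_mem _ (inv_mem a.2) m')
    rwa [commutatorElement_def, mul_assoc, mul_assoc, ← mul_assoc m']
  have hcF : ∀ a : ↥A, (⟨⁅(a : ↥M), m'⁆, hc a⟩ : ↥A) ∈ F := fun a =>
    PGroups.commutator_le_frattini (hS.to_subgroup M)
      (Subgroup.commutator_mem_commutator (mem_top _) (mem_top _))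
  let f : ↥A ⧸ C → ↥F := fun q =>
    Quotient.liftOn' q (fun a => ⟨_, hcF a⟩) fun a b hab => by
      rw [QuotientGroup.leftRel_apply] at hab
      have h1 : ((a⁻¹ * b : ↥A) : ↥M) * m' = m' * ((a⁻¹ * b : ↥A) : ↥M) :=
        Subtype.ext (mem_centralizer_singleton_iff.1 hab)
      refine Subtype.ext (Subtype.ext ?_)
      show ⁅(a : ↥M), m'⁆ = ⁅(b : ↥M), m'⁆
      have h2 : (b : ↥M) = (a : ↥M) * ((a⁻¹ * b : ↥A) : ↥M) := by
        rw [Subgroup.coe_mul, Subgroup.coe_inv, mul_inv_cancel_left]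
      rw [h2, commutatorElement_def, commutatorElement_def, mul_inv_rev]
      calc (a : ↥M) * m' * (a : ↥M)⁻¹ * m'⁻¹
          = (a : ↥M) * (m' * ((a⁻¹ * b : ↥A) : ↥M)) * (((a⁻¹ * b : ↥A) : ↥M)⁻¹ * (a : ↥M)⁻¹) *
            m'⁻¹ := by group
        _ = _ := by rw [← h1]; group
  have hinj : Function.Injective f := by
    intro p q
    induction p using Quotient.inductionOn' with | _ a =>
    induction q using Quotient.inductionOn' with | _ b =>
    intro hab
    have h1 : ⁅(a : ↥M), m'⁆ = ⁅(b : ↥M), m'⁆ :=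
      congrArg (fun z : ↥F => ((z : ↥A) : ↥M)) hab
    have h2 : (a : ↥M) * m' * (a : ↥M)⁻¹ = (b : ↥M) * m' * (b : ↥M)⁻¹ :=
      mul_right_cancel (b := m'⁻¹) h1
    refine Quotient.sound' ?_
    rw [QuotientGroup.leftRel_apply]
    refine mem_centralizer_singleton_iff.2 (congrArg Subtype.val
      (show ((a⁻¹ * b : ↥A) : ↥M) * m' = m' * ((a⁻¹ * b : ↥A) : ↥M) from ?_))
    rw [Subgroup.coe_mul, Subgroup.coe_inv]
    calc (a : ↥M)⁻¹ * b * m'
        = (a : ↥M)⁻¹ * ((b : ↥M) * m' * (b : ↥M)⁻¹) * b := by group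
      _ = _ := by rw [← h2]; group
  have h3 : C.index ≤ Nat.card F := Nat.card_le_card_of_injective f hinj
  have h4 : F.index * Nat.card F = Nat.card A := by rw [mul_comm]; exact F.card_mul_index
  have h5 : C.index * Nat.card C = Nat.card A := by rw [mul_comm]; exact C.card_mul_index
  have h6 : F.index ≤ Nat.card C := by
    refine Nat.le_of_mul_le_mul_right ?_ (Nat.card_pos (α := ↥F))
    rw [h4, ← h5, mul_comm C.index]
    exact Nat.mul_le_mul_left _ h3
  refine h6.trans (le_of_eq (Nat.card_congr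
    { toFun := fun x => ⟨(((x : ↥A) : ↥M) : S), ⟨⟨((x : ↥A) : ↥M).2, (x : ↥A).2⟩, x.2⟩⟩
      invFun := fun x => ⟨⟨⟨x.1, x.2.1.1⟩, x.2.1.2⟩, x.2.2⟩
      left_inv := fun _ => rfl
      right_inv := fun _ => rfl }))

/-- A two-group of order at most eight which is not elementary of order eight has all Frattini
indices at most four. -/
theorem index_frattini_le_four_of_small {Q : Type*} [Group Q] [Finite Q] (hQ : IsPGroup 2 Q)
    (h8 : Nat.card Q ≤ 8) (hne : Nat.card Q = 8 → ∃ x : Q, x ^ 2 ≠ 1) (R : Subgroup Q) :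
    (frattini ↥R).index ≤ 4 := by
  haveI : Fact (Nat.Prime 2) := ⟨Nat.prime_two⟩
  refine Harada.index_frattini_subgroup_le hQ ?_ R
  by_cases h4 : Nat.card Q ≤ 4
  · exact Or.inl h4
  obtain ⟨n, hn⟩ := IsPGroup.iff_card.1 hQ
  have h3 : n = 3 := by
    have a : n ≤ 3 := (Nat.pow_le_pow_iff_right one_lt_two).1 (hn ▸ h8)
    have b : 2 < n := by
      by_contra hb
      exact h4 (hn ▸ Nat.pow_le_pow_right two_pos (not_lt.1 hb))
    omega
  subst h3
  obtain ⟨x, hx⟩ := hne hn
  obtain ⟨k, hk⟩ := IsPGroup.iff_orderOf.1 hQ x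
  have hk2 : 2 ≤ k := by
    by_contra hb
    refine hx (orderOf_dvd_iff_pow_eq_one.1 ?_)
    rw [hk]
    exact pow_dvd_pow 2 (show k ≤ 1 by omega)
  have hk3 : k ≤ 3 :=
    (Nat.pow_dvd_pow_iff_le_right one_lt_two).1 (hk ▸ hn ▸ orderOf_dvd_natCard x)
  right
  refine ⟨zpowers (x ^ 2 ^ (k - 2)), inferInstance, ?_⟩
  have ho : orderOf (x ^ 2 ^ (k - 2)) = 4 := by
    rw [orderOf_pow, hk, Nat.gcd_eq_right (pow_dvd_pow 2 (Nat.sub_le k 2)),
      Nat.pow_div (Nat.sub_le k 2) two_pos, show k - (k - 2) = 2 by omega]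
    norm_num
  have h1 := card_mul_index (zpowers (x ^ 2 ^ (k - 2)))
  rw [Nat.card_zpowers, ho, hn] at h1
  omega

/-- An involution outside `K` normalising it, with at most two fixed points in `K`: every subgroup
of `K` is generated by two elements. -/
theorem index_frattini_le_four_of_involution (hS : IsPGroup 2 S) {K : Subgroup S} {u : S}
    (hu : u ^ 2 = 1) (huK : u ∉ K) (hn : u ∈ normalizer (K : Set S))
    (hc : Nat.card ↥(K ⊓ centralizer ({u} : Set S)) ≤ 2) (R : Subgroup S) (hR : R ≤ K) :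
    (frattini ↥R).index ≤ 4 := by
  classical
  set L : Subgroup S := K ⊔ zpowers u with hL
  have huL : u ∈ L := (le_sup_right : zpowers u ≤ L) (mem_zpowers u)
  have hmem : ∀ x ∈ L, x ∈ K ∨ x * u ∈ K := by
    intro x hx
    have hset : (L : Set S) = (K : Set S) * (zpowers u : Set S) :=
      coe_mul_of_right_le_normalizer_left K (zpowers u) (zpowers_le.2 hn)
    obtain ⟨k, hk, y, hy, rfl⟩ : x ∈ (K : Set S) * (zpowers u : Set S) := hset ▸ hx
    obtain ⟨i, rfl⟩ := mem_zpowers_iff.1 hy
    rcases Int.even_or_odd i with ⟨j, rfl⟩ | ⟨j, rfl⟩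
    · left
      rw [← two_mul, zpow_mul, show u ^ (2 : ℤ) = 1 from mod_cast hu, one_zpow]
      simpa using hk
    · right
      show k * u ^ (2 * j + 1) * u ∈ K
      rw [zpow_add, zpow_mul, show u ^ (2 : ℤ) = 1 from mod_cast hu, one_zpow, one_mul, zpow_one,
        mul_assoc, ← sq, hu, mul_one]
      exact hk
  have hu1 : (⟨u, huL⟩ : ↥L) ≠ 1 := fun h => huK (by
    rw [show u = 1 from congrArg Subtype.val h]
    exact one_mem K)
  have hC : Nat.card ↥(centralizer ({(⟨u, huL⟩ : ↥L)} : Set ↥L)) ≤ 4 := by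
    let Z := K ⊓ centralizer ({u} : Set S)
    let f : ↥(centralizer ({(⟨u, huL⟩ : ↥L)} : Set ↥L)) → ↥Z × Bool := fun x =>
      if hx : ((x : ↥L) : S) ∈ K then
        (⟨((x : ↥L) : S), hx, mem_centralizer_singleton_iff.2
          (congrArg Subtype.val (mem_centralizer_singleton_iff.1 x.2))⟩, false)
      else
        (⟨((x : ↥L) : S) * u, (hmem _ (x : ↥L).2).resolve_left hx,
          mem_centralizer_singleton_iff.2 (by
            have hxu : ((x : ↥L) : S) * u = u * ((x : ↥L) : S) :=
              congrArg Subtype.val (mem_centralizer_singleton_iff.1 x.2)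
            rw [← mul_assoc u, ← hxu])⟩, true)
    have hf : Function.Injective f := by
      intro x y hxy
      simp only [f] at hxy
      refine Subtype.ext (Subtype.ext ?_)
      split_ifs at hxy with hx hy hy
      · exact congrArg (fun z : ↥Z × Bool => (z.1 : S)) hxy
      · simp at hxy
      · simp at hxy
      · exact mul_right_cancel (b := u) (congrArg (fun z : ↥Z × Bool => (z.1 : S)) hxy)
    refine (Nat.card_le_card_of_injective f hf).trans ?_
    rw [Nat.card_prod, Nat.card_eq_fintype_card (α := Bool), Fintype.card_bool]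
    show Nat.card ↥(K ⊓ centralizer ({u} : Set S)) * 2 ≤ 4
    omega
  have hRL : R ≤ L := hR.trans le_sup_left
  have h4 := Harada.index_frattini_subgroup_le (hS.to_subgroup L)
    (Harada.exists_cyclic_index_two (hS.to_subgroup L) hu1 hC) (R.subgroupOf L)
  have e := subgroupOfEquivOfLe hRL
  have h1 := Subgroup.index_map_equiv (frattini ↥(R.subgroupOf L)) e
  rw [show (frattini ↥R).index = (frattini ↥(R.subgroupOf L)).index from
    (congrArg Subgroup.index (CfsgLib.Base.map_frattini_mulEquiv e)).symm.trans h1]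
  exact h4

/-- **Lemma L16.** A normal elementary abelian self-centralising sixteen-group with small quotient. -/
theorem rank_of_sixteen (hS : IsPGroup 2 S) (E : Subgroup S) [E.Normal]
    (hE16 : Nat.card E = 16) (hq : Nat.card (S ⧸ E) ≤ 8)
    (hne : Nat.card (S ⧸ E) = 8 → ∃ x : S, x ^ 2 ∉ E)
    (hc : ∀ x : S, x ∉ E → x ^ 2 ∈ E → Nat.card ↥(E ⊓ centralizer ({x} : Set S)) ≤ 4) :
    Cfsg.SectionalPRankLE 2 4 S := by
  haveI : Fact (Nat.Prime 2) := ⟨Nat.prime_two⟩
  refine rank_of_forall fun M => (index_frattini_le_split hS M E).trans ?_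
  have hne' : Nat.card (S ⧸ E) = 8 → ∃ x : S ⧸ E, x ^ 2 ≠ 1 := fun h => by
    obtain ⟨x, hx⟩ := hne h
    exact ⟨QuotientGroup.mk x, fun h2 => hx ((QuotientGroup.eq_one_iff _).1 (by simpa using h2))⟩
  have hQ := index_frattini_le_four_of_small (hS.to_quotient E) hq hne'
    (M.map (QuotientGroup.mk' E))
  by_cases hM : M ≤ E
  · have h1 : (frattini ↥(M.map (QuotientGroup.mk' E))).index = 1 := by
      have h0 : Nat.card ↥(M.map (QuotientGroup.mk' E)) = 1 := by
        rw [Subgroup.card_eq_one, Subgroup.map_eq_bot_iff, QuotientGroup.ker_mk']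
        exact hM
      have := Harada.index_frattini_le_card (H := ↥(M.map (QuotientGroup.mk' E)))
      have := (frattini ↥(M.map (QuotientGroup.mk' E))).index_ne_zero_of_finite
      omega
    rw [h1, mul_one]
    exact (relIndex_frattini_le_card M E).trans
      ((Subgroup.card_le_of_le inf_le_right).trans hE16.le)
  obtain ⟨x, hxM, hxE⟩ := SetLike.not_le_iff_exists.1 hM
  obtain ⟨k, hk⟩ := IsPGroup.iff_orderOf.1 (hS.to_quotient E) (QuotientGroup.mk x : S ⧸ E)
  obtain ⟨m, hmM, hmE, hm2⟩ : ∃ m ∈ M, m ∉ E ∧ m ^ 2 ∈ E := by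
    rcases Nat.eq_zero_or_pos k with rfl | hk0
    · rw [pow_zero, orderOf_eq_one_iff, QuotientGroup.eq_one_iff] at hk
      exact absurd hk hxE
    · refine ⟨x ^ 2 ^ (k - 1), pow_mem hxM _, ?_, ?_⟩
      · intro hmem
        have h1 : (QuotientGroup.mk x : S ⧸ E) ^ 2 ^ (k - 1) = 1 := by
          rw [← QuotientGroup.mk_pow, QuotientGroup.eq_one_iff]
          exact hmem
        have h2 := orderOf_dvd_of_pow_eq_one h1
        rw [hk, Nat.pow_dvd_pow_iff_le_right one_lt_two] at h2
        omega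
      · rw [← pow_mul, ← pow_succ, Nat.sub_add_cancel hk0, ← QuotientGroup.eq_one_iff,
          QuotientGroup.mk_pow, ← hk]
        exact pow_orderOf_eq_one _
  have h2 := relIndex_frattini_le_centralizer hS M E hmM
  have h3 : Nat.card ↥(M ⊓ E ⊓ centralizer ({m} : Set S)) ≤ 4 :=
    (Subgroup.card_le_of_le (inf_le_inf_right _ inf_le_right)).trans (hc m hmE hm2)
  exact Nat.mul_le_mul (h2.trans h3) hQ

/-- The stabiliser of a four-point set modulo its pointwise stabiliser has all Frattini indices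
at most four. -/
theorem index_frattini_le_four_of_four_set {Ω : Type*} [MulAction S Ω] [Finite Ω]
    (hS : IsPGroup 2 S) {D : Set Ω} (hD : D.ncard = 4) (hinv : ∀ s : S, s • D = D)
    (N : Subgroup S) [N.Normal] (hN : N = fixingSubgroup S D) (R : Subgroup (S ⧸ N)) :
    (frattini ↥R).index ≤ 4 := by
  classical
  haveI : Fact (Nat.Prime 2) := ⟨Nat.prime_two⟩
  letI : MulAction S ↥D :=
    { smul := fun s d => ⟨s • (d : Ω), by
        exact (Set.ext_iff.1 (hinv s) _).1 (Set.smul_mem_smul_set d.2)⟩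
      one_smul := fun d => Subtype.ext (one_smul S (d : Ω))
      mul_smul := fun a b d => Subtype.ext (mul_smul a b (d : Ω)) }
  let ρ : S →* Equiv.Perm ↥D := MulAction.toPermHom S ↥D
  have hker : ρ.ker = N := by
    ext s
    rw [hN, MonoidHom.mem_ker, Equiv.ext_iff]
    constructor
    · intro h d
      exact congrArg Subtype.val (h d)
    · intro h d
      exact Subtype.ext (h d)
  let e : S ⧸ N ≃* ↥ρ.range :=
    (QuotientGroup.quotientMulEquivOfEq hker.symm).trans (QuotientGroup.quotientKerEquivRange ρ)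
  have hR : IsPGroup 2 ↥ρ.range := hS.of_surjective ρ.rangeRestrict ρ.rangeRestrict_surjective
  obtain ⟨Q, hQ⟩ := hR.exists_le_sylow
  haveI : Fintype ↥D := Fintype.ofFinite _
  have hcardD : Fintype.card ↥D = 4 := by
    rw [← Nat.card_eq_fintype_card, Nat.card_coe_set_eq, hD]
  have hQ8 : Nat.card (Q : Subgroup (Equiv.Perm ↥D)) = 8 := by
    rw [Q.card_eq_multiplicity, Nat.card_perm, Nat.card_eq_fintype_card, hcardD,
      show Nat.factorial 4 = 2 ^ 3 * 3 from rfl,
      Nat.factorization_mul (by norm_num) (by norm_num), Finsupp.add_apply,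
      Nat.factorization_pow, Finsupp.smul_apply, Nat.Prime.factorization_self Nat.prime_two,
      Nat.factorization_eq_zero_of_not_dvd (by norm_num : ¬ 2 ∣ 3)]
    norm_num
  have h8 : Nat.card (S ⧸ N) ≤ 8 := by
    rw [Nat.card_congr e.toEquiv, ← hQ8]
    exact Subgroup.card_le_of_le hQ
  refine index_frattini_le_four_of_small (hS.to_quotient N) h8 (fun h => ?_) R
  have hEq : ρ.range = (Q : Subgroup (Equiv.Perm ↥D)) := by
    refine Subgroup.eq_of_le_of_card_ge hQ ?_
    rw [hQ8, ← Nat.card_congr e.toEquiv, h]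
  let eF : ↥D ≃ Fin 4 := Fintype.equivFinOfCardEq hcardD
  let c : Equiv.Perm ↥D := eF.permCongrHom.symm (finRotate 4)
  have hc : orderOf c = 2 ^ 2 := by
    have h4 : orderOf (finRotate 4) = 4 := by
      rw [orderOf_eq_iff (by norm_num)]
      refine ⟨by decide, fun m hm h0 => ?_⟩
      interval_cases m <;> decide
    show orderOf (eF.permCongrHom.symm (finRotate 4)) = 2 ^ 2
    rw [MulEquiv.orderOf_eq, h4]
    norm_num
  have hcP : IsPGroup 2 ↥(zpowers c) := IsPGroup.of_card (n := 2) (by rw [Nat.card_zpowers, hc])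
  obtain ⟨Q', hQ'⟩ := hcP.exists_le_sylow
  obtain ⟨g, hg⟩ := MulAction.exists_smul_eq (Equiv.Perm ↥D) Q' Q
  have hmemQ : g * c * g⁻¹ ∈ (Q : Subgroup (Equiv.Perm ↥D)) := by
    rw [← hg]
    exact Subgroup.smul_mem_pointwise_smul c (MulAut.conj g) _ (hQ' (mem_zpowers c))
  refine ⟨e.symm ⟨g * c * g⁻¹, hEq ▸ hmemQ⟩, fun h2 => ?_⟩
  have h3 := congrArg e h2
  rw [map_pow, MulEquiv.apply_symm_apply, map_one, Subtype.ext_iff] at h3
  have h4 : (g * c * g⁻¹) ^ 2 = 1 := h3
  rw [conj_pow, conj_eq_one_iff] at h4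
  have := orderOf_dvd_of_pow_eq_one h4
  rw [hc] at this
  norm_num at this

end CfsgLib.FixityFour
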