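import Cfsg.Agent.Lib.FixityFour.Basic
import Cfsg.Agent.Lib.FixityFour.Small
import Cfsg.Agent.Lib.PGroups.MacWilliams.Main

/-!
# Simple groups of fixity four: reduction for involutions with four fixed points
-/

set_option autoImplicit false
set_option linter.unusedSectionVars false
set_option linter.style.haveILetI false

namespace CfsgLib.FixityFour

open Subgroup MulAction
open scoped Pointwise

/-- A mixed two-group has small rank, given the two cases with a large normal elementary subgroup. -/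
theorem rank_of_mixed {S Ω : Type*} [Group S] [Finite S] [MulAction S Ω] [Finite Ω] (h : TwoAct S Ω)
    (hfree : ∀ E : Subgroup S, E.Normal → IsMulCommutative E → (∀ e ∈ E, e ^ 2 = 1) →
      8 ≤ Nat.card E → (∀ e ∈ E, e ≠ 1 → fixedBy Ω e = ∅) →
      (∀ E' : Subgroup S, E'.Normal → IsMulCommutative E' → (∀ e ∈ E', e ^ 2 = 1) →
        (∀ e ∈ E', e ≠ 1 → fixedBy Ω e = ∅) → E ≤ E' → E' = E) → Cfsg.SectionalPRankLE 2 4 S)
    (hfixed : ∀ E : Subgroup S, E.Normal → IsMulCommutative E → (∀ e ∈ E, e ^ 2 = 1) →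
      8 ≤ Nat.card E → (∃ e ∈ E, e ≠ 1 ∧ (fixedBy Ω e).Nonempty) →
      (∀ E' : Subgroup S, E'.Normal → IsMulCommutative E' → (∀ e ∈ E', e ^ 2 = 1) →
        E ≤ E' → E' = E) → Cfsg.SectionalPRankLE 2 4 S) :
    Cfsg.SectionalPRankLE 2 4 S := by
  haveI : Fact (Nat.Prime 2) := ⟨Nat.prime_two⟩
  let P : Subgroup S → Prop := fun E =>
    E.Normal ∧ IsMulCommutative E ∧ (∀ e ∈ E, e ^ 2 = 1) ∧ 8 ≤ Nat.card E
  let Q : Subgroup S → Prop := fun E => P E ∧ ∀ e ∈ E, e ≠ 1 → fixedBy Ω e = ∅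
  by_cases hP : ∃ E, P E
  · by_cases hQ : ∃ E, Q E
    · obtain ⟨E, hE, hmax⟩ := Set.exists_max_image {E | Q E} (fun E => Nat.card E) (Set.toFinite _) hQ
      refine hfree E hE.1.1 hE.1.2.1 hE.1.2.2.1 hE.1.2.2.2 hE.2 fun E' a b c d hle => ?_
      have hcard : Nat.card E ≤ Nat.card E' := Subgroup.card_le_of_le hle
      exact (Subgroup.eq_of_le_of_card_ge hle
        (hmax E' ⟨⟨a, b, c, hE.1.2.2.2.trans hcard⟩, d⟩)).symm
    · obtain ⟨E, hE, hmax⟩ := Set.exists_max_image {E | P E} (fun E => Nat.card E) (Set.toFinite _) hP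
      refine hfixed E hE.1 hE.2.1 hE.2.2.1 hE.2.2.2 ?_ fun E' a b c hle => ?_
      · by_contra hno
        exact hQ ⟨E, hE, fun e he he1 => Set.not_nonempty_iff_eq_empty.1 fun hf => hno ⟨e, he, he1, hf⟩⟩
      · exact (Subgroup.eq_of_le_of_card_ge hle
          (hmax E' ⟨a, b, c, hE.2.2.2.trans (Subgroup.card_le_of_le hle)⟩)).symm
  · refine CfsgLib.PGroups.MacWilliams.sectionalPRankLE_four h.pGroup fun A hA hAc hA2 => ?_
    obtain ⟨n, hn⟩ := CfsgLib.PGroups.card_subgroup_eq_pow h.pGroup A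
    by_contra hbig
    refine hP ⟨A, hA, hAc, hA2, ?_⟩
    rw [hn] at hbig ⊢
    exact le_of_eq_of_le (by norm_num) (Nat.pow_le_pow_right two_pos (show 3 ≤ n by
      by_contra hb
      exact hbig (le_of_le_of_eq (Nat.pow_le_pow_right two_pos (show n ≤ 2 by omega)) (by norm_num))))

variable {G Ω : Type*} [Group G] [Finite G] [MulAction G Ω] [Finite Ω]

/-- If some involution fixes four points, each involution fixes none or four. -/
theorem Hyp.invFour (h : Hyp G Ω) (hex : ∃ g : G, orderOf g = 2 ∧ (fixedBy Ω g).ncard = 4) :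
    InvFour G Ω := by
  obtain ⟨g₀, hg₀, hf₀⟩ := hex
  intro g hg hne
  have a := h.four_dvd_sub hg₀
  have b := h.four_dvd_sub hg
  have c := h.fix_le g fun h1 => by rw [h1, orderOf_one] at hg; omega
  have d := (Set.ncard_pos (Set.toFinite _)).2 hne
  have e := h.five
  rw [hf₀] at a
  omega

/-- A Sylow two-subgroup satisfies the hypotheses on the two-group. -/
theorem Hyp.twoAct (h : Hyp G Ω) (hex : ∃ g : G, orderOf g = 2 ∧ (fixedBy Ω g).ncard = 4)
    (S : Sylow 2 G) : TwoAct ↥(S : Subgroup G) Ω where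
  pGroup := S.2
  fix_le g hg := h.fix_le (g : G) fun h1 => hg (Subtype.ext h1)
  invFour g hg hne := h.invFour hex (g : G) (by rw [Subgroup.orderOf_coe, hg]) hne
  four_dvd ω := by
    haveI : Fact (Nat.Prime 2) := ⟨Nat.prime_two⟩
    haveI := h.trans
    have hn : 4 ∣ Nat.card Ω := by
      obtain ⟨g₀, hg₀, hf₀⟩ := hex
      have a := h.four_dvd_sub hg₀
      have d := h.five
      rw [hf₀] at a
      omega
    obtain ⟨j, hj⟩ := CfsgLib.PGroups.card_subgroup_eq_pow S.2 (stabilizer ↥(S : Subgroup G) ω)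
    have hdvd : Nat.card ↥(stabilizer ↥(S : Subgroup G) ω) ∣ Nat.card ↥(stabilizer G ω) := by
      let φ : ↥(stabilizer ↥(S : Subgroup G) ω) →* ↥(stabilizer G ω) :=
        { toFun := fun x => ⟨((x : ↥(S : Subgroup G)) : G), x.2⟩
          map_one' := rfl
          map_mul' := fun _ _ => rfl }
      exact Subgroup.card_dvd_of_injective φ fun x y hxy =>
        Subtype.ext (Subtype.ext (congrArg (fun z : ↥(stabilizer G ω) => (z : G)) hxy))
    have hG : 2 ^ (j + 2) ∣ Nat.card G := by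
      rw [← Subgroup.index_mul_card (stabilizer G ω), MulAction.index_stabilizer_of_transitive,
        pow_add, mul_comm, show (2 : ℕ) ^ 2 = 4 from rfl, ← hj]
      exact Nat.mul_dvd_mul hn hdvd
    rw [Nat.prime_two.pow_dvd_iff_le_factorization Nat.card_pos.ne'] at hG
    have hS := (stabilizer ↥(S : Subgroup G) ω).index_mul_card
    rw [hj, S.card_eq_multiplicity] at hS
    have hd : 2 ^ (j + 2) ∣ (stabilizer ↥(S : Subgroup G) ω).index * 2 ^ j :=
      hS ▸ pow_dvd_pow 2 hG
    rw [pow_add, mul_comm] at hd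
    exact Nat.dvd_of_mul_dvd_mul_right (pow_pos two_pos j) hd

end CfsgLib.FixityFour
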