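import Cfsg.Agent.Lib.FixityFour.FreeW

/-!
# Fixity four, free case: the sectional rank when the centraliser of `E` has order sixteen
-/

set_option autoImplicit false
set_option linter.unusedSectionVars false

namespace CfsgLib.FixityFour.Free

open Subgroup MulAction
open scoped commutatorElement

variable {S Ω : Type*} [Group S] [Finite S] [MulAction S Ω] [Finite Ω]

theorem card_subgroupOf (K A : Subgroup S) :
    Nat.card ↥(K.subgroupOf A) = Nat.card ↥(A ⊓ K) := by
  rw [← Subgroup.inf_subgroupOf_right K A, inf_comm K A]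
  exact Nat.card_congr (Subgroup.subgroupOfEquivOfLe inf_le_left).toEquiv

namespace Cfg

variable (C : Cfg S Ω) (hR4 : Nat.card C.R = 4)

include hR4

theorem comm_inj_Y {y r s : S} (hy : y ∈ C.Y) (hyV : y ∉ C.V) (hr : r ∈ C.R) (hs : s ∈ C.R)
    (h : ⁅y, r⁆ = ⁅y, s⁆) : r = s :=
  C.comm_inj hy hyV hr hs ((C.Y_le_X hR4 hy).2 r hr) h

theorem comm_surj {y : S} (hy : y ∈ C.Y) (hyV : y ∉ C.V) {v : S} (hv : v ∈ C.V) :
    ∃ r ∈ C.R, ⁅y, r⁆ = v := by
  let f : ↥C.R → ↥C.V := fun r => ⟨⁅y, (r : S)⁆, (C.Y_le_X hR4 hy).2 _ r.2⟩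
  have hinj : Function.Injective f := fun r s h => Subtype.ext
    (C.comm_inj_Y hR4 hy hyV r.2 s.2 (congrArg Subtype.val h))
  obtain ⟨r, hr⟩ := (hinj.bijective_of_nat_card_le (by rw [hR4, C.card_V])).2 ⟨v, hv⟩
  exact ⟨r, r.2, congrArg Subtype.val hr⟩

omit hR4 in
/-- A subgroup of `W` is not much bigger than its meet with `Y`. -/
theorem card_le_inf_Y (hW : Nat.card C.W = Nat.card C.Y * 4) {A : Subgroup S} (hA : A ≤ C.W) :
    Nat.card A ≤ Nat.card ↥(A ⊓ C.Y) * 4 := by
  have h1 := (C.Y.subgroupOf C.W).card_mul_index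
  rw [Nat.card_congr (Subgroup.subgroupOfEquivOfLe C.Y_le_W).toEquiv, hW] at h1
  have h2 : C.Y.relIndex C.W = 4 := Nat.eq_of_mul_eq_mul_left Nat.card_pos h1
  have h3 : C.Y.relIndex A ≤ 4 := by
    rw [← h2]
    exact Subgroup.relIndex_le_of_le_right hA (by rw [h2]; norm_num)
  have h4 := (C.Y.subgroupOf A).card_mul_index
  have h5 : Nat.card ↥(C.Y.subgroupOf A) = Nat.card ↥(A ⊓ C.Y) :=
      card_subgroupOf C.Y A
  rw [← h5, ← h4]
  exact Nat.mul_le_mul le_rfl h3

/-- An abelian subgroup of `W` of order at least sixteen has order sixteen and contains `V`. -/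
theorem abelian_le (hY : Nat.card C.Y = 16) {A : Subgroup S} (hA : A ≤ C.W)
    (hab : ∀ x ∈ A, ∀ y ∈ A, Commute x y) (h16 : 16 ≤ Nat.card A) :
    Nat.card A = 16 ∧ C.V ≤ A := by
  obtain ⟨hW, hdec⟩ := C.W_decomp hR4
  have h1 := C.card_le_inf_Y hW hA
  by_cases hsub : A ⊓ C.Y ≤ C.V
  · have h2 := Subgroup.card_le_of_le hsub
    rw [C.card_V] at h2
    have heq := Subgroup.eq_of_le_of_card_ge hsub (by rw [C.card_V]; omega)
    exact ⟨by omega, heq ▸ inf_le_left⟩
  · obtain ⟨y, hy, hyV⟩ := SetLike.not_le_iff_exists.1 hsub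
    have hAY : A ≤ C.Y := by
      intro g hg
      obtain ⟨y', hy', r, hr, rfl⟩ := hdec g (hA hg)
      have hc : Commute y r := by
        have h3 := hab y hy.1 _ hg
        have h4 : Commute y y' := C.X_comm (C.Y_le_X hR4 hy.2) (C.Y_le_X hR4 hy')
        have := h4.inv_right.mul_right h3
        rwa [inv_mul_cancel_left] at this
      rcases eq_or_ne r 1 with rfl | hr1
      · rwa [mul_one]
      · exact absurd (C.cent_Y_R hy.2 hr hr1 hc) hyV
    have h5 := Subgroup.card_le_of_le hAY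
    have heq := Subgroup.eq_of_le_of_card_ge hAY (by omega)
    exact ⟨by omega, heq ▸ fun v hv => C.E_le_Y (C.V_le hv)⟩

/-- A subgroup of `W` of order at least thirty-two has all of `V` as commutators. -/
theorem V_comm_mem (hY : Nat.card C.Y = 16) {T : Subgroup S} (hT : T ≤ C.W)
    (h32 : 32 ≤ Nat.card T) {F : Subgroup S} (hF : ∀ x ∈ T, ∀ y ∈ T, ⁅x, y⁆ ∈ F) : C.V ≤ F := by
  obtain ⟨hW, hdec⟩ := C.W_decomp hR4
  have h1 := C.card_le_inf_Y hW hT
  -- `T` covers `W` modulo `Y` or contains `Y`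
  have hy : ∃ y ∈ T ⊓ C.Y, y ∉ C.V := by
    by_contra! hc
    have h2 := Subgroup.card_le_of_le (H := T ⊓ C.Y) (K := C.V) hc
    rw [C.card_V] at h2
    omega
  obtain ⟨y1, hy1, hy1V⟩ := hy
  intro v hv
  by_cases hYT : C.Y ≤ T
  · -- some element of `T` lies outside `Y`
    obtain ⟨g, hg, hgY⟩ : ∃ g ∈ T, g ∉ C.Y := by
      by_contra! hc
      have := Subgroup.card_le_of_le (H := T) (K := C.Y) hc
      omega
    obtain ⟨y', hy', r, hr, rfl⟩ := hdec g (hT hg)
    have hr1 : r ≠ 1 := fun h => hgY (by rw [h, mul_one]; exact hy')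
    have hrT : r ∈ T := (Subgroup.mul_mem_cancel_left T (hYT hy')).1 hg
    -- the map `y ↦ ⁅y, r⁆` has image all of `V`
    let f : ↥C.Y →* ↥C.V := MonoidHom.mk' (fun y => ⟨⁅(y : S), r⁆, (C.Y_le_X hR4 y.2).2 r hr⟩)
      fun y y' => Subtype.ext <| by
        have h2 := (C.Y_le_X hR4 y'.2).2 r hr
        show ⁅(y : S) * (y' : S), r⁆ = ⁅(y : S), r⁆ * ⁅(y' : S), r⁆
        rw [comm_mul_left, ← (C.V_comm_Y h2 y.2).eq, mul_inv_cancel_right,
          (C.V_comm_Y h2 (C.E_le_Y (C.V_le ((C.Y_le_X hR4 y.2).2 r hr)))).eq]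
    have hk : Nat.card f.ker ≤ 4 := by
      rw [← C.card_V]
      refine Nat.card_le_card_of_injective (fun x => (⟨((x : ↥C.Y) : S), ?_⟩ : ↥C.V)) ?_
      · exact C.cent_Y_R x.1.2 hr hr1
          (commutatorElement_eq_one_iff_commute.1 (congrArg Subtype.val (MonoidHom.mem_ker.1 x.2)))
      · intro x y hxy
        exact Subtype.ext (Subtype.ext (congrArg (fun z : ↥C.V => (z : S)) hxy))
    have h3 := f.ker.card_mul_index
    rw [Subgroup.index_ker, hY] at h3
    have h4 := Nat.mul_le_mul_right (Nat.card f.range) hk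
    have h5 : f.range = ⊤ := Subgroup.eq_top_of_le_card _ (by rw [C.card_V]; omega)
    obtain ⟨y, hyv⟩ := MonoidHom.range_eq_top.1 h5 ⟨v, hv⟩
    have := hF _ (hYT y.2) _ hrT
    rwa [show ⁅(y : S), r⁆ = v from congrArg Subtype.val hyv] at this
  · have hlt : Nat.card ↥(T ⊓ C.Y) ≤ 8 := by
      haveI : Fact (Nat.Prime 2) := ⟨Nat.prime_two⟩
      obtain ⟨n, hn⟩ := PGroups.card_subgroup_eq_pow C.h.pGroup (T ⊓ C.Y)
      have h2 := Subgroup.card_le_of_le (inf_le_right : T ⊓ C.Y ≤ C.Y)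
      have h3 : Nat.card ↥(T ⊓ C.Y) ≠ 16 := fun h => hYT
        ((Subgroup.eq_of_le_of_card_ge (inf_le_right : T ⊓ C.Y ≤ C.Y) (by omega)).symm.trans_le inf_le_left)
      rw [hn] at h2 h3 ⊢
      have : n ≤ 4 := (Nat.pow_le_pow_iff_right one_lt_two).1
        ((h2.trans_eq hY).trans_eq (by norm_num))
      interval_cases n <;> simp_all
    haveI := C.Y_normal
    have hsup : C.Y ⊔ T = C.W := by
      refine Subgroup.eq_of_le_of_card_ge (sup_le C.Y_le_W hT) ?_
      have h2 := ((C.Y).subgroupOf (C.Y ⊔ T)).card_mul_index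
      rw [Nat.card_congr (Subgroup.subgroupOfEquivOfLe le_sup_left).toEquiv] at h2
      have h3 := (C.Y.subgroupOf T).card_mul_index
      have h5 : Nat.card ↥(C.Y.subgroupOf T) = Nat.card ↥(T ⊓ C.Y) :=
      card_subgroupOf C.Y T
      have h6 : C.Y.relIndex (C.Y ⊔ T) = C.Y.relIndex T := by
        rw [sup_comm, Subgroup.relIndex_sup_right]
      have h7 : 4 ≤ C.Y.relIndex T := by
        rw [h5] at h3
        change Nat.card ↥(T ⊓ C.Y) * C.Y.relIndex T = Nat.card T at h3
        nlinarith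
      change Nat.card C.Y * C.Y.relIndex (C.Y ⊔ T) = _ at h2
      rw [hW, ← h2, h6]
      exact Nat.mul_le_mul le_rfl h7
    obtain ⟨r, hr, hrv⟩ := C.comm_surj hR4 hy1.2 hy1V hv
    have hrW : r ∈ C.Y ⊔ T := by rw [hsup]; exact (C.mem_R.1 hr).2.1
    obtain ⟨y, hy, w, hw, hyw⟩ := Subgroup.mem_sup_of_normal_left.1 hrW
    have := hF _ hy1.1 _ hw
    have hwe : w = y⁻¹ * r := by rw [← hyw, inv_mul_cancel_left]
    rw [hwe, comm_mul_right, hrv,
      commutatorElement_eq_one_iff_commute.2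
        (C.X_comm (C.Y_le_X hR4 hy1.2) (C.Y_le_X hR4 (inv_mem hy))), one_mul,
      ← (C.V_comm_Y hv (inv_mem hy)).eq, mul_inv_cancel_right] at this
    exact this

omit hR4 in
/-- `V` is normal, and `W` has index at most two. -/
theorem exists_frame (hR4 : Nat.card C.R = 4) :
    C.W.Normal ∧ C.W.index ≤ 2 := by
  haveI := C.hEn
  haveI := C.nilpotent
  obtain ⟨z, hz, hz1, hzc⟩ := exists_step C.E (fun g => g = 1) rfl (by
    obtain ⟨x, hx, hxV⟩ := C.exists_not_mem_V
    exact ⟨x, hx, fun h => hxV (h ▸ one_mem _)⟩)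
  have hzs : ∀ s, Commute z s := fun s => commutatorElement_eq_one_iff_commute.1 (hzc s)
  have hzV : z ∈ C.V := C.mem_V.2 ⟨hz, hzs _⟩
  obtain ⟨x, hx, hxV⟩ := C.exists_not_mem_V
  obtain ⟨k, hk, hkz, hkc⟩ := exists_step C.E (fun g => g = 1 ∨ g = z) (Or.inl rfl)
    ⟨x, hx, fun h => hxV (by rcases h with rfl | rfl; exacts [one_mem _, hzV])⟩
  push Not at hkz
  have hkV : k ∈ C.V := by
    by_contra hkV
    have hall : ∀ v ∈ C.V, v = 1 ∨ v = z := by
      intro v hv
      obtain ⟨r, -, hrv⟩ := C.comm_surj hR4 (C.E_le_Y hk) hkV hv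
      exact hrv ▸ hkc r
    have h1 := PGroups.Harada.card_sub_le (X := C.V) (s := {1, z}) (fun v hv => hall v hv)
      ((Set.ncard_insert_le _ _).trans (by rw [Set.ncard_singleton]))
    rw [C.card_V] at h1
    omega
  have hmem : ∀ v ∈ C.V, v = 1 ∨ v = z ∨ v = k ∨ v = z * k := by
    have hne1 : z ≠ z * k := fun h => hkz.1 (mul_eq_left.1 h.symm)
    have hne2 : k ≠ z * k := fun h => hz1 (mul_eq_right.1 h.symm)
    have hne3 : (1 : S) ≠ z * k := fun h => hkz.2 <| by
      rw [← C.V_inv hzV]; exact (inv_eq_of_mul_eq_one_right h.symm).symm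
    have hcard : ({1, z, k, z * k} : Set S).ncard = 4 := by
      rw [Set.ncard_insert_of_notMem (by
          simp only [Set.mem_insert_iff, Set.mem_singleton_iff, not_or]
          exact ⟨Ne.symm hz1, Ne.symm hkz.1, hne3⟩) (Set.toFinite _),
        Set.ncard_insert_of_notMem (by
          simp only [Set.mem_insert_iff, Set.mem_singleton_iff, not_or]
          exact ⟨Ne.symm hkz.2, hne1⟩) (Set.toFinite _), Set.ncard_pair hne2]
    have heq : ({1, z, k, z * k} : Set S) = (C.V : Set S) := by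
      refine Set.eq_of_subset_of_ncard_le ?_ ?_ (Set.toFinite _)
      · rintro u (rfl | rfl | rfl | rfl)
        exacts [one_mem _, hzV, hkV, mul_mem hzV hkV]
      · rw [← Nat.card_coe_set_eq, hcard]; exact C.card_V.le
    intro v hv
    have : v ∈ ({1, z, k, z * k} : Set S) := by rw [heq]; exact hv
    simpa using this
  have hsk : ∀ s : S, s * k * s⁻¹ = k ∨ s * k * s⁻¹ = z * k := by
    intro s
    have h1 : s * k * s⁻¹ = ⁅k, s⁆⁻¹ * k := by simp only [commutatorElement_def]; group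
    rcases hkc s with h | h
    · left; rw [h1, h, inv_one, one_mul]
    · right; rw [h1, h, C.V_inv hzV]
  have hWiff : ∀ s : S, s * k * s⁻¹ = k → s ∈ C.W := by
    intro s hs
    have hc : Commute k s := (mul_inv_eq_iff_eq_mul.1 hs).symm
    refine C.mem_W.2 fun v hv => ?_
    rcases hmem v hv with rfl | rfl | rfl | rfl
    exacts [Commute.one_left _, hzs _, hc, (hzs _).mul_left hc]
  haveI hVn : C.V.Normal := ⟨fun v hv s => by
    have hk' : s * k * s⁻¹ ∈ C.V := by
      rcases hsk s with h | h <;> rw [h]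
      exacts [hkV, mul_mem hzV hkV]
    have hz' : s * z * s⁻¹ = z := by rw [← (hzs s).eq, mul_inv_cancel_right]
    rcases hmem v hv with rfl | rfl | rfl | rfl
    · simp
    · rw [hz']; exact hzV
    · exact hk'
    · rw [show s * (z * k) * s⁻¹ = s * z * s⁻¹ * (s * k * s⁻¹) by group, hz']
      exact mul_mem hzV hk'⟩
  refine ⟨Subgroup.normal_centralizer, ?_⟩
  rw [Subgroup.index]
  by_contra hc
  obtain ⟨a, b, hab⟩ : ∃ a b : S, a ∉ C.W ∧ b ∉ C.W ∧ a⁻¹ * b ∉ C.W := by
    by_contra! hcon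
    apply hc
    rw [← Subgroup.index]
    by_cases hall : ∀ a, a ∈ C.W
    · rw [(Subgroup.eq_top_iff' _).2 hall, Subgroup.index_top]; norm_num
    · push Not at hall
      obtain ⟨a, ha⟩ := hall
      refine le_of_eq (Subgroup.index_eq_two_iff.2 ⟨a⁻¹, fun b => ?_⟩)
      by_cases hb : b ∈ C.W
      · refine Or.inr ⟨hb, fun h => ha (by simpa using (Subgroup.mul_mem_cancel_left C.W hb).1 h)⟩
      · have h1 := hcon b⁻¹ a⁻¹ (fun h => hb (by simpa using inv_mem h))
          (fun h => ha (by simpa using inv_mem h))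
        rw [inv_inv] at h1
        exact Or.inl ⟨h1, hb⟩
  obtain ⟨ha, hb, hab⟩ := hab
  refine hab (hWiff _ ?_)
  have h1 := (hsk a).resolve_left fun h => ha (hWiff a h)
  have h2 := (hsk b).resolve_left fun h => hb (hWiff b h)
  have h3 : a⁻¹ * b * k * (a⁻¹ * b)⁻¹ = a⁻¹ * (b * k * b⁻¹) * a := by group
  rw [h3, h2, ← h1]; group

/-- Every section has rank at most four when `Y` has order sixteen. -/
theorem rank_of_sixteen (hY : Nat.card C.Y = 16) : Cfsg.SectionalPRankLE 2 4 S := by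
  haveI : Fact (Nat.Prime 2) := ⟨Nat.prime_two⟩
  obtain ⟨hW, hdec⟩ := C.W_decomp hR4
  obtain ⟨hWn, hWi⟩ := C.exists_frame hR4
  haveI := hWn
  rw [hY] at hW
  refine PGroups.Harada.sectionalPRankLE_of_index ?_
  intro L _ _ ι hι
  have hpL : IsPGroup 2 L := C.h.pGroup.of_injective ι hι
  set F : Subgroup S := (frattini L).map ι with hF
  have hsq : ∀ m ∈ ι.range, m * m ∈ F := by
    rintro m ⟨l, rfl⟩
    exact ⟨l * l, by rw [← pow_two]; exact PGroups.pow_mem_frattini hpL l, map_mul ι l l⟩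
  have hcomm : ∀ x ∈ ι.range, ∀ y ∈ ι.range, ⁅x, y⁆ ∈ F := by
    rintro x ⟨l, rfl⟩ y ⟨m, rfl⟩
    exact ⟨⁅l, m⁆, PGroups.commutator_le_frattini hpL
      (Subgroup.commutator_mem_commutator (Subgroup.mem_top l) (Subgroup.mem_top m)),
      map_commutatorElement ι l m⟩
  have hcardF : (frattini L).index * Nat.card F = Nat.card ι.range := by
    rw [hF, Nat.card_congr ((frattini L).equivMapOfInjective ι hι).symm.toEquiv,
      Subgroup.index_mul_card, Nat.card_congr (MonoidHom.ofInjective hι).toEquiv]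
  have hS : Nat.card S ≤ 128 := by
    rw [← C.W.card_mul_index, hW]; linarith
  set M := ι.range
  obtain ⟨n, hn⟩ := PGroups.card_subgroup_eq_pow C.h.pGroup M
  have hM := (Subgroup.card_le_card_group M).trans hS
  have hn7 : n ≤ 7 := (Nat.pow_le_pow_iff_right one_lt_two).1
    ((hn ▸ hM).trans_eq (by norm_num))
  have hinf : Nat.card M ≤ 2 * Nat.card ↥(M ⊓ C.W) := by
    have h4 := (C.W.subgroupOf M).card_mul_index
    have h5 : Nat.card ↥(C.W.subgroupOf M) = Nat.card ↥(M ⊓ C.W) :=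
      card_subgroupOf C.W M
    have h6 : C.W.relIndex M ≤ 2 :=
      (Nat.le_of_dvd (Nat.pos_of_ne_zero Subgroup.index_ne_zero_of_finite)
        (Subgroup.relIndex_dvd_index_of_normal C.W M)).trans hWi
    change Nat.card ↥(C.W.subgroupOf M) * C.W.relIndex M = Nat.card M at h4
    rw [← h4, h5, mul_comm 2]
    exact Nat.mul_le_mul le_rfl h6
  have hFpos : 0 < Nat.card F := Nat.card_pos
  obtain ⟨j, hj⟩ := PGroups.card_subgroup_eq_pow C.h.pGroup F
  rcases Nat.lt_or_ge (Nat.card M) 32 with hlt | h32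
  · have h16 : Nat.card M ≤ 16 := by
      rw [hn] at hlt ⊢
      interval_cases n <;> omega
    calc (frattini L).index ≤ (frattini L).index * Nat.card F :=
          Nat.le_mul_of_pos_right _ hFpos
      _ ≤ 2 ^ 4 := by rw [hcardF]; exact h16
  have hF2 : 2 ≤ Nat.card F := by
    by_contra hc
    have hbot : F = ⊥ := Subgroup.card_eq_one.1 (by omega)
    have hab : ∀ x ∈ M, ∀ y ∈ M, Commute x y := fun x hx y hy =>
      commutatorElement_eq_one_iff_commute.1 (Subgroup.mem_bot.1 (hbot ▸ hcomm x hx y hy))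
    obtain ⟨hA, hVA⟩ := C.abelian_le hR4 hY (inf_le_right : M ⊓ C.W ≤ C.W)
      (fun x hx y hy => hab x hx.1 y hy.1) (by omega)
    have hMW : M ≤ C.W := fun m hm => C.mem_W.2 fun v hv => hab v (hVA hv).1 m hm
    obtain ⟨h, -⟩ := C.abelian_le hR4 hY hMW hab (by omega)
    omega
  rcases Nat.lt_or_ge (Nat.card M) 64 with hlt | h64
  · have h32' : Nat.card M = 32 := by
      rw [hn] at hlt h32 ⊢
      interval_cases n <;> omega
    have h1 := Nat.mul_le_mul_left (frattini L).index hF2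
    rw [hcardF, h32'] at h1
    omega
  have hVF : C.V ≤ F := C.V_comm_mem hR4 hY (inf_le_right : M ⊓ C.W ≤ C.W) (by omega)
    fun x hx y hy => hcomm x hx.1 y hy.1
  have hF4 : 4 ≤ Nat.card F := C.card_V.ge.trans (Subgroup.card_le_of_le hVF)
  rcases Nat.lt_or_ge (Nat.card M) 128 with hlt | h128
  · have h64' : Nat.card M = 64 := by
      rw [hn] at hlt h64 ⊢
      interval_cases n <;> omega
    have h1 := Nat.mul_le_mul_left (frattini L).index hF4
    rw [hcardF, h64'] at h1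
    omega
  have hMtop : M = ⊤ := Subgroup.eq_top_of_le_card M (hS.trans h128)
  have hF8 : 8 ≤ Nat.card F := by
    by_contra hc
    have hFV : F = C.V := (Subgroup.eq_of_le_of_card_ge hVF (by
      rw [C.card_V]
      rw [hj] at hc ⊢
      have : j < 3 := (Nat.pow_lt_pow_iff_right one_lt_two).1
        ((not_le.1 hc).trans_eq (by norm_num))
      interval_cases j <;> norm_num)).symm
    have hallc : ∀ x y : S, ⁅x, y⁆ ∈ C.V := fun x y =>
      hFV ▸ hcomm x (hMtop ▸ Subgroup.mem_top x) y (hMtop ▸ Subgroup.mem_top y)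
    have hWall : ∀ s : S, s ∈ C.W := by
      intro s
      refine C.mem_W.2 fun v hv => ?_
      obtain ⟨x, hx, hxV⟩ := C.exists_not_mem_V
      obtain ⟨r, hr, rfl⟩ := C.comm_surj hR4 (C.E_le_Y hx) hxV hv
      have hxW := C.Y_le_W (C.E_le_Y hx)
      have hrW := (C.mem_R.1 hr).2.1
      have h1 : s * x * s⁻¹ = ⁅s, x⁆ * x := by simp only [commutatorElement_def]; group
      have h2 : s * r * s⁻¹ = ⁅s, r⁆ * r := by simp only [commutatorElement_def]; group
      have h3 : s * ⁅x, r⁆ * s⁻¹ = ⁅x, r⁆ := by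
        rw [show s * ⁅x, r⁆ * s⁻¹ = ⁅s * x * s⁻¹, s * r * s⁻¹⁆ by
            simp only [commutatorElement_def]; group, h1, h2, comm_mul_right,
          commutatorElement_eq_one_iff_commute.2
            ((C.mem_W.1 (mul_mem (C.V_le_W (hallc s x)) hxW) _ (hallc s r)).symm), one_mul,
          comm_mul_left, commutatorElement_eq_one_iff_commute.2
            (C.mem_W.1 hrW _ (hallc s x)), mul_one,
          ← (C.mem_W.1 (C.V_le_W (hallc s x)) _ hv).eq, mul_inv_cancel_right,
          ← (C.mem_W.1 (C.V_le_W (hallc s r)) _ hv).eq, mul_inv_cancel_right]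
      exact (mul_inv_eq_iff_eq_mul.1 h3).symm
    have h1 : Nat.card S ≤ Nat.card C.W := by
      rw [(Subgroup.eq_top_iff' _).2 hWall, Subgroup.card_top]
    have h2 := Subgroup.card_le_card_group M
    omega
  have h1 := Nat.mul_le_mul_left (frattini L).index hF8
  rw [hcardF] at h1
  omega

end Cfg

end CfsgLib.FixityFour.Free
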