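import Cfsg.Agent.Lib.FixityFour.Basic
import Cfsg.Agent.Lib.PGroups.Harada.Count
import Mathlib.GroupTheory.Nilpotent

/-!
# Fixity four, free normal four-or-eight group: the configuration around one involution
-/

set_option autoImplicit false
set_option linter.unusedSectionVars false

namespace CfsgLib.FixityFour.Free

open Subgroup MulAction
open scoped commutatorElement Pointwise

variable {S Ω : Type*} [Group S] [Finite S] [MulAction S Ω] [Finite Ω]

/-- In a nilpotent group a normal subgroup reaching outside `P` has an element outside `P`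
all whose commutators lie in `P`. -/
theorem exists_step {T : Type*} [Group T] [Group.IsNilpotent T] (N : Subgroup T) [hN : N.Normal]
    (P : T → Prop) (hP1 : P 1) (hne : ∃ x ∈ N, ¬ P x) :
    ∃ x ∈ N, ¬ P x ∧ ∀ s : T, P ⁅x, s⁆ := by
  classical
  obtain ⟨n, hn⟩ := Group.IsNilpotent.nilpotent' (G := T)
  obtain ⟨x₀, hx₀, hPx₀⟩ := hne
  have hex : ∃ k, ∃ x ∈ N, x ∈ Subgroup.upperCentralSeries T k ∧ ¬ P x :=
    ⟨n, x₀, hx₀, hn ▸ Subgroup.mem_top _, hPx₀⟩
  obtain ⟨x, hxN, hxu, hxP⟩ := Nat.find_spec hex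
  have hk : Nat.find hex ≠ 0 := by
    intro h0
    rw [h0, Subgroup.upperCentralSeries_zero, Subgroup.mem_bot] at hxu
    exact hxP (hxu ▸ hP1)
  obtain ⟨m, hm⟩ := Nat.exists_eq_succ_of_ne_zero hk
  refine ⟨x, hxN, hxP, fun s => ?_⟩
  by_contra hc
  rw [hm, Subgroup.mem_upperCentralSeries_succ_iff] at hxu
  have hcN : ⁅x, s⁆ ∈ N := by
    rw [show ⁅x, s⁆ = x * (s * x⁻¹ * s⁻¹) by simp [commutatorElement_def, mul_assoc]]
    exact mul_mem hxN (hN.conj_mem _ (inv_mem hxN) s)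
  have := Nat.find_min hex (show m < Nat.find hex by omega) ⟨_, hcN, hxu s, hc⟩
  exact this

theorem comm_mul_left {T : Type*} [Group T] (x y r : T) :
    ⁅x * y, r⁆ = x * ⁅y, r⁆ * x⁻¹ * ⁅x, r⁆ := by
  simp only [commutatorElement_def]; group

theorem comm_mul_right {T : Type*} [Group T] (x r s : T) :
    ⁅x, r * s⁆ = ⁅x, r⁆ * (r * ⁅x, s⁆ * r⁻¹) := by
  simp only [commutatorElement_def]; group

/-- The configuration: a free normal elementary abelian subgroup and an involution with a fixed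
point. -/
structure Cfg (S Ω : Type*) [Group S] [MulAction S Ω] where
  h : TwoAct S Ω
  E : Subgroup S
  hEn : E.Normal
  hEc : ∀ x ∈ E, ∀ y ∈ E, x * y = y * x
  hE2 : ∀ e ∈ E, e * e = 1
  hE8 : 8 ≤ Nat.card E
  hfree : ∀ e ∈ E, ∀ ω : Ω, e • ω = ω → e = 1
  t : S
  a : Ω
  ht : orderOf t = 2
  hta : t • a = a

namespace Cfg

variable (C : Cfg S Ω)

/-- The centraliser of the involution in the free subgroup. -/
def V : Subgroup S := C.E ⊓ centralizer ({C.t} : Set S)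

/-- The centraliser of the free subgroup. -/
def Y : Subgroup S := centralizer (C.E : Set S)

/-- The centraliser of `V`. -/
def W : Subgroup S := centralizer (C.V : Set S)

/-- The point stabiliser in the centraliser of the involution and `V`. -/
def R : Subgroup S := (centralizer ({C.t} : Set S) ⊓ C.W) ⊓ stabilizer S C.a

theorem exists_invol {g : S} (hg : g ≠ 1) (hpG : IsPGroup 2 S) :
    ∃ k : ℕ, orderOf (g ^ k) = 2 := by
  haveI : Fact (Nat.Prime 2) := ⟨Nat.prime_two⟩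
  obtain ⟨n, hn⟩ := IsPGroup.iff_orderOf.1 hpG g
  cases n with
  | zero => exact absurd (orderOf_eq_one_iff.1 (by simpa using hn)) hg
  | succ n =>
    refine ⟨2 ^ n, ?_⟩
    rw [orderOf_pow' _ (pow_ne_zero _ two_ne_zero), hn,
      Nat.gcd_eq_right (pow_dvd_pow 2 (Nat.le_succ n)), pow_succ, Nat.mul_div_cancel_left _
        (pow_pos two_pos n)]

/-- An element with a fixed point centralises at most four elements of `E`. -/
theorem card_cent_le {g : S} (hg : g ≠ 1) {ω : Ω} (hω : g • ω = ω) :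
    Nat.card ↥(C.E ⊓ centralizer ({g} : Set S)) ≤ 4 := by
  obtain ⟨k, hk⟩ := exists_invol hg C.h.pGroup
  set j := g ^ k
  have hjω : j • ω = ω := mem_fixedBy_pow (g := g) hω k
  have hD : (fixedBy Ω j).ncard = 4 := C.h.invFour j hk ⟨ω, hjω⟩
  have hmem : ∀ e : ↥(C.E ⊓ centralizer ({g} : Set S)), (e : S) • ω ∈ fixedBy Ω j := by
    rintro ⟨e, -, he⟩
    have hc : Commute e j := Commute.pow_right (mem_centralizer_singleton_iff.1 he) k
    show j • e • ω = e • ω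
    rw [← mul_smul, ← hc.eq, mul_smul, hjω]
  rw [← hD, ← Nat.card_coe_set_eq]
  refine Nat.card_le_card_of_injective (fun e => ⟨_, hmem e⟩) fun e e' hee => ?_
  have h1 : (e : S) • ω = (e' : S) • ω := congrArg Subtype.val hee
  have h2 : ((e' : S)⁻¹ * e) • ω = ω := by rw [mul_smul, h1, inv_smul_smul]
  exact Subtype.ext (inv_mul_eq_one.1 (C.hfree _ (mul_mem (inv_mem e'.2.1) e.2.1) ω h2)).symm

theorem t_sq : C.t * C.t = 1 := by
  rw [← pow_two, ← C.ht]; exact pow_orderOf_eq_one _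

theorem t_ne : C.t ≠ 1 := fun h => by simpa [h] using C.ht

theorem t_inv : C.t⁻¹ = C.t := inv_eq_of_mul_eq_one_right C.t_sq

theorem E_inv {e : S} (he : e ∈ C.E) : e⁻¹ = e := inv_eq_of_mul_eq_one_right (C.hE2 e he)

/-- For an involution, a commutator inside `E` centralises it. -/
theorem comm_mem_cent {r e : S} (hr : r * r = 1) (he : e ∈ C.E) :
    ⁅e, r⁆ ∈ C.E ⊓ centralizer ({r} : Set S) := by
  have hr' : r⁻¹ = r := inv_eq_of_mul_eq_one_right hr
  have hE : ⁅e, r⁆ ∈ C.E := by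
    rw [show ⁅e, r⁆ = e * (r * e⁻¹ * r⁻¹) by simp [commutatorElement_def, mul_assoc]]
    exact mul_mem he (C.hEn.conj_mem _ (inv_mem he) r)
  refine ⟨hE, mem_centralizer_singleton_iff.2 ?_⟩
  have h1 : r * ⁅e, r⁆ * r⁻¹ = ⁅e, r⁆⁻¹ := by
    rw [commutatorElement_inv, commutatorElement_def, commutatorElement_def]
    simp only [hr', mul_assoc, hr, mul_one]
  rw [C.E_inv hE, mul_inv_eq_iff_eq_mul] at h1
  exact h1.symm

theorem V_le : C.V ≤ C.E := inf_le_left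

theorem mem_V {v : S} : v ∈ C.V ↔ v ∈ C.E ∧ Commute v C.t := by
  rw [V, Subgroup.mem_inf, mem_centralizer_singleton_iff]; rfl

theorem card_V_le : Nat.card C.V ≤ 4 := C.card_cent_le C.t_ne C.hta

theorem card_E_le_sq : Nat.card C.E ≤ Nat.card C.V * Nat.card C.V := by
  let f : ↥C.E →* ↥C.V := MonoidHom.mk' (fun e => ⟨⁅(e : S), C.t⁆, C.comm_mem_cent C.t_sq e.2⟩)
    fun e e' => Subtype.ext <| by
      have hmem : ⁅(e' : S), C.t⁆ ∈ C.E := (C.comm_mem_cent C.t_sq e'.2).1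
      show ⁅(e : S) * (e' : S), C.t⁆ = ⁅(e : S), C.t⁆ * ⁅(e' : S), C.t⁆
      rw [comm_mul_left, C.hEc _ e.2 _ hmem, mul_inv_cancel_right,
        C.hEc _ hmem _ (C.comm_mem_cent C.t_sq e.2).1]
  rw [← f.ker.card_mul_index, Subgroup.index_ker]
  refine Nat.mul_le_mul ?_ (Subgroup.card_le_card_group _)
  refine Nat.card_le_card_of_injective (fun x => ⟨((x : ↥C.E) : S), C.mem_V.2 ⟨x.1.2, ?_⟩⟩) ?_
  · exact commutatorElement_eq_one_iff_commute.1 (congrArg Subtype.val (MonoidHom.mem_ker.1 x.2))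
  · intro x y hxy
    exact Subtype.ext (Subtype.ext (congrArg (fun z : ↥C.V => (z : S)) hxy))

theorem card_V : Nat.card C.V = 4 := by
  haveI : Fact (Nat.Prime 2) := ⟨Nat.prime_two⟩
  obtain ⟨n, hn⟩ := PGroups.card_subgroup_eq_pow C.h.pGroup C.V
  have h1 := C.card_V_le
  have h2 := C.card_E_le_sq
  have h3 := C.hE8
  rw [hn] at h1 h2 ⊢
  have : n ≤ 2 := (Nat.pow_le_pow_iff_right one_lt_two).1 h1
  interval_cases n <;> omega

theorem card_E_le : Nat.card C.E ≤ 16 := by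
  simpa [C.card_V] using C.card_E_le_sq

theorem exists_not_mem_V : ∃ x ∈ C.E, x ∉ C.V := by
  by_contra! hc
  have h1 := Subgroup.card_le_of_le (H := C.E) (K := C.V) hc
  have h2 := C.hE8
  rw [C.card_V] at h1
  omega

theorem V_sq {v : S} (hv : v ∈ C.V) : v * v = 1 := C.hE2 v hv.1

theorem V_inv {v : S} (hv : v ∈ C.V) : v⁻¹ = v := C.E_inv hv.1

/-- `V` permutes the fixed points of the involution regularly. -/
theorem exists_V_smul {ω : Ω} (hω : C.t • ω = ω) : ∃ v ∈ C.V, v • C.a = ω := by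
  have hD : (fixedBy Ω C.t).ncard = 4 := C.h.invFour C.t C.ht ⟨C.a, C.hta⟩
  let f : ↥C.V → fixedBy Ω C.t := fun v => ⟨(v : S) • C.a, by
    show C.t • (v : S) • C.a = (v : S) • C.a
    rw [← mul_smul, ← (C.mem_V.1 v.2).2.eq, mul_smul, C.hta]⟩
  have hinj : Function.Injective f := fun v v' hvv => by
    have h1 : (v : S) • C.a = (v' : S) • C.a := congrArg Subtype.val hvv
    have h2 : ((v' : S)⁻¹ * v) • C.a = C.a := by rw [mul_smul, h1, inv_smul_smul]
    exact Subtype.ext (inv_mul_eq_one.1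
      (C.hfree _ (C.V_le (mul_mem (inv_mem v'.2) v.2)) C.a h2)).symm
  have hbij := hinj.bijective_of_nat_card_le (by
    rw [Nat.card_coe_set_eq, hD, C.card_V])
  obtain ⟨v, hv⟩ := hbij.2 ⟨ω, hω⟩
  exact ⟨v, v.2, congrArg Subtype.val hv⟩

theorem mem_W {w : S} : w ∈ C.W ↔ ∀ v ∈ C.V, Commute v w :=
  Subgroup.mem_centralizer_iff

theorem mem_R {r : S} : r ∈ C.R ↔ Commute r C.t ∧ r ∈ C.W ∧ r • C.a = C.a := by
  rw [R, Subgroup.mem_inf, Subgroup.mem_inf, mem_centralizer_singleton_iff, mem_stabilizer_iff,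
    and_assoc]; rfl

theorem V_le_W : C.V ≤ C.W := fun v hv => C.mem_W.2 fun v' hv' => C.hEc _ hv'.1 _ hv.1

theorem t_mem_W : C.t ∈ C.W := C.mem_W.2 fun _ hv => (C.mem_V.1 hv).2

theorem t_mem_R : C.t ∈ C.R := C.mem_R.2 ⟨Commute.refl _, C.t_mem_W, C.hta⟩

theorem fix_R {r : S} (hr : r ∈ C.R) {ω : Ω} (hω : C.t • ω = ω) : r • ω = ω := by
  obtain ⟨v, hv, rfl⟩ := C.exists_V_smul hω
  rw [← mul_smul, ← (C.mem_W.1 (C.mem_R.1 hr).2.1 v hv).eq, mul_smul, (C.mem_R.1 hr).2.2]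

theorem cent_E_R {r e : S} (hr : r ∈ C.R) (hr1 : r ≠ 1) (he : e ∈ C.E) (hc : Commute e r) :
    e ∈ C.V := by
  have hle : C.V ≤ C.E ⊓ centralizer ({r} : Set S) := fun v hv =>
    ⟨hv.1, mem_centralizer_singleton_iff.2 (C.mem_W.1 (C.mem_R.1 hr).2.1 v hv)⟩
  have heq := Subgroup.eq_of_le_of_card_ge hle
    ((C.card_cent_le hr1 (C.mem_R.1 hr).2.2).trans C.card_V.ge)
  rw [heq]; exact ⟨he, mem_centralizer_singleton_iff.2 hc⟩

theorem mem_Y {y : S} : y ∈ C.Y ↔ ∀ e ∈ C.E, Commute e y :=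
  Subgroup.mem_centralizer_iff

theorem E_le_Y : C.E ≤ C.Y := fun x hx => C.mem_Y.2 fun e he => C.hEc _ he _ hx

theorem Y_le_W : C.Y ≤ C.W := Subgroup.centralizer_le C.V_le

theorem Y_normal : C.Y.Normal := by
  haveI := C.hEn
  exact Subgroup.normal_centralizer

theorem free_Y {y : S} (hy : y ∈ C.Y) {ω : Ω} (hω : y • ω = ω) : y = 1 := by
  by_contra h1
  have hle : C.E ≤ C.E ⊓ centralizer ({y} : Set S) := fun e he =>
    ⟨he, mem_centralizer_singleton_iff.2 (C.mem_Y.1 hy e he)⟩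
  have h2 := (Subgroup.card_le_of_le hle).trans (C.card_cent_le h1 hω)
  have h3 := C.hE8
  omega

theorem Y_inf_R {g : S} (hy : g ∈ C.Y) (hr : g ∈ C.R) : g = 1 :=
  C.free_Y hy (C.mem_R.1 hr).2.2

theorem nilpotent (C : Cfg S Ω) : Group.IsNilpotent S := by
  haveI : Fact (Nat.Prime 2) := ⟨Nat.prime_two⟩
  exact C.h.pGroup.isNilpotent

/-- An element of `E` outside `V` with all commutators in `V`. -/
theorem exists_x0 : ∃ x ∈ C.E, x ∉ C.V ∧ ∀ s : S, ⁅x, s⁆ ∈ C.V := by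
  haveI := C.hEn
  haveI := C.nilpotent
  exact exists_step C.E (· ∈ C.V) (one_mem _) C.exists_not_mem_V

theorem R_sq {r : S} (hr : r ∈ C.R) : r * r = 1 := by
  obtain ⟨x, hx, hxV, hcom⟩ := C.exists_x0
  by_contra h1
  refine hxV (C.cent_E_R (mul_mem hr hr) h1 hx (commutatorElement_eq_one_iff_commute.1 ?_))
  rw [comm_mul_right, ← (C.mem_W.1 (C.mem_R.1 hr).2.1 _ (hcom r)).eq, mul_inv_cancel_right]
  exact C.V_sq (hcom r)

theorem R_inv {r : S} (hr : r ∈ C.R) : r⁻¹ = r := inv_eq_of_mul_eq_one_right (C.R_sq hr)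

theorem R_comm {r s : S} (hr : r ∈ C.R) (hs : s ∈ C.R) : Commute r s := by
  have h1 := C.R_inv (mul_mem hr hs)
  rw [mul_inv_rev, C.R_inv hr, C.R_inv hs] at h1
  exact h1.symm

theorem fix_R_iff {r : S} (hr : r ∈ C.R) (hr1 : r ≠ 1) {ω : Ω} (hω : r • ω = ω) :
    C.t • ω = ω := by
  have hD : (fixedBy Ω C.t).ncard = 4 := C.h.invFour C.t C.ht ⟨C.a, C.hta⟩
  have hsub : fixedBy Ω C.t ⊆ fixedBy Ω r := fun x hx => C.fix_R hr hx
  have heq := Set.eq_of_subset_of_ncard_le hsub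
    ((C.h.fix_le r hr1).trans hD.ge) (Set.toFinite (fixedBy Ω r))
  exact (Set.ext_iff.1 heq ω).2 hω

theorem cent_Y_R {y r : S} (hy : y ∈ C.Y) (hr : r ∈ C.R) (hr1 : r ≠ 1) (hc : Commute y r) :
    y ∈ C.V := by
  have hω : r • y • C.a = y • C.a := by
    rw [← mul_smul, ← hc.eq, mul_smul, (C.mem_R.1 hr).2.2]
  obtain ⟨v, hv, hva⟩ := C.exists_V_smul (C.fix_R_iff hr hr1 hω)
  have h1 : (v⁻¹ * y) • C.a = C.a := by rw [mul_smul, ← hva, inv_smul_smul]
  have h2 := C.free_Y (mul_mem (inv_mem (C.E_le_Y (C.V_le hv))) hy) h1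
  rwa [← inv_mul_eq_one.1 h2]

theorem comm_E_R {e r : S} (he : e ∈ C.E) (hr : r ∈ C.R) : ⁅e, r⁆ ∈ C.V := by
  rcases eq_or_ne r 1 with rfl | hr1
  · simp
  have h1 := C.comm_mem_cent (C.R_sq hr) he
  exact C.cent_E_R hr hr1 h1.1 (mem_centralizer_singleton_iff.1 h1.2)

/-- `r ↦ ⁅x, r⁆` is injective on `R` for an element outside `V` with values in `V`. -/
theorem comm_inj {y r s : S} (hy : y ∈ C.Y) (hyV : y ∉ C.V) (hr : r ∈ C.R) (hs : s ∈ C.R)
    (hV : ⁅y, r⁆ ∈ C.V) (h : ⁅y, r⁆ = ⁅y, s⁆) : r = s := by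
  by_contra hne
  have h1 : r * s ≠ 1 := fun h1 => hne (by rw [mul_eq_one_iff_eq_inv.1 h1, C.R_inv hs])
  refine hyV (C.cent_Y_R hy (mul_mem hr hs) h1 (commutatorElement_eq_one_iff_commute.1 ?_))
  rw [comm_mul_right, ← h, ← (C.mem_W.1 (C.mem_R.1 hr).2.1 _ hV).eq, mul_inv_cancel_right]
  exact C.V_sq hV

theorem card_R_le : Nat.card C.R ≤ 4 := by
  obtain ⟨x, hx, hxV, hcom⟩ := C.exists_x0
  rw [← C.card_V]
  exact Nat.card_le_card_of_injective (fun r : ↥C.R => (⟨⁅x, (r : S)⁆, hcom _⟩ : ↥C.V))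
    fun r s h => Subtype.ext
      (C.comm_inj (C.E_le_Y hx) hxV r.2 s.2 (hcom _) (congrArg Subtype.val h))

/-- Elements centralising the involution and `V` are products from `V` and `R`. -/
theorem exists_V_mul_R {g : S} (hgt : Commute g C.t) (hgW : g ∈ C.W) :
    ∃ v ∈ C.V, ∃ r ∈ C.R, g = v * r := by
  have hω : C.t • g • C.a = g • C.a := by rw [← mul_smul, ← hgt.eq, mul_smul, C.hta]
  obtain ⟨v, hv, hva⟩ := C.exists_V_smul hω
  refine ⟨v, hv, v⁻¹ * g, C.mem_R.2 ⟨?_, mul_mem (inv_mem (C.V_le_W hv)) hgW, ?_⟩, by group⟩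
  · exact ((C.mem_V.1 hv).2.inv_left).mul_left hgt
  · rw [mul_smul, ← hva, inv_smul_smul]

/-- The centraliser of the involution in `W`. -/
theorem card_cent_t : Nat.card ↥(C.W ⊓ centralizer ({C.t} : Set S)) = 4 * Nat.card C.R := by
  rw [← C.card_V, ← Nat.card_prod]
  refine (Nat.card_congr (Equiv.ofBijective (fun p : ↥C.V × ↥C.R =>
    (⟨(p.1 : S) * p.2, mul_mem (C.V_le_W p.1.2) (C.mem_R.1 p.2.2).2.1,
      mem_centralizer_singleton_iff.2
        ((C.mem_V.1 p.1.2).2.mul_left (C.mem_R.1 p.2.2).1)⟩ :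
        ↥(C.W ⊓ centralizer ({C.t} : Set S)))) ⟨fun p q hpq => ?_, fun g => ?_⟩)).symm
  · have h1 : (p.1 : S) * p.2 = q.1 * q.2 := congrArg Subtype.val hpq
    have h2 : ((q.1 : S))⁻¹ * p.1 = q.2 * ((p.2 : S))⁻¹ := by
      rw [eq_mul_inv_iff_mul_eq, mul_assoc, h1, inv_mul_cancel_left]
    have h3 := C.Y_inf_R (C.E_le_Y (C.V_le (mul_mem (inv_mem q.1.2) p.1.2)))
      (h2 ▸ mul_mem q.2.2 (inv_mem p.2.2))
    refine Prod.ext (Subtype.ext (inv_mul_eq_one.1 h3).symm) (Subtype.ext ?_)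
    rw [h3] at h2
    exact (mul_inv_eq_one.1 h2.symm).symm
  · obtain ⟨v, hv, r, hr, hg⟩ :=
      C.exists_V_mul_R (mem_centralizer_singleton_iff.1 g.2.2) g.2.1
    exact ⟨(⟨v, hv⟩, ⟨r, hr⟩), Subtype.ext hg.symm⟩

end Cfg

end CfsgLib.FixityFour.Free
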