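import Cfsg.Agent.Lib.FixityFour.FreeY

/-!
# Fixity four, free case: the centraliser of the four subgroup is `Y R`
-/

set_option autoImplicit false
set_option linter.unusedSectionVars false

namespace CfsgLib.FixityFour.Free

open Subgroup MulAction
open scoped commutatorElement

variable {S Ω : Type*} [Group S] [Finite S] [MulAction S Ω] [Finite Ω]

namespace Cfg

variable (C : Cfg S Ω)

theorem exists_third (hR4 : Nat.card C.R = 4) : ∀ r ∈ C.R, ∃ s ∈ C.R, s ≠ 1 ∧ s ≠ r := by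
  intro r _
  by_contra! hc
  have hsub : (C.R : Set S) ⊆ {1, r} := fun s hs => by
    rcases eq_or_ne s 1 with h | h
    · exact Or.inl h
    · exact Or.inr (hc s hs h)
  have h1 := PGroups.Harada.card_sub_le hsub ((Set.ncard_insert_le _ _).trans
    (by rw [Set.ncard_singleton]))
  omega

theorem Y_le_X (hR4 : Nat.card C.R = 4) : C.Y ≤ C.X := by
  haveI := C.Y_normal
  haveI := C.nilpotent
  intro y hy
  by_contra hne
  obtain ⟨x, hx, hxX, hcom⟩ := exists_step C.Y (· ∈ C.X) (one_mem _) ⟨y, hy, hne⟩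
  exact hxX ⟨hx, C.comm_mem_V (C.exists_third hR4) fun r _ => hcom r⟩

theorem card_Y (hR4 : Nat.card C.R = 4) : Nat.card C.Y = 8 ∨ Nat.card C.Y = 16 := by
  haveI : Fact (Nat.Prime 2) := ⟨Nat.prime_two⟩
  obtain ⟨n, hn⟩ := PGroups.card_subgroup_eq_pow C.h.pGroup C.Y
  have h1 := (Subgroup.card_le_of_le (C.Y_le_X hR4)).trans C.card_X_le
  have h2 := C.hE8.trans (Subgroup.card_le_of_le C.E_le_Y)
  rw [hn] at h1 h2 ⊢
  have : n ≤ 4 := (Nat.pow_le_pow_iff_right one_lt_two).1 (h1.trans_eq (by norm_num))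
  interval_cases n <;> omega

theorem Y_eq_E (hR4 : Nat.card C.R = 4) (hE : Nat.card C.E = Nat.card C.Y) : C.Y = C.E :=
  (Subgroup.eq_of_le_of_card_ge C.E_le_Y hE.ge).symm

/-- Every element of `E` is in `V` or in the coset of a given outside element, in order eight. -/
theorem mul_mem_V (hE : Nat.card C.E = 8) {x y : S} (hx : x ∈ C.E) (hy : y ∈ C.E)
    (hxV : x ∉ C.V) (hyV : y ∉ C.V) : x * y ∈ C.V := by
  have h1 := (C.V.subgroupOf C.E).card_mul_index
  rw [Nat.card_congr (Subgroup.subgroupOfEquivOfLe C.V_le).toEquiv, C.card_V, hE] at h1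
  have hidx : (C.V.subgroupOf C.E).index = 2 := by omega
  have := (Subgroup.mul_mem_iff_of_index_two hidx (a := ⟨x, hx⟩) (b := ⟨y, hy⟩))
  simp only [Subgroup.mem_subgroupOf] at this
  exact this.2 (iff_of_false hxV hyV)

/-- The product of a `V`-element and a commutator from `W` behaves additively. -/
theorem W_comm_mul {w : S} (hw : w ∈ C.W) {e v : S} (hv : v ∈ C.V) :
    ⁅e * v, w⁆ = ⁅e, w⁆ := by
  rw [comm_mul_left, commutatorElement_eq_one_iff_commute.2 (C.mem_W.1 hw v hv), mul_one,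
    mul_inv_cancel, one_mul]

theorem E_comm_left {e f r : S} (he : e ∈ C.E) (hf : f ∈ C.E) (hr : r ∈ C.R) :
    ⁅e * f, r⁆ = ⁅e, r⁆ * ⁅f, r⁆ := by
  have h1 := C.V_le (C.comm_E_R hf hr)
  rw [comm_mul_left, C.hEc _ he _ h1, mul_inv_cancel_right,
    C.hEc _ h1 _ (C.V_le (C.comm_E_R he hr))]

/-- Conjugation by the centraliser of `V` acts on `E` trivially modulo `V`. -/
theorem card_W0_le (W0 : Subgroup S) (hW0 : W0 ≤ C.W) (hW0E : ∀ w ∈ W0, ∀ e ∈ C.E, ⁅e, w⁆ ∈ C.V)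
    (hYE : C.Y = C.E) : Nat.card W0 ≤ 16 * Nat.card C.R := by
  have hconj : ∀ w ∈ W0, ⁅w, C.t⁆ ∈ C.V := by
    intro w hw
    have key : ∀ e ∈ C.E, ⁅e, w * C.t * w⁻¹⁆ = ⁅e, C.t⁆ := by
      intro e he
      have h1 : w⁻¹ * e * w = e * ⁅e⁻¹, w⁻¹⁆ := by simp only [commutatorElement_def]; group
      have hv : ⁅e⁻¹, w⁻¹⁆ ∈ C.V := hW0E _ (inv_mem hw) _ (inv_mem he)
      rw [show ⁅e, w * C.t * w⁻¹⁆ = w * ⁅w⁻¹ * e * w, C.t⁆ * w⁻¹ by
          simp only [commutatorElement_def]; group,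
        h1, C.W_comm_mul C.t_mem_W hv,
        ← (C.mem_W.1 (hW0 hw) _ (C.comm_E_R he C.t_mem_R)).eq, mul_inv_cancel_right]
    set u := w * C.t * w⁻¹ with hu
    have hcE : u * C.t ∈ C.E := by
      rw [← hYE]
      refine C.mem_Y.2 fun e he => commutatorElement_eq_one_iff_commute.1 ?_
      have hv := C.comm_E_R he C.t_mem_R
      have huW : u ∈ C.W :=
        mul_mem (mul_mem (hW0 hw) C.t_mem_W) (inv_mem (hW0 hw))
      rw [comm_mul_right, key e he, ← (C.mem_W.1 huW _ hv).eq, mul_inv_cancel_right]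
      exact C.V_sq hv
    have hu2 : u * u = 1 := by
      rw [hu, show w * C.t * w⁻¹ * (w * C.t * w⁻¹) = w * (C.t * C.t) * w⁻¹ by group, C.t_sq]
      group
    have hcc : Commute (u * C.t) C.t := by
      have h2 := C.hE2 _ hcE
      rw [show u * C.t * (u * C.t) = u * (C.t * u * C.t) by group] at h2
      have h3 : C.t * u * C.t = u := by
        rw [← mul_left_cancel_iff (a := u), h2, hu2]
      show u * C.t * C.t = C.t * (u * C.t)
      rw [mul_assoc, C.t_sq, mul_one, ← mul_assoc, h3]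
    have hut : u * C.t ∈ C.V := C.mem_V.2 ⟨hcE, hcc⟩
    have h4 : ⁅w, C.t⁆ = u * C.t := by rw [hu, commutatorElement_def, C.t_inv]
    exact h4 ▸ hut
  let f : ↥W0 →* ↥C.V := MonoidHom.mk' (fun w => ⟨⁅(w : S), C.t⁆, hconj _ w.2⟩)
    fun w w' => Subtype.ext <| by
      show ⁅(w : S) * (w' : S), C.t⁆ = ⁅(w : S), C.t⁆ * ⁅(w' : S), C.t⁆
      rw [comm_mul_left, ← (C.mem_W.1 (hW0 w.2) _ (hconj _ w'.2)).eq, mul_inv_cancel_right,
        C.hEc _ (C.V_le (hconj _ w'.2)) _ (C.V_le (hconj _ w.2))]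
  rw [← f.ker.card_mul_index, Subgroup.index_ker]
  refine (Nat.mul_le_mul (?_ : Nat.card f.ker ≤ 4 * Nat.card C.R)
    ((Subgroup.card_le_card_group f.range).trans C.card_V.le)).trans (by omega)
  rw [← C.card_cent_t]
  refine Nat.card_le_card_of_injective
    (fun x => (⟨((x : ↥W0) : S), hW0 x.1.2, ?_⟩ : ↥(C.W ⊓ centralizer ({C.t} : Set S)))) ?_
  · exact mem_centralizer_singleton_iff.2
      (commutatorElement_eq_one_iff_commute.1 (congrArg Subtype.val (MonoidHom.mem_ker.1 x.2)))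
  · intro x y hxy
    exact Subtype.ext (Subtype.ext
      (congrArg (fun z : ↥(C.W ⊓ centralizer ({C.t} : Set S)) => (z : S)) hxy))

/-- The elements of `W` acting trivially on `E` modulo `V`. -/
def W0 : Subgroup S where
  carrier := {w | w ∈ C.W ∧ ∀ e ∈ C.E, ⁅e, w⁆ ∈ C.V}
  one_mem' := ⟨one_mem _, fun e _ => by simp⟩
  mul_mem' {w w'} hw hw' := ⟨mul_mem hw.1 hw'.1, fun e he => by
    rw [comm_mul_right, ← (C.mem_W.1 hw.1 _ (hw'.2 e he)).eq, mul_inv_cancel_right]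
    exact mul_mem (hw.2 e he) (hw'.2 e he)⟩
  inv_mem' {w} hw := ⟨inv_mem hw.1, fun e he => by
    rw [show ⁅e, w⁻¹⁆ = w⁻¹ * ⁅e, w⁆⁻¹ * w by simp only [commutatorElement_def]; group,
      mul_assoc, (C.mem_W.1 hw.1 _ (inv_mem (hw.2 e he))).eq, inv_mul_cancel_left]
    exact inv_mem (hw.2 e he)⟩

theorem R_le_W0 : C.R ≤ C.W0 := fun _ hr => ⟨(C.mem_R.1 hr).2.1, fun _ he => C.comm_E_R he hr⟩

theorem Y_le_W0 : C.Y ≤ C.W0 := fun y hy => ⟨C.Y_le_W hy, fun e he => by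
  rw [commutatorElement_eq_one_iff_commute.2 (C.mem_Y.1 hy e he)]; exact one_mem _⟩

theorem card_prod_le {T : Subgroup S} (hY : C.Y ≤ T) (hR : C.R ≤ T) :
    Function.Injective (fun p : ↥C.Y × ↥C.R =>
      (⟨(p.1 : S) * p.2, mul_mem (hY p.1.2) (hR p.2.2)⟩ : ↥T)) := by
  intro p q hpq
  have h1 : (p.1 : S) * p.2 = q.1 * q.2 := congrArg Subtype.val hpq
  have h2 : ((q.1 : S))⁻¹ * p.1 = q.2 * ((p.2 : S))⁻¹ := by
    rw [eq_mul_inv_iff_mul_eq, mul_assoc, h1, inv_mul_cancel_left]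
  have h3 := C.Y_inf_R (mul_mem (inv_mem q.1.2) p.1.2) (h2 ▸ mul_mem q.2.2 (inv_mem p.2.2))
  refine Prod.ext (Subtype.ext (inv_mul_eq_one.1 h3).symm) (Subtype.ext ?_)
  rw [h3] at h2
  exact (mul_inv_eq_one.1 h2.symm).symm

theorem exists_decomp {T : Subgroup S} (hY : C.Y ≤ T) (hR : C.R ≤ T)
    (hc : Nat.card T ≤ Nat.card C.Y * Nat.card C.R) :
    Nat.card T = Nat.card C.Y * Nat.card C.R ∧ ∀ w ∈ T, ∃ y ∈ C.Y, ∃ r ∈ C.R, w = y * r := by
  have hinj := C.card_prod_le hY hR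
  have hbij := hinj.bijective_of_nat_card_le (by rwa [Nat.card_prod])
  refine ⟨?_, fun w hw => ?_⟩
  · rw [← Nat.card_prod]; exact (Nat.card_eq_of_bijective _ hbij).symm
  · obtain ⟨⟨y, r⟩, hyr⟩ := hbij.2 ⟨w, hw⟩
    exact ⟨y, y.2, r, r.2, (congrArg Subtype.val hyr).symm⟩

theorem W_decomp (hR4 : Nat.card C.R = 4) :
    Nat.card C.W = Nat.card C.Y * 4 ∧ ∀ w ∈ C.W, ∃ y ∈ C.Y, ∃ r ∈ C.R, w = y * r := by
  rw [← hR4]
  obtain ⟨x0, hx0, hx0V, hcom⟩ := C.exists_x0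
  refine C.exists_decomp C.Y_le_W (fun r hr => (C.mem_R.1 hr).2.1) ?_
  haveI : Fact (Nat.Prime 2) := ⟨Nat.prime_two⟩
  obtain ⟨n, hn⟩ := PGroups.card_subgroup_eq_pow C.h.pGroup C.E
  have hle := C.card_E_le
  have h8 := C.hE8
  have hn4 : n ≤ 4 := (Nat.pow_le_pow_iff_right one_lt_two).1
    ((hn ▸ hle).trans_eq (by norm_num))
  have hcase : Nat.card C.E = 8 ∨ Nat.card C.E = 16 := by
    interval_cases n <;> simp_all
  rcases hcase with hE | hE
  · let f : ↥C.W →* ↥C.V := MonoidHom.mk' (fun w => ⟨⁅x0, (w : S)⁆, hcom _⟩)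
      fun w w' => Subtype.ext <| by
        show ⁅x0, (w : S) * (w' : S)⁆ = ⁅x0, (w : S)⁆ * ⁅x0, (w' : S)⁆
        rw [comm_mul_right, ← (C.mem_W.1 w.2 _ (hcom _)).eq, mul_inv_cancel_right]
    rw [← f.ker.card_mul_index, Subgroup.index_ker]
    refine Nat.mul_le_mul ?_ ((Subgroup.card_le_card_group f.range).trans (by rw [C.card_V, hR4]))
    refine Nat.card_le_card_of_injective (fun x => (⟨((x : ↥C.W) : S), ?_⟩ : ↥C.Y)) ?_
    · have hx : Commute x0 ((x : ↥C.W) : S) :=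
        commutatorElement_eq_one_iff_commute.1 (congrArg Subtype.val (MonoidHom.mem_ker.1 x.2))
      refine C.mem_Y.2 fun e he => ?_
      by_cases heV : e ∈ C.V
      · exact C.mem_W.1 x.1.2 e heV
      · have h1 := C.mul_mem_V hE he hx0 heV hx0V
        have := (C.mem_W.1 x.1.2 _ h1).mul_left hx.inv_left
        rwa [mul_inv_cancel_right] at this
    · intro x y hxy
      exact Subtype.ext (Subtype.ext (congrArg (fun z : ↥C.Y => (z : S)) hxy))
  · have hYE : C.Y = C.E := C.Y_eq_E hR4 (by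
      rcases C.card_Y hR4 with h | h
      · have := Subgroup.card_le_of_le C.E_le_Y; omega
      · omega)
    have h0 : Nat.card C.W0 ≤ Nat.card C.Y * Nat.card C.R := by
      rw [hYE, hE]
      exact C.card_W0_le C.W0 (fun w hw => hw.1) (fun w hw => hw.2) hYE
    obtain ⟨hc, hdec⟩ := C.exists_decomp C.Y_le_W0 C.R_le_W0 h0
    suffices hle : C.W ≤ C.W0 from (Subgroup.card_le_of_le hle).trans h0
    intro w hw
    refine ⟨hw, fun e he => ?_⟩
    have hconjE : ∀ f ∈ C.E, w * f * w⁻¹ ∈ C.E := fun f hf => C.hEn.conj_mem f hf w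
    -- `u` is a conjugate of `t` acting trivially modulo `V`
    have hu : w * C.t * w⁻¹ ∈ C.W0 := by
      refine ⟨mul_mem (mul_mem hw C.t_mem_W) (inv_mem hw), fun f hf => ?_⟩
      have hf' : w⁻¹ * f * w ∈ C.E := by simpa using C.hEn.conj_mem f hf w⁻¹
      have hv := C.comm_E_R hf' C.t_mem_R
      rw [show ⁅f, w * C.t * w⁻¹⁆ = w * ⁅w⁻¹ * f * w, C.t⁆ * w⁻¹ by
          simp only [commutatorElement_def]; group,
        ← (C.mem_W.1 hw _ hv).eq, mul_inv_cancel_right]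
      exact hv
    obtain ⟨y, hy, s, hs, hys⟩ := hdec _ hu
    have hact : ∀ f ∈ C.E, ⁅w * f * w⁻¹, s⁆ = ⁅f, C.t⁆ := by
      intro f hf
      have hv := C.comm_E_R hf C.t_mem_R
      have h1 : ⁅w * f * w⁻¹, w * C.t * w⁻¹⁆ = ⁅f, C.t⁆ := by
        rw [show ⁅w * f * w⁻¹, w * C.t * w⁻¹⁆ = w * ⁅f, C.t⁆ * w⁻¹ by
            simp only [commutatorElement_def]; group,
          ← (C.mem_W.1 hw _ hv).eq, mul_inv_cancel_right]
      have hcy := C.mem_Y.1 hy _ (hconjE f hf)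
      rw [hys, comm_mul_right, commutatorElement_eq_one_iff_commute.2 hcy, one_mul] at h1
      rw [← C.mem_Y.1 hy _ (C.V_le (C.comm_E_R (hconjE f hf) hs)) |>.eq,
        mul_inv_cancel_right] at h1
      exact h1
    have hst : s = C.t := by
      have h1 := hact x0 hx0
      have h2 : w * x0 * w⁻¹ = x0 * ⁅x0⁻¹, w⁆ := by simp only [commutatorElement_def]; group
      have h3 : ⁅x0⁻¹, w⁆ ∈ C.V := by
        rw [C.E_inv hx0]; exact hcom w
      rw [h2, C.W_comm_mul (C.mem_R.1 hs).2.1 h3] at h1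
      exact C.comm_inj (C.E_le_Y hx0) hx0V hs C.t_mem_R (hcom _) h1
    have h1 := hact e he
    rw [hst] at h1
    have hwe := hconjE e he
    have h2 : e⁻¹ * (w * e * w⁻¹) ∈ C.V := by
      refine C.mem_V.2 ⟨mul_mem (inv_mem he) hwe, commutatorElement_eq_one_iff_commute.1 ?_⟩
      rw [C.E_comm_left (inv_mem he) hwe C.t_mem_R, h1, C.E_inv he]
      exact C.V_sq (C.comm_E_R he C.t_mem_R)
    have h3 : ⁅e, w⁆ = e⁻¹ * (w * e * w⁻¹) := by
      rw [commutatorElement_def, C.E_inv he,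
        show w * e * w⁻¹ = w * e⁻¹ * w⁻¹ by rw [C.E_inv he]]
      rw [C.E_inv he]; simp only [mul_assoc]
    exact h3 ▸ h2

end Cfg

end CfsgLib.FixityFour.Free
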