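import Cfsg.Agent.Lib.FixityFour.FreeSetup

/-!
# Fixity four, free case: the centralisers of the free group and of its four subgroup
-/

set_option autoImplicit false
set_option linter.unusedSectionVars false

namespace CfsgLib.FixityFour.Free

open Subgroup MulAction
open scoped commutatorElement

variable {S Ω : Type*} [Group S] [Finite S] [MulAction S Ω] [Finite Ω]

namespace Cfg

variable (C : Cfg S Ω)

theorem V_comm_Y {v y : S} (hv : v ∈ C.V) (hy : y ∈ C.Y) : Commute v y := C.mem_Y.1 hy v hv.1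

/-- The elements of `Y` whose commutators with `R` lie in `V`. -/
def X : Subgroup S where
  carrier := {y | y ∈ C.Y ∧ ∀ r ∈ C.R, ⁅y, r⁆ ∈ C.V}
  one_mem' := ⟨one_mem _, fun r _ => by simp⟩
  mul_mem' {y y'} hy hy' := ⟨mul_mem hy.1 hy'.1, fun r hr => by
    rw [comm_mul_left, ← (C.V_comm_Y (hy'.2 r hr) hy.1).eq, mul_inv_cancel_right]
    exact mul_mem (hy'.2 r hr) (hy.2 r hr)⟩
  inv_mem' {y} hy := ⟨inv_mem hy.1, fun r hr => by
    rw [show ⁅y⁻¹, r⁆ = y⁻¹ * ⁅y, r⁆⁻¹ * y by simp only [commutatorElement_def]; group,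
      mul_assoc, (C.V_comm_Y (inv_mem (hy.2 r hr)) hy.1).eq, inv_mul_cancel_left]
    exact inv_mem (hy.2 r hr)⟩

theorem X_le_Y : C.X ≤ C.Y := fun _ hy => hy.1

theorem E_le_X : C.E ≤ C.X := fun _ he => ⟨C.E_le_Y he, fun _ hr => C.comm_E_R he hr⟩

theorem card_X_le : Nat.card C.X ≤ 16 := by
  let f : ↥C.X →* ↥C.V := MonoidHom.mk' (fun y => ⟨⁅(y : S), C.t⁆, y.2.2 _ C.t_mem_R⟩)
    fun y y' => Subtype.ext <| by
      show ⁅(y : S) * (y' : S), C.t⁆ = ⁅(y : S), C.t⁆ * ⁅(y' : S), C.t⁆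
      rw [comm_mul_left, ← (C.V_comm_Y (y'.2.2 _ C.t_mem_R) y.2.1).eq, mul_inv_cancel_right,
        (C.V_comm_Y (y'.2.2 _ C.t_mem_R) (C.E_le_Y (C.V_le (y.2.2 _ C.t_mem_R)))).eq]
  rw [← f.ker.card_mul_index, Subgroup.index_ker]
  refine (Nat.mul_le_mul (?_ : Nat.card f.ker ≤ 4) ((Subgroup.card_le_card_group f.range).trans
    C.card_V.le)).trans (by norm_num)
  rw [← C.card_V]
  refine Nat.card_le_card_of_injective (fun x => (⟨((x : ↥C.X) : S), ?_⟩ : ↥C.V)) ?_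
  · exact C.cent_Y_R x.1.2.1 C.t_mem_R C.t_ne
      (commutatorElement_eq_one_iff_commute.1 (congrArg Subtype.val (MonoidHom.mem_ker.1 x.2)))
  · intro x y hxy
    exact Subtype.ext (Subtype.ext (congrArg (fun z : ↥C.V => (z : S)) hxy))

theorem mul_mem_E {x y : S} (hx : x ∈ C.X) (hy : y ∈ C.X) (hxE : x ∉ C.E) (hyE : y ∉ C.E) :
    x * y ∈ C.E := by
  have hle : Nat.card C.X ≤ 2 * Nat.card C.E :=
    C.card_X_le.trans (by have := C.hE8; omega)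
  have h1 := (C.E.subgroupOf C.X).card_mul_index
  rw [Nat.card_congr (Subgroup.subgroupOfEquivOfLe C.E_le_X).toEquiv] at h1
  have hidx : (C.E.subgroupOf C.X).index = 2 := by
    have h0 : (C.E.subgroupOf C.X).index ≤ 2 :=
      Nat.le_of_mul_le_mul_left (by rw [h1]; linarith) Nat.card_pos
    have h2 : (C.E.subgroupOf C.X).index ≠ 0 := Subgroup.index_ne_zero_of_finite
    have h3 : (C.E.subgroupOf C.X).index ≠ 1 := fun h => hxE
      (Subgroup.mem_subgroupOf.1 (show (⟨x, hx⟩ : C.X) ∈ C.E.subgroupOf C.X by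
        rw [Subgroup.index_eq_one.1 h]; trivial))
    omega
  have := (Subgroup.mul_mem_iff_of_index_two hidx (a := ⟨x, hx⟩) (b := ⟨y, hy⟩))
  simp only [Subgroup.mem_subgroupOf] at this
  exact this.2 (iff_of_false hxE hyE)

theorem X_sq {y : S} (hy : y ∈ C.X) : y * y ∈ C.V := by
  refine C.cent_Y_R (mul_mem hy.1 hy.1) C.t_mem_R C.t_ne
    (commutatorElement_eq_one_iff_commute.1 ?_)
  rw [comm_mul_left, ← (C.V_comm_Y (hy.2 _ C.t_mem_R) hy.1).eq, mul_inv_cancel_right]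
  exact C.V_sq (hy.2 _ C.t_mem_R)

theorem X_comm {x y : S} (hx : x ∈ C.X) (hy : y ∈ C.X) : Commute x y := by
  by_cases hxE : x ∈ C.E
  · exact C.mem_Y.1 hy.1 x hxE
  by_cases hyE : y ∈ C.E
  · exact (C.mem_Y.1 hx.1 y hyE).symm
  have h := C.mul_mem_E hx hy hxE hyE
  have h2 : Commute (x * y) x := C.mem_Y.1 hx.1 _ h
  have h3 : x * (y * x) = x * (x * y) := by simpa [mul_assoc] using h2.eq
  exact (mul_left_cancel h3).symm

theorem X_t_comm {x r : S} (hr : r ∈ C.R) {y : S} (hxy : x = ⁅y, r⁆) :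
    r * x * r⁻¹ = x⁻¹ := by
  rw [hxy, commutatorElement_inv, commutatorElement_def, commutatorElement_def]
  simp only [C.R_inv hr, mul_assoc, C.R_sq hr, mul_one]

/-- A commutator in `X` with an element of `R` lies in `V`. -/
theorem comm_mem_V (hR : ∀ r ∈ C.R, ∃ s ∈ C.R, s ≠ 1 ∧ s ≠ r) {y : S}
    (hy : ∀ r ∈ C.R, ⁅y, r⁆ ∈ C.X) : ∀ r ∈ C.R, ⁅y, r⁆ ∈ C.V := by
  have hq : ∀ r ∈ C.R, ⁅⁅y, r⁆, r⁆ = ⁅y, r⁆ * ⁅y, r⁆ := fun r hr => by
    rw [commutatorElement_def ⁅y, r⁆ r]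
    have h1 := C.X_t_comm hr (y := y) (x := ⁅y, r⁆) rfl
    have h2 : r * ⁅y, r⁆⁻¹ * r⁻¹ = ⁅y, r⁆ := by
      rw [show r * ⁅y, r⁆⁻¹ * r⁻¹ = (r * ⁅y, r⁆ * r⁻¹)⁻¹ by simp [mul_inv_rev, mul_assoc], h1,
        inv_inv]
    rw [mul_assoc, mul_assoc, ← mul_assoc r, h2]
  have hE : ∀ r ∈ C.R, ⁅y, r⁆ ∈ C.E → ⁅y, r⁆ ∈ C.V := fun r hr he => by
    rcases eq_or_ne r 1 with rfl | hr1
    · simp
    refine C.cent_E_R hr hr1 he (commutatorElement_eq_one_iff_commute.1 ?_)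
    rw [hq r hr, C.hE2 _ he]
  intro r hr
  by_contra hrV
  have hrE : ⁅y, r⁆ ∉ C.E := fun he => hrV (hE r hr he)
  -- every other element of `R` has the same commutator modulo `V`
  have key : ∀ s ∈ C.R, ⁅y, s⁆ ∉ C.E → r = s := by
    intro s hs hsE
    by_contra hne
    have hrs : r * s ≠ 1 := fun h => hne (by rw [mul_eq_one_iff_eq_inv.1 h, C.R_inv hs])
    have hv : ⁅⁅y, s⁆, r⁆ ∈ C.V := (hy s hs).2 r hr
    have hconj : r * ⁅y, s⁆ * r⁻¹ = ⁅⁅y, s⁆, r⁆⁻¹ * ⁅y, s⁆ := by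
      simp only [commutatorElement_def]; group
    have h3 : ⁅y, r * s⁆ = ⁅y, r⁆ * ⁅y, s⁆ * ⁅⁅y, s⁆, r⁆⁻¹ := by
      rw [comm_mul_right, hconj, (C.V_comm_Y (inv_mem hv) (hy s hs).1).eq, mul_assoc]
    have h4 : ⁅y, r * s⁆ ∈ C.V := hE _ (mul_mem hr hs) (h3 ▸
      mul_mem (C.mul_mem_E (hy r hr) (hy s hs) hrE hsE) (C.V_le (inv_mem hv)))
    have h5 : ⁅y, r⁆ * ⁅y, s⁆ ∈ C.V := by
      have := mul_mem h4 hv
      rwa [h3, inv_mul_cancel_right] at this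
    -- write `⁅y, s⁆ = ⁅y, r⁆⁻¹ * v`
    obtain ⟨v, hvV, hve⟩ : ∃ v ∈ C.V, ⁅y, s⁆ = ⁅y, r⁆⁻¹ * v := ⟨_, h5, by group⟩
    have hXa : ⁅y, r⁆ ∈ C.X := hy r hr
    have hsq : ⁅y, s⁆ * ⁅y, s⁆ = ⁅y, r⁆ * ⁅y, r⁆ := by
      have hc : Commute v ⁅y, r⁆⁻¹ := C.V_comm_Y hvV (inv_mem hXa.1)
      have ha2 := C.X_sq hXa
      rw [hve, show ⁅y, r⁆⁻¹ * v * (⁅y, r⁆⁻¹ * v) = ⁅y, r⁆⁻¹ * (v * ⁅y, r⁆⁻¹) * v by group,
        hc.eq, show ⁅y, r⁆⁻¹ * (⁅y, r⁆⁻¹ * v) * v = (⁅y, r⁆ * ⁅y, r⁆)⁻¹ * (v * v) by group,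
        C.V_sq hvV, mul_one, C.V_inv ha2]
    have hs' : ⁅⁅y, r⁆, s⁆ = ⁅y, r⁆ * ⁅y, r⁆ := by
      have h6 := hq s hs
      rw [hsq] at h6
      rw [← h6, hve, comm_mul_left]
      have hvs : ⁅v, s⁆ = 1 :=
        commutatorElement_eq_one_iff_commute.2 (C.mem_W.1 (C.mem_R.1 hs).2.1 v hvV)
      rw [hvs, mul_one, mul_inv_cancel, one_mul,
        show ⁅⁅y, r⁆⁻¹, s⁆ = ⁅y, r⁆⁻¹ * ⁅⁅y, r⁆, s⁆⁻¹ * ⁅y, r⁆ by
          simp only [commutatorElement_def]; group]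
      have h7 := hXa.2 s hs
      rw [mul_assoc, (C.V_comm_Y (inv_mem h7) hXa.1).eq, inv_mul_cancel_left, C.V_inv h7]
    refine hrV (C.cent_Y_R hXa.1 (mul_mem hr hs) hrs (commutatorElement_eq_one_iff_commute.1 ?_))
    have ha2 := C.X_sq hXa
    rw [comm_mul_right, hs', hq r hr, ← (C.mem_W.1 (C.mem_R.1 hr).2.1 _ ha2).eq,
      mul_inv_cancel_right]
    exact C.V_sq ha2
  rcases eq_or_ne r 1 with rfl | hr1
  · exact hrV (by simp)
  -- the commutator map cannot have a single value outside `E`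
  obtain ⟨s, hs, hs1, hsr⟩ := hR r hr
  have h1 : ⁅y, s⁆ ∈ C.V := by
    by_contra h
    exact hsr (key s hs fun he => h (hE s hs he)).symm
  have h2 : ⁅y, r * s⁆ ∈ C.E → False := fun he => by
    have h4 := hE _ (mul_mem hr hs) he
    rw [comm_mul_right, ← (C.mem_W.1 (C.mem_R.1 hr).2.1 _ h1).eq, mul_inv_cancel_right] at h4
    exact hrV ((Subgroup.mul_mem_cancel_right C.V h1).1 h4)
  by_cases he : ⁅y, r * s⁆ ∈ C.E
  · exact h2 he
  exact hs1 (by simpa using (key _ (mul_mem hr hs) he).symm)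

end Cfg

end CfsgLib.FixityFour.Free
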