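import Cfsg.Agent.Lib.FixityFour.OddFreeFusion
import Cfsg.Prelude.Def_Transfer
import Mathlib.GroupTheory.Transfer
import Mathlib.GroupTheory.Abelianization.Defs
import Mathlib.GroupTheory.IndexNormal

/-!
# Fixity four, odd point stabilisers: the Sylow three-subgroup when the centre is free

If some element of order three has three fixed points but no central one of a Sylow
three-subgroup does, then that subgroup is extraspecial of order 27 and exponent three.
-/

set_option autoImplicit false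
set_option linter.unusedSectionVars false
set_option linter.style.haveILetI false

namespace CfsgLib.FixityFour.OddFreeAux

open Subgroup MulAction
open scoped Pointwise commutatorElement

variable {G : Type*} [Group G] {Ω : Type*} [MulAction G Ω]

/-- A simple group has no transfer in which all conjugates of an element of order three have
one nontrivial image. -/
theorem transfer_contra [Finite G] (hs : IsSimpleGroup G) (hna : ¬ IsMulCommutative G)
    (H : Subgroup G) (hH : ¬ 3 ∣ H.index) {A : Type*} [CommGroup A] (φ : ↥H →* A) {t : G}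
    (ht : t ^ 3 = 1) {c : A} (hc : c ^ 3 = 1) (hc1 : c ≠ 1)
    (key : ∀ (g : G) (h : g⁻¹ * t * g ∈ H), φ ⟨g⁻¹ * t * g, h⟩ = c) : False := by
  classical
  letI := H.fintypeQuotientOfFiniteIndex
  have hker : (MonoidHom.transfer φ).ker = ⊤ := by
    rcases (MonoidHom.normal_ker (MonoidHom.transfer φ)).eq_bot_or_eq_top with h | h
    · exfalso
      refine hna ⟨⟨fun a b => ?_⟩⟩
      exact (MonoidHom.ker_eq_bot_iff _).1 h (by rw [map_mul, map_mul, mul_comm])
    · exact h
  have h1 : MonoidHom.transfer φ t = 1 := MonoidHom.mem_ker.1 (hker ▸ mem_top t)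
  have h2 : MonoidHom.transfer φ t = c ^ H.index := by
    rw [MonoidHom.transfer_eq_prod_quotient_orbitRel_zpowers_quot, index_eq_sum_minimalPeriod H t,
      ← Finset.prod_pow_eq_pow_sum]
    refine Finset.prod_congr rfl fun q _ => ?_
    generalize Function.minimalPeriod (t • ·) q.out = k, QuotientGroup.out_conj_pow_minimalPeriod_mem H t q.out = hk
    revert hk
    generalize q.out.out = g
    intro hk
    have hk3 : t ^ k = t ^ (k % 3) := pow_eq_pow_mod k ht
    have hc3 : c ^ k = c ^ (k % 3) := pow_eq_pow_mod k hc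
    have hcases : k % 3 = 0 ∨ k % 3 = 1 ∨ k % 3 = 2 := by omega
    rcases hcases with h | h | h <;> rw [h] at hk3 hc3
    · have : (⟨g⁻¹ * t ^ k * g, hk⟩ : ↥H) = 1 := Subtype.ext (by simp [hk3])
      rw [this, map_one, hc3, pow_zero]
    · have hm : g⁻¹ * t * g ∈ H := by rwa [hk3, pow_one] at hk
      have : (⟨g⁻¹ * t ^ k * g, hk⟩ : ↥H) = ⟨g⁻¹ * t * g, hm⟩ := Subtype.ext (by simp [hk3])
      rw [this, key g hm, hc3, pow_one]
    · have e1 : g⁻¹ * t * g = (g⁻¹ * t ^ 2 * g) ^ 2 := by
        calc g⁻¹ * t * g = g⁻¹ * (t * t ^ 3) * g := by rw [ht, mul_one]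
          _ = (g⁻¹ * t ^ 2 * g) ^ 2 := by rw [pow_two (g⁻¹ * t ^ 2 * g)]; group
      have hm : g⁻¹ * t * g ∈ H := by rw [e1, ← hk3]; exact pow_mem hk 2
      have : (⟨g⁻¹ * t ^ k * g, hk⟩ : ↥H) = ⟨g⁻¹ * t * g, hm⟩ ^ 2 :=
        Subtype.ext (by
          simp only [SubmonoidClass.coe_pow, hk3]
          calc g⁻¹ * t ^ 2 * g = (g⁻¹ * t * g) * (g⁻¹ * t * g) := by rw [pow_two t]; group
            _ = (g⁻¹ * t * g) ^ 2 := (pow_two _).symm)
      rw [this, map_pow, key g hm, hc3]
  have h3 : c ^ H.index = 1 := h2 ▸ h1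
  have hdvd := orderOf_dvd_of_pow_eq_one h3
  rw [orderOf_eq_prime (p := 3) hc hc1] at hdvd
  exact hH hdvd

variable [Finite G] [Finite Ω]

/-- A subgroup of index three avoiding the elements with three fixed points, unless the group is
of order 27 and exponent three. -/
theorem exists_avoiding (hfix : ∀ g : G, g ≠ 1 → (fixedBy Ω g).ncard ≤ 4) (hF : Free G Ω)
    (Q : Sylow 3 G) {t : G} (htQ : t ∈ (Q : Subgroup G)) (ht : Ft Ω t)
    (hne : ¬ (Nat.card (Q : Subgroup G) = 27 ∧ ∀ x : G, x ∈ (Q : Subgroup G) → x ^ 3 = 1)) :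
    ∃ L : Subgroup ↥(Q : Subgroup G), L.index = 3 ∧ ∀ y ∈ L, ¬ Ft Ω (y : G) := by
  haveI : Fact (Nat.Prime 3) := ⟨Nat.prime_three⟩
  obtain ⟨z, hL⟩ := local_structure hfix hF Q htQ ht
  set q : Subgroup G := (Q : Subgroup G) with hq
  have hqp : IsPGroup 3 ↥q := Q.2
  obtain ⟨n, hn⟩ := IsPGroup.iff_card.1 hqp
  have hbig := hL.big
  have hn3 : 3 ≤ n := by
    by_contra h
    have : 3 ^ n ≤ 3 ^ 2 := Nat.pow_le_pow_right (by norm_num) (by omega)
    omega
  have hcentral : ∀ y ∈ center ↥q, ¬ Ft Ω (y : G) := fun y hy hy3 => by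
    have := hF Q (y : G) y.2 (fun x hx => congrArg Subtype.val (mem_center_iff.1 hy ⟨x, hx⟩)) hy3.1
    have := hy3.2
    omega
  have hD : Nat.card q = 9 * Nat.card (commutator ↥q) := by
    rw [← Subgroup.card_map_of_injective (K := commutator ↥q) q.subtype_injective,
      map_subtype_commutator]
    exact (derived_facts hfix hF Q htQ ht).1
  by_cases hn27 : n = 3
  · subst hn27
    obtain ⟨x, hx, hx3⟩ : ∃ x : G, x ∈ q ∧ x ^ 3 ≠ 1 := by
      by_contra hcon
      push Not at hcon
      exact hne ⟨by rw [hn]; norm_num, hcon⟩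
    set x' : ↥q := ⟨x, hx⟩
    obtain ⟨m, hm, hmx⟩ := (Nat.dvd_prime_pow Nat.prime_three).1 (hn ▸ orderOf_dvd_natCard x')
    have hm2 : m = 2 := by
      have h1 : ¬ m ≤ 1 := fun h => by
        have h' : x' ^ 3 = 1 := orderOf_dvd_iff_pow_eq_one.1 (by
          rw [hmx]; exact (pow_dvd_pow 3 h).trans (dvd_of_eq (pow_one 3)))
        exact hx3 (congrArg Subtype.val h')
      have h2 : m ≠ 3 := by
        rintro rfl
        have htop : zpowers x' = ⊤ :=
          Subgroup.eq_top_of_card_eq _ (by rw [Nat.card_zpowers, hmx, hn])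
        have hc : center ↥q = ⊤ := eq_top_iff.2 fun a _ => mem_center_iff.2 fun b => by
          obtain ⟨i, rfl⟩ := mem_zpowers_iff.1 (htop ▸ mem_top a : a ∈ zpowers x')
          obtain ⟨j, rfl⟩ := mem_zpowers_iff.1 (htop ▸ mem_top b : b ∈ zpowers x')
          exact ((Commute.refl x').zpow_zpow j i).eq
        have h := hL.center_card
        rw [hc, Subgroup.card_top] at h
        omega
      omega
    subst hm2
    have hidx : (zpowers x').index = 3 := by
      have h := Subgroup.card_mul_index (zpowers x')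
      rw [Nat.card_zpowers, hmx, hn] at h
      omega
    refine ⟨zpowers x', hidx, fun y hy hy3 => ?_⟩
    haveI : (zpowers x').Normal := Subgroup.normal_of_index_eq_minFac_card (by
      rw [hidx, hn, Nat.pow_minFac (by norm_num)]; norm_num [Nat.prime_three.minFac_eq])
    have hne' : zpowers x' ≠ ⊥ := by
      rw [Subgroup.zpowers_ne_bot]
      intro h
      rw [h, orderOf_one] at hmx
      norm_num at hmx
    have hne2 := CfsgLib.PGroups.inf_center_ne_bot (p := 3) hqp (N := zpowers x') hne'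
    have hle : center ↥q ≤ zpowers x' := by
      have h1 : zpowers x' ⊓ center ↥q ≤ center ↥q := inf_le_right
      have h2 : zpowers x' ⊓ center ↥q = center ↥q := by
        refine Subgroup.eq_of_le_of_card_ge h1 ?_
        rw [hL.center_card]
        obtain ⟨k, hk⟩ := IsPGroup.iff_card.1 (hqp.to_subgroup (zpowers x' ⊓ center ↥q))
        rw [hk]
        refine Nat.le_self_pow ?_ 3
        rintro rfl
        exact hne2 (Subgroup.card_eq_one.1 (by simpa using hk))
      rw [← h2]; exact inf_le_left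
    obtain ⟨k, rfl⟩ := mem_zpowers_iff.1 hy
    have hord : orderOf (x' ^ k) = 3 := by rw [← orderOf_coe]; exact hy3.1
    -- the elements of order three of a cyclic group of order nine form one subgroup
    have heq : zpowers (x' ^ k) = center ↥q := by
      have hcc : center ↥q ≤ zpowers x' := hle
      obtain ⟨⟨w, hw⟩, hw1⟩ := (center ↥q).ne_bot_iff_exists_ne_one.1 fun h => by
        have h' := hL.center_card
        rw [h, Subgroup.card_bot] at h'
        omega
      apply Subgroup.eq_of_le_of_card_ge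
      · rw [zpowers_le]
        have h9 : x' ^ (9 : ℤ) = 1 := by
          rw [show (9 : ℤ) = ((9 : ℕ) : ℤ) by norm_num, zpow_natCast,
            show 9 = orderOf x' by rw [hmx]; norm_num, pow_orderOf_eq_one]
        obtain ⟨i, hi⟩ := mem_zpowers_iff.1 (hcc hw)
        have hw3 : w ^ 3 = 1 := by
          have h1 := orderOf_dvd_natCard (⟨w, hw⟩ : ↥(center ↥q))
          rw [hL.center_card, orderOf_dvd_iff_pow_eq_one] at h1
          simpa using congrArg Subtype.val h1
        have hk3 : (x' ^ k) ^ 3 = 1 := by rw [← hord]; exact pow_orderOf_eq_one _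
        have hdi : (9 : ℤ) ∣ i * 3 := by
          rw [show (9 : ℤ) = ((orderOf x' : ℕ) : ℤ) by rw [hmx]; norm_num,
            orderOf_dvd_iff_zpow_eq_one, zpow_mul, hi, show (3 : ℤ) = ((3 : ℕ) : ℤ) by norm_num,
            zpow_natCast]
          exact hw3
        have hdk : (9 : ℤ) ∣ k * 3 := by
          rw [show (9 : ℤ) = ((orderOf x' : ℕ) : ℤ) by rw [hmx]; norm_num,
            orderOf_dvd_iff_zpow_eq_one, zpow_mul, show (3 : ℤ) = ((3 : ℕ) : ℤ) by norm_num,
            zpow_natCast]
          exact hk3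
        have hi3 : ¬ (9 : ℤ) ∣ i := by
          rw [show (9 : ℤ) = ((orderOf x' : ℕ) : ℤ) by rw [hmx]; norm_num,
            orderOf_dvd_iff_zpow_eq_one, hi]
          exact fun h => hw1 (Subtype.ext h)
        obtain ⟨a, ha⟩ : ∃ a : ℤ, (9 : ℤ) ∣ k - i * a := by
          obtain ⟨i', rfl⟩ : (3 : ℤ) ∣ i := by omega
          obtain ⟨k', rfl⟩ : (3 : ℤ) ∣ k := by omega
          have : i' % 3 = 1 ∨ i' % 3 = 2 := by omega
          rcases this with h | h
          · exact ⟨k', by
              obtain ⟨u, hu⟩ : (3 : ℤ) ∣ 1 - i' := by omega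
              exact ⟨k' * u, by linear_combination (3 * k') * hu⟩⟩
          · exact ⟨2 * k', by
              obtain ⟨u, hu⟩ : (3 : ℤ) ∣ 1 - 2 * i' := by omega
              exact ⟨k' * u, by linear_combination (3 * k') * hu⟩⟩
        obtain ⟨u, hu⟩ := ha
        have : x' ^ k = w ^ a := by
          rw [← hi, ← zpow_mul, show k = i * a + 9 * u by linarith, zpow_add,
            zpow_mul x' 9 u, h9, one_zpow, mul_one]
        rw [this]
        exact zpow_mem hw a
      · rw [hL.center_card, Nat.card_zpowers, hord]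
    exact hcentral _ (heq ▸ mem_zpowers _) hy3
  · -- the centraliser of an element central modulo the centre
    have hn4 : 4 ≤ n := by omega
    set W := center ↥q with hW
    set D := commutator ↥q with hDdef
    have hcardD : 9 ≤ Nat.card D := by
      have : 3 ^ 4 ≤ 3 ^ n := Nat.pow_le_pow_right (by norm_num) hn4
      omega
    set π := QuotientGroup.mk' W
    set N := D.map π with hNdef
    haveI : N.Normal := Subgroup.Normal.map inferInstance _ (QuotientGroup.mk'_surjective _)
    have hNne : N ≠ ⊥ := by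
      rw [hNdef, ne_eq, Subgroup.map_eq_bot_iff, QuotientGroup.ker_mk']
      intro h
      have := Subgroup.card_le_of_le h
      rw [hW, hL.center_card] at this
      omega
    have hZ := CfsgLib.PGroups.inf_center_ne_bot (p := 3) (hqp.to_quotient W) (N := N) hNne
    obtain ⟨⟨y, hy⟩, hy1⟩ := (N ⊓ center _).ne_bot_iff_exists_ne_one.1 hZ
    obtain ⟨⟨x, hx, rfl⟩, hyc⟩ := mem_inf.1 hy
    have hxW : x ∉ W := fun h => hy1 (Subtype.ext ((QuotientGroup.eq_one_iff x).2 h))
    have hcomm : ∀ p : ↥q, ⁅p, x⁆ ∈ W := fun p => by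
      have h2 : π ⁅p, x⁆ = 1 := by
        rw [map_commutatorElement, commutatorElement_eq_one_iff_mul_comm]
        exact mem_center_iff.1 hyc (π p)
      exact (QuotientGroup.eq_one_iff _).1 h2
    set L := centralizer ({x} : Set ↥q) with hLdef
    have him := card_eq_image_mul (⊤ : Subgroup ↥q) L (fun p => ⁅p, x⁆) le_top
      (fun a _ b _ => commutator_eq_iff)
    rw [Subgroup.card_top, Subgroup.coe_top, ← L.card_mul_index, mul_comm] at him
    have hidx : L.index = ((fun p => ⁅p, x⁆) '' (Set.univ : Set ↥q)).ncard :=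
      Nat.eq_of_mul_eq_mul_right Nat.card_pos him
    have hsub : (fun p => ⁅p, x⁆) '' (Set.univ : Set ↥q) ⊆ (W : Set ↥q) := by
      rintro _ ⟨p, -, rfl⟩
      exact hcomm p
    have hle : L.index ≤ 3 := by
      rw [hidx, ← hL.center_card]
      have := Set.ncard_le_ncard hsub (Set.toFinite _)
      rw [← Nat.card_coe_set_eq (W : Set ↥q), SetLike.coe_sort_coe] at this
      exact this
    obtain ⟨k, hk⟩ := hqp.index L
    have hk1 : k = 1 := by
      have h1 : k ≠ 0 := by
        rintro rfl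
        rw [pow_zero, Subgroup.index_eq_one] at hk
        refine hxW (mem_center_iff.2 fun p => ?_)
        exact mem_centralizer_singleton_iff.1 (hk ▸ mem_top p : p ∈ L)
      have h2 : ¬ 2 ≤ k := fun h => by
        have : 3 ^ 2 ≤ 3 ^ k := Nat.pow_le_pow_right (by norm_num) h
        omega
      omega
    refine ⟨L, by rw [hk, hk1, pow_one], fun y hyL hy3 => ?_⟩
    obtain ⟨z', hL'⟩ := local_structure hfix hF Q y.2 hy3
    set C := centralizer ({y} : Set ↥q) with hC
    have hC9 : Nat.card C = 9 := by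
      rw [← hL'.cent_card, ← Subgroup.card_map_of_injective (K := C) q.subtype_injective]
      congr
      ext g
      simp only [mem_map, hC, mem_centralizer_singleton_iff, mem_inf, Subgroup.coe_subtype,
        Subtype.exists, Subtype.ext_iff, Subgroup.coe_mul]
      constructor
      · rintro ⟨a, ha, hh, rfl⟩
        exact ⟨ha, hh⟩
      · rintro ⟨ha, hh⟩
        exact ⟨g, ha, hh, rfl⟩
    have hyD : y ∉ D := fun h => not_mem_derived hfix hF Q y.2 hy3 (by
      rw [← map_subtype_commutator]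
      exact mem_map_of_mem _ h)
    have hWD : W ≤ D := by
      have hDne : D ≠ ⊥ := fun h => by rw [h, Subgroup.card_bot] at hcardD; omega
      have hne2 := CfsgLib.PGroups.inf_center_ne_bot (p := 3) hqp (N := D) hDne
      have h2 : D ⊓ center ↥q = center ↥q := by
        refine Subgroup.eq_of_le_of_card_ge inf_le_right ?_
        rw [hL.center_card]
        obtain ⟨k, hk⟩ := IsPGroup.iff_card.1 (hqp.to_subgroup (D ⊓ center ↥q))
        rw [hk]
        refine Nat.le_self_pow ?_ 3
        rintro rfl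
        exact hne2 (Subgroup.card_eq_one.1 (by simpa using hk))
      rw [hW, ← h2]; exact inf_le_left
    have hxC : x ∈ C := mem_centralizer_singleton_iff.2
      (mem_centralizer_singleton_iff.1 hyL).symm
    have hWC : W < C ⊓ D := by
      refine lt_of_le_of_ne (le_inf (fun w hw => mem_centralizer_singleton_iff.2
        ((mem_center_iff.1 hw) y).symm) hWD) fun h => hxW ?_
      rw [h]; exact ⟨hxC, hx⟩
    have hCD : C ⊓ D < C := lt_of_le_of_ne inf_le_left fun h => by
      have hyC : y ∈ C := mem_centralizer_singleton_iff.2 rfl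
      rw [← h] at hyC
      exact hyD hyC.2
    have h1 := three_mul_card_le hWC (hqp.to_subgroup _)
    have h2 := three_mul_card_le hCD (hqp.to_subgroup _)
    rw [hW, hL.center_card] at h1
    omega

theorem card_eq_and_exponent (hs : IsSimpleGroup G) (hna : ¬ IsMulCommutative G)
    (hfix : ∀ g : G, g ≠ 1 → (fixedBy Ω g).ncard ≤ 4) (ho : OddStab G Ω) (hF : Free G Ω)
    (Q : Sylow 3 G) {t : G} (htQ : t ∈ (Q : Subgroup G)) (ht : Ft Ω t) :
    Nat.card (Q : Subgroup G) = 27 ∧ ∀ x ∈ (Q : Subgroup G), x ^ 3 = 1 := by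
  haveI : Fact (Nat.Prime 3) := ⟨Nat.prime_three⟩
  classical
  by_contra hne
  set q : Subgroup G := (Q : Subgroup G) with hq
  obtain ⟨L, hLidx, hLFt⟩ : ∃ L : Subgroup ↥q, L.index = 3 ∧ ∀ y ∈ L, ¬ Ft Ω (y : G) :=
    exists_avoiding hfix hF Q htQ ht hne
  have hqp : IsPGroup 3 ↥q := Q.2
  let π : ↥q →* Abelianization ↥q := Abelianization.of
  have hker : π.ker = commutator ↥q := Abelianization.ker_of _
  have hπeq : ∀ a b : ↥q, π a = π b ↔ (a : G)⁻¹ * b ∈ ⁅q, q⁆ := by
    intro a b
    rw [← map_subtype_commutator, ← hker]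
    constructor
    · intro h
      refine ⟨a⁻¹ * b, ?_, rfl⟩
      show π (a⁻¹ * b) = 1
      rw [map_mul, map_inv, h, inv_mul_cancel]
    · rintro ⟨e, he, heq⟩
      have : e = a⁻¹ * b := Subtype.ext heq
      subst this
      have he' : π (a⁻¹ * b) = 1 := he
      rwa [map_mul, map_inv, inv_mul_eq_one] at he'
  have hDq : ⁅q, q⁆ ≤ q := by
    rw [← map_subtype_commutator]; exact map_subtype_le _
  have hqN : q ≤ Subgroup.normalizer (q : Set G) := Subgroup.le_normalizer
  have hNmem : ∀ h ∈ Subgroup.normalizer (q : Set G), h * t * h⁻¹ ∈ q := fun h hh =>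
    (Subgroup.mem_normalizer_iff.1 hh t).1 htQ
  -- the set of classes of conjugates of `t`
  let f : G → Abelianization ↥q := fun x => if h : x * t * x⁻¹ ∈ q then π ⟨_, h⟩ else 1
  set S := f '' (Subgroup.normalizer (q : Set G) : Set G) with hS
  have hfS : ∀ (g : G) (hg : g * t * g⁻¹ ∈ q), π ⟨_, hg⟩ ∈ S := by
    intro g hg
    obtain ⟨h, hh, hhg⟩ := fusion hfix hF Q htQ ht hg
    refine ⟨h, hh, ?_⟩
    simp only [f, dif_pos (hNmem h hh)]
    refine ((hπeq _ _).2 ?_).symm
    have e : (g * t * g⁻¹)⁻¹ * (h * t * h⁻¹) =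
        (g * t * g⁻¹)⁻¹ * (h * t * h⁻¹ * (g * t * g⁻¹)⁻¹) * (g * t * g⁻¹)⁻¹⁻¹ := by group
    show (g * t * g⁻¹)⁻¹ * (h * t * h⁻¹) ∈ ⁅q, q⁆
    rw [e]
    have hn : q ≤ Subgroup.normalizer (⁅q, q⁆ : Subgroup G) := fun p hp =>
      mem_normalizer_of_conj fun w hw => by
        have : p * w * p⁻¹ = ⁅p, w⁆ * w := by rw [commutatorElement_def]; group
        rw [this]
        exact mul_mem (commutator_mem_commutator hp (hDq hw)) hw
    exact (Subgroup.mem_normalizer_iff.1 (hn (inv_mem hg)) _).1 hhg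
  -- its size is prime to three
  have hSnd : ¬ 3 ∣ S.ncard := by
    intro hdvd
    set B := Subgroup.normalizer (q : Set G) ⊓ cosetStab ⁅q, q⁆ t with hB
    have hnorm : Subgroup.normalizer (q : Set G) ≤ Subgroup.normalizer (⁅q, q⁆ : Subgroup G) := by
      intro h hh
      rw [Subgroup.mem_normalizer_iff_map_conj_eq, map_commutator,
        Subgroup.mem_normalizer_iff_map_conj_eq.1 hh]
    have him := card_eq_image_mul (Subgroup.normalizer (q : Set G)) B f inf_le_left
      (fun a ha b hb => by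
        simp only [f, dif_pos (hNmem a ha), dif_pos (hNmem b hb), hπeq, hB, mem_inf, mem_cosetStab]
        have key : ∀ a b : G, a ∈ Subgroup.normalizer (q : Set G) →
            b ∈ Subgroup.normalizer (q : Set G) →
            ((a * t * a⁻¹)⁻¹ * (b * t * b⁻¹) ∈ ⁅q, q⁆ ↔ ⁅a⁻¹ * b, t⁆ ∈ ⁅q, q⁆) := by
          intro a b ha hb
          have hn := hnorm ha
          have hn2 : a * t * a⁻¹ ∈ Subgroup.normalizer (⁅q, q⁆ : Subgroup G) :=
            hnorm (hqN (hNmem a ha))
          have e : ⁅a⁻¹ * b, t⁆ =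
              a⁻¹ * ((a * t * a⁻¹) * ((a * t * a⁻¹)⁻¹ * (b * t * b⁻¹)) * (a * t * a⁻¹)⁻¹) *
                a⁻¹⁻¹ := by
            simp only [commutatorElement_def]; group
          rw [e, ← Subgroup.mem_normalizer_iff.1 (inv_mem hn),
            ← Subgroup.mem_normalizer_iff.1 hn2]
        rw [key a b ha hb]
        exact ⟨fun h => ⟨mul_mem (inv_mem ha) hb, hnorm (mul_mem (inv_mem ha) hb), h⟩,
          fun h => h.2.2⟩)
    have hqB : q ≤ B := fun p hp =>
      ⟨hqN hp, hnorm (hqN hp), commutator_mem_commutator hp htQ⟩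
    have h1 : 3 * Nat.card q ∣ Nat.card (Subgroup.normalizer (q : Set G)) := by
      rw [him]
      exact Nat.mul_dvd_mul hdvd (Subgroup.card_dvd_of_le hqB)
    have h2 := h1.trans (Subgroup.card_subgroup_dvd_card _)
    rw [← Subgroup.card_mul_index q, mul_comm 3] at h2
    exact Q.not_dvd_index (Nat.dvd_of_mul_dvd_mul_left Nat.card_pos h2)
  -- the avoided subgroup
  haveI hLn : L.Normal := Subgroup.normal_of_index_eq_minFac_card (by
    obtain ⟨n, hn⟩ := IsPGroup.iff_card.1 hqp
    have hn0 : n ≠ 0 := by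
      rintro rfl
      have := L.index_dvd_card
      rw [hn, hLidx] at this
      norm_num at this
    rw [hLidx, hn, Nat.pow_minFac hn0]
    exact Nat.prime_three.minFac_eq.symm)
  have hDL : commutator ↥q ≤ L := by
    haveI : IsCyclic (↥q ⧸ L) := isCyclic_of_prime_card (p := 3) (by rw [← index_eq_card, hLidx])
    rw [_root_.commutator_def, commutator_le]
    intro a _ b _
    rw [← QuotientGroup.eq_one_iff, ← QuotientGroup.mk'_apply, map_commutatorElement,
      commutatorElement_eq_one_iff_mul_comm]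
    obtain ⟨g, hg⟩ := IsCyclic.exists_generator (α := ↥q ⧸ L)
    obtain ⟨i, hi⟩ := mem_zpowers_iff.1 (hg (QuotientGroup.mk' L a))
    obtain ⟨j, hj⟩ := mem_zpowers_iff.1 (hg (QuotientGroup.mk' L b))
    rw [← hi, ← hj]
    exact ((Commute.refl g).zpow_zpow i j).eq
  set B := L.map π with hBdef
  have hsurj : Function.Surjective π := QuotientGroup.mk_surjective
  have hA9 : Nat.card (Abelianization ↥q) = 9 := by
    have h1 := (derived_facts hfix hF Q htQ ht).1
    rw [← map_subtype_commutator, Subgroup.card_map_of_injective q.subtype_injective,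
      ← Subgroup.card_mul_index (commutator ↥q), mul_comm] at h1
    exact Nat.eq_of_mul_eq_mul_right Nat.card_pos h1
  have hB3 : Nat.card B = 3 := by
    have h1 : B.index = 3 := by rw [hBdef, Subgroup.index_map_eq _ hsurj (hker.le.trans hDL), hLidx]
    have h2 := B.card_mul_index
    rw [h1, hA9] at h2
    omega
  have hSmem : ∀ s ∈ S, ∃ (a : ↥q) (g : G), (a : G) = g * t * g⁻¹ ∧ π a = s := by
    rintro _ ⟨h, hh, rfl⟩
    exact ⟨⟨_, hNmem h hh⟩, h, rfl, by simp only [f, dif_pos (hNmem h hh)]⟩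
  have hSB : ∀ s ∈ S, s ∉ B := by
    intro s hs hsB
    obtain ⟨a, g, hag, rfl⟩ := hSmem s hs
    obtain ⟨b, hb, hbe⟩ := hsB
    have h1 : b⁻¹ * a ∈ L := hDL (by
      rw [← hker, MonoidHom.mem_ker, map_mul, map_inv, hbe, inv_mul_cancel])
    have : a ∈ L := by simpa using mul_mem hb h1
    exact hLFt a this (hag ▸ ht.conj g)
  have hSinv : ∀ s ∈ S, s⁻¹ ∉ S := by
    intro s hs hs'
    obtain ⟨a, g, hag, rfl⟩ := hSmem s hs
    obtain ⟨b, g', hbg, hb⟩ := hSmem _ hs'
    rw [← map_inv, hπeq] at hb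
    have hb' : (b : G)⁻¹ * (a : G)⁻¹ ∈ ⁅q, q⁆ := hb
    have hFa : Ft Ω (a : G) := hag ▸ ht.conj g
    have hFb : Ft Ω (b : G) := hbg ▸ ht.conj g'
    -- `a⁻¹` lies in the coset of `b`, whose elements are conjugates of `b`
    have hcos : (a : G)⁻¹ * (b : G)⁻¹ ∈ ⁅q, q⁆ := by
      have hn : (b : G) ∈ Subgroup.normalizer (⁅q, q⁆ : Subgroup G) :=
        mem_normalizer_of_conj fun w hw => by
          have : (b : G) * w * (b : G)⁻¹ = ⁅(b : G), w⁆ * w := by rw [commutatorElement_def]; group
          rw [this]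
          exact mul_mem (commutator_mem_commutator b.2 (hDq hw)) hw
      have := (Subgroup.mem_normalizer_iff.1 hn _).1 hb'
      simpa [mul_assoc] using this
    obtain ⟨x, -, hx⟩ := (derived_facts hfix hF Q b.2 hFb).2 _ hcos
    rw [inv_mul_cancel_right, hbg] at hx
    refine not_real hfix ho hF ht (g⁻¹ * x * g') ?_
    calc g⁻¹ * x * g' * t * (g⁻¹ * x * g')⁻¹ = g⁻¹ * (x * (g' * t * g'⁻¹) * x⁻¹) * g := by group
      _ = t⁻¹ := by rw [hx, hag]; group
  have hS3 : S.ncard ≤ 2 := by
    have hfin : (Finite (Abelianization ↥q)) := inferInstance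
    have hd1 : Disjoint S S⁻¹ := Set.disjoint_left.2 fun s hs hs' => hSinv s hs (Set.mem_inv.1 hs')
    have hsub : S ∪ S⁻¹ ⊆ (B : Set (Abelianization ↥q))ᶜ := by
      rintro s (hs | hs)
      · exact hSB s hs
      · exact fun hsB => hSB _ (Set.mem_inv.1 hs) (B.inv_mem hsB)
    have h1 := Set.ncard_le_ncard hsub (Set.toFinite _)
    rw [Set.ncard_union_eq hd1 (Set.toFinite _) (Set.toFinite _), Set.ncard_inv,
      Set.ncard_compl, hA9, ← Nat.card_coe_set_eq (B : Set (Abelianization ↥q)),
      SetLike.coe_sort_coe, hB3] at h1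
    have : S.ncard ≠ 3 := fun h => hSnd (by rw [h])
    omega
  set c1 := π ⟨t, htQ⟩ with hc1
  have hc1S : c1 ∈ S := by
    simpa using hfS 1 (by simpa using htQ)
  obtain ⟨c2, hc2S, hc2⟩ : ∃ c2 ∈ S, ∀ s ∈ S, s = c1 ∨ s = c2 := by
    by_cases hsing : ∀ s ∈ S, s = c1
    · exact ⟨c1, hc1S, fun s hs => Or.inl (hsing s hs)⟩
    · push Not at hsing
      obtain ⟨c2, hc2, hne⟩ := hsing
      refine ⟨c2, hc2, fun s hs => ?_⟩
      by_contra hcon
      push Not at hcon
      have h3 : ({c1, c2, s} : Set (Abelianization ↥q)).ncard = 3 :=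
        Set.ncard_eq_three.2 ⟨c1, c2, s, hne.symm, hcon.1.symm, hcon.2.symm, rfl⟩
      have hsub : ({c1, c2, s} : Set (Abelianization ↥q)) ⊆ S := by
        rintro e (rfl | rfl | rfl) <;> assumption
      have := Set.ncard_le_ncard hsub (Set.toFinite _)
      omega
  have hcube : ∀ s ∈ S, s ^ 3 = 1 := by
    intro s hs
    obtain ⟨a, g, hag, rfl⟩ := hSmem s hs
    rw [← map_pow]
    have : a ^ 3 = 1 := Subtype.ext (by
      rw [SubmonoidClass.coe_pow, hag]
      exact (ht.conj g).pow_three)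
    rw [this, map_one]
  set d := c1⁻¹ * c2 with hd
  have hd3 : d ^ 3 = 1 := by
    rw [hd, mul_pow, inv_pow, hcube _ hc1S, hcube _ hc2S, inv_one, one_mul]
  have hc1d : c1 ∉ zpowers d := by
    intro h
    obtain ⟨i, hi⟩ := mem_zpowers_iff.1 h
    have hne1 : c1 ≠ 1 := fun h => hSB _ hc1S (h ▸ one_mem B)
    have hne2 : c2 ≠ 1 := fun h => hSB _ hc2S (h ▸ one_mem B)
    rw [zpow_eq_zpow_emod i (show d ^ ((3 : ℕ) : ℤ) = 1 by rw [zpow_natCast]; exact hd3)] at hi
    have hcases : i % ((3 : ℕ) : ℤ) = 0 ∨ i % ((3 : ℕ) : ℤ) = 1 ∨ i % ((3 : ℕ) : ℤ) = 2 := by omega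
    rcases hcases with h | h | h <;> rw [h] at hi
    · exact hne1 (by simpa using hi.symm)
    · rw [zpow_one, hd, inv_mul_eq_iff_eq_mul] at hi
      refine hSinv _ hc1S ?_
      have : c1⁻¹ = c2 := by
        rw [hi, inv_eq_iff_mul_eq_one, ← hcube _ hc1S, pow_succ, pow_two, mul_assoc]
      exact this ▸ hc2S
    · apply hne2
      have h2 : d ^ 2 = c1 := by exact_mod_cast hi
      rw [hd, mul_pow] at h2
      have h3 : c2 ^ 2 = c1 ^ 3 := by
        calc c2 ^ 2 = c1 ^ 2 * (c1⁻¹ ^ 2 * c2 ^ 2) := by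
              rw [← mul_assoc, inv_pow, mul_inv_cancel, one_mul]
          _ = c1 ^ 3 := by rw [h2, ← pow_succ]
      rw [hcube _ hc1S] at h3
      have := hcube _ hc2S
      rwa [pow_succ, h3, one_mul] at this
  let ψ : ↥q →* Abelianization ↥q ⧸ zpowers d := (QuotientGroup.mk' (zpowers d)).comp π
  refine transfer_contra (c := QuotientGroup.mk' (zpowers d) c1) hs hna q Q.not_dvd_index ψ
    ht.pow_three ?_ ?_ ?_
  · rw [← map_pow, hcube _ hc1S, map_one]
  · exact fun h => hc1d ((QuotientGroup.eq_one_iff _).1 h)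
  · intro g hg
    have hg' : g⁻¹ * t * g⁻¹⁻¹ ∈ q := by rwa [inv_inv]
    have := hc2 _ (hfS g⁻¹ hg')
    have he : (⟨g⁻¹ * t * g, hg⟩ : ↥q) = ⟨_, hg'⟩ := Subtype.ext (by simp)
    show QuotientGroup.mk' (zpowers d) (π _) = _
    rw [he]
    rcases this with h | h <;> rw [h]
    symm
    exact QuotientGroup.eq.2 (mem_zpowers d)

end CfsgLib.FixityFour.OddFreeAux

namespace CfsgLib.FixityFour

open Subgroup MulAction OddFreeAux

/-- If an element of order three of a Sylow three-subgroup has three fixed points and no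
central one does, the Sylow subgroup is extraspecial of order 27 and exponent three. -/
theorem extraspecial_of_free_center {G Ω : Type*} [Group G] [Finite G] [MulAction G Ω]
    [FaithfulSMul G Ω] [Finite Ω] (h : Hyp G Ω) (ho : OddStab G Ω) (P : Sylow 3 G) {t : G}
    (htP : t ∈ (P : Subgroup G)) (ht : orderOf t = 3) (htf : 3 ≤ (fixedBy Ω t).ncard)
    (hc : ∀ z ∈ (P : Subgroup G), (∀ x ∈ (P : Subgroup G), x * z = z * x) → orderOf z = 3 →
      (fixedBy Ω z).ncard ≤ 1) :
    Nat.card P = 27 ∧ Cfsg.IsExtraspecial 3 (P : Subgroup G) ∧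
      ∀ x ∈ (P : Subgroup G), x ^ 3 = 1 := by
  haveI : Fact (Nat.Prime 3) := ⟨Nat.prime_three⟩
  have hF := free_of_one (Ω := Ω) P hc
  obtain ⟨hcard, hexp⟩ := card_eq_and_exponent h.simple h.na h.fix_le ho hF P htP ⟨ht, htf⟩
  obtain ⟨z, hL⟩ := local_structure h.fix_le hF P htP ⟨ht, htf⟩
  set q : Subgroup G := (P : Subgroup G) with hq
  have hqp : IsPGroup 3 ↥q := P.2
  have hD : Nat.card (commutator ↥q) = 3 := by
    have h1 := (derived_facts h.fix_le hF P htP ⟨ht, htf⟩).1
    rw [← map_subtype_commutator, Subgroup.card_map_of_injective q.subtype_injective] at h1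
    have h1' : Nat.card q = 9 * Nat.card (commutator ↥q) := h1
    omega
  have hcz : commutator ↥q = center ↥q := by
    have hne : commutator ↥q ≠ ⊥ := fun h => by rw [h, Subgroup.card_bot] at hD; omega
    have h2 := CfsgLib.PGroups.inf_center_ne_bot (p := 3) hqp (N := commutator ↥q) hne
    have h3 : commutator ↥q ⊓ center ↥q = commutator ↥q := by
      refine Subgroup.eq_of_le_of_card_ge inf_le_left ?_
      rw [hD]
      obtain ⟨k, hk⟩ := IsPGroup.iff_card.1 (hqp.to_subgroup (commutator ↥q ⊓ center ↥q))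
      rw [hk]
      refine Nat.le_self_pow ?_ 3
      rintro rfl
      exact h2 (Subgroup.card_eq_one.1 (by simpa using hk))
    refine Subgroup.eq_of_le_of_card_ge (h3 ▸ inf_le_right) ?_
    rw [hD, hL.center_card]
  have hfr : frattini ↥q = commutator ↥q :=
    le_antisymm (CfsgLib.PGroups.frattini_le_of_elementary_quotient (p := 3) le_rfl fun g => by
      have : g ^ 3 = 1 := Subtype.ext (by simpa using hexp g g.2)
      rw [this]; exact one_mem _) (CfsgLib.PGroups.commutator_le_frattini hqp)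
  exact ⟨hcard, ⟨⟨hqp, hfr.trans hcz, hcz⟩, hL.center_card⟩, hexp⟩

end CfsgLib.FixityFour
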