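import Cfsg.Agent.Lib.FixityFour.OddFreeLocal
import Cfsg.Agent.Lib.PLocal.MaximalClass

/-!
# Fixity four, odd point stabilisers: fusion of elements of order three

Conjugate elements of order three with three fixed points of a Sylow subgroup are conjugate
in its normaliser up to the derived subgroup.
-/

set_option autoImplicit false
set_option linter.unusedSectionVars false
set_option linter.style.haveILetI false

namespace CfsgLib.FixityFour.OddFreeAux

open Subgroup MulAction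
open scoped Pointwise commutatorElement

variable {G : Type*} [Group G] {Ω : Type*} [MulAction G Ω]

theorem commutator_eq_iff {t x y : G} :
    ⁅x, t⁆ = ⁅y, t⁆ ↔ x⁻¹ * y ∈ centralizer ({t} : Set G) := by
  rw [mem_centralizer_singleton_iff, commutatorElement_def, commutatorElement_def,
    mul_left_inj]
  constructor <;> intro h
  · calc x⁻¹ * y * t = x⁻¹ * (y * t * y⁻¹) * y := by group
      _ = x⁻¹ * (x * t * x⁻¹) * y := by rw [h]
      _ = t * (x⁻¹ * y) := by group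
  · calc x * t * x⁻¹ = x * (t * (x⁻¹ * y)) * y⁻¹ := by group
      _ = x * (x⁻¹ * y * t) * y⁻¹ := by rw [h]
      _ = y * t * y⁻¹ := by group

/-- The elements of the normaliser of `W` fixing the coset of `t`. -/
def cosetStab (W : Subgroup G) (t : G) : Subgroup G where
  carrier := {x | x ∈ Subgroup.normalizer (W : Set G) ∧ ⁅x, t⁆ ∈ W}
  one_mem' := ⟨one_mem _, by simp [commutatorElement_def]⟩
  mul_mem' := by
    rintro x y ⟨hx, hxt⟩ ⟨hy, hyt⟩
    refine ⟨mul_mem hx hy, ?_⟩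
    have e : ⁅x * y, t⁆ = x * ⁅y, t⁆ * x⁻¹ * ⁅x, t⁆ := by
      simp only [commutatorElement_def]; group
    rw [e]
    exact mul_mem ((Subgroup.mem_normalizer_iff.1 hx _).1 hyt) hxt
  inv_mem' := by
    rintro x ⟨hx, hxt⟩
    refine ⟨inv_mem hx, ?_⟩
    have e : ⁅x⁻¹, t⁆ = x⁻¹ * ⁅x, t⁆⁻¹ * x⁻¹⁻¹ := by
      simp only [commutatorElement_def]; group
    rw [e]
    exact (Subgroup.mem_normalizer_iff.1 (inv_mem hx) _).1 (inv_mem hxt)

theorem mem_cosetStab {W : Subgroup G} {t x : G} :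
    x ∈ cosetStab W t ↔ x ∈ Subgroup.normalizer (W : Set G) ∧ ⁅x, t⁆ ∈ W := Iff.rfl

/-- The elements of `D` that are central modulo `W` with respect to `Q`. -/
def centMod (Q D W : Subgroup G) : Subgroup G where
  carrier := {x | x ∈ D ∧ x ∈ Subgroup.normalizer (W : Set G) ∧ ∀ p ∈ Q, ⁅p, x⁆ ∈ W}
  one_mem' := ⟨one_mem _, one_mem _, fun p _ => by simp [commutatorElement_def]⟩
  mul_mem' := by
    rintro x y ⟨hx, hxW, hxp⟩ ⟨hy, hyW, hyp⟩
    refine ⟨mul_mem hx hy, mul_mem hxW hyW, fun p hp => ?_⟩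
    have e : ⁅p, x * y⁆ = ⁅p, x⁆ * (x * ⁅p, y⁆ * x⁻¹) := by
      simp only [commutatorElement_def]; group
    rw [e]
    exact mul_mem (hxp p hp) ((Subgroup.mem_normalizer_iff.1 hxW _).1 (hyp p hp))
  inv_mem' := by
    rintro x ⟨hx, hxW, hxp⟩
    refine ⟨inv_mem hx, inv_mem hxW, fun p hp => ?_⟩
    have e : ⁅p, x⁻¹⁆ = x⁻¹ * ⁅p, x⁆⁻¹ * x⁻¹⁻¹ := by
      simp only [commutatorElement_def]; group
    rw [e]
    exact (Subgroup.mem_normalizer_iff.1 (inv_mem hxW) _).1 (inv_mem (hxp p hp))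

theorem mem_centMod {Q D W : Subgroup G} {x : G} :
    x ∈ centMod Q D W ↔
      x ∈ D ∧ x ∈ Subgroup.normalizer (W : Set G) ∧ ∀ p ∈ Q, ⁅p, x⁆ ∈ W := Iff.rfl

theorem mem_normalizer_of_conj [Finite G] {H : Subgroup G} {g : G}
    (h : ∀ x ∈ H, g * x * g⁻¹ ∈ H) : g ∈ Subgroup.normalizer (H : Set G) := by
  rw [Subgroup.mem_normalizer_iff_map_conj_eq]
  refine Subgroup.eq_of_le_of_card_ge ?_ ?_
  · rintro _ ⟨x, hx, rfl⟩
    exact h x hx
  · exact (Subgroup.card_map_of_injective (MulAut.conj g).injective).ge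

theorem three_mul_card_le [Finite G] {A B : Subgroup G} (h : A < B) (hB : IsPGroup 3 B) :
    3 * Nat.card A ≤ Nat.card B := by
  haveI : Fact (Nat.Prime 3) := ⟨Nat.prime_three⟩
  obtain ⟨a, ha⟩ := IsPGroup.iff_card.1 (hB.to_le h.le)
  obtain ⟨b, hb⟩ := IsPGroup.iff_card.1 hB
  have h1 : Nat.card A < Nat.card B := Set.Finite.card_lt_card (Set.toFinite _) h
  rw [ha, hb] at h1 ⊢
  have := (Nat.pow_lt_pow_iff_right (by norm_num : 1 < 3)).1 h1
  rw [← pow_succ']
  exact Nat.pow_le_pow_right (by norm_num) this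

variable [Finite G] [Finite Ω]

/-- The order of a Sylow subgroup and the class of an element of order three fixing three
points. -/
theorem derived_facts (hfix : ∀ g : G, g ≠ 1 → (fixedBy Ω g).ncard ≤ 4) (hF : Free G Ω)
    (Q : Sylow 3 G) {t : G} (htQ : t ∈ (Q : Subgroup G)) (ht : Ft Ω t) :
    Nat.card (Q : Subgroup G) = 9 * Nat.card ↥⁅(Q : Subgroup G), (Q : Subgroup G)⁆ ∧
      ∀ w ∈ ⁅(Q : Subgroup G), (Q : Subgroup G)⁆, ∃ x ∈ (Q : Subgroup G), x * t * x⁻¹ = w * t := by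
  haveI : Fact (Nat.Prime 3) := ⟨Nat.prime_three⟩
  obtain ⟨z, hL⟩ := local_structure hfix hF Q htQ ht
  set q : Subgroup G := (Q : Subgroup G) with hq
  set D := ⁅q, q⁆ with hD
  have hcardD : Nat.card D * (commutator ↥q).index = Nat.card q := by
    have h1 := Subgroup.card_mul_index (commutator ↥q)
    rw [hD, ← map_subtype_commutator, Subgroup.card_map_of_injective q.subtype_injective]
    exact h1
  have hne : commutator ↥q ≠ ⊥ := by
    intro h
    have hc : center ↥q = ⊤ := by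
      refine eq_top_iff.2 fun a _ => mem_center_iff.2 fun b => ?_
      have := commutator_mem_commutator (mem_top b) (mem_top a) (H₁ := (⊤ : Subgroup ↥q))
      rw [← _root_.commutator_def, h, mem_bot, commutatorElement_eq_one_iff_mul_comm] at this
      exact this
    have h1 := hL.center_card
    rw [hc, Subgroup.card_top] at h1
    have := hL.big
    omega
  have h9 : 9 ≤ (commutator ↥q).index :=
    CfsgLib.PLocal.sq_le_index_commutator Q.2 hne
  have him := card_eq_image_mul q (q ⊓ centralizer {t}) (fun x => ⁅x, t⁆) inf_le_left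
    (fun x hx y hy => by
      rw [commutator_eq_iff, mem_inf]
      exact ⟨fun h => ⟨mul_mem (inv_mem hx) hy, h⟩, And.right⟩)
  rw [hL.cent_card] at him
  have hsub : (fun x => ⁅x, t⁆) '' (q : Set G) ⊆ (D : Set G) := by
    rintro _ ⟨x, hx, rfl⟩
    exact commutator_mem_commutator hx htQ
  have hle := Set.ncard_le_ncard hsub (Set.toFinite _)
  rw [← Nat.card_coe_set_eq (D : Set G), SetLike.coe_sort_coe] at hle
  have hpos : 0 < Nat.card D := Nat.card_pos
  have hindex : (commutator ↥q).index = 9 := by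
    refine le_antisymm ?_ h9
    refine Nat.le_of_mul_le_mul_left ?_ hpos
    rw [hcardD, him]
    exact Nat.mul_le_mul_right 9 hle
  rw [hindex] at hcardD
  refine ⟨by omega, fun w hw => ?_⟩
  have heq : (fun x => ⁅x, t⁆) '' (q : Set G) = (D : Set G) := by
    refine Set.eq_of_subset_of_ncard_le hsub ?_ (Set.toFinite _)
    rw [← Nat.card_coe_set_eq (D : Set G), SetLike.coe_sort_coe]
    omega
  obtain ⟨x, hx, hxw⟩ : w ∈ (fun x => ⁅x, t⁆) '' (q : Set G) := heq ▸ hw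
  refine ⟨x, hx, ?_⟩
  rw [← hxw]
  simp only [commutatorElement_def]
  group

theorem ft_coset (hfix : ∀ g : G, g ≠ 1 → (fixedBy Ω g).ncard ≤ 4) (hF : Free G Ω)
    (Q : Sylow 3 G) {t : G} (htQ : t ∈ (Q : Subgroup G)) (ht : Ft Ω t)
    {w : G} (hw : w ∈ ⁅(Q : Subgroup G), (Q : Subgroup G)⁆) : Ft Ω (w * t) := by
  obtain ⟨x, -, hx⟩ := (derived_facts hfix hF Q htQ ht).2 w hw
  rw [← hx]
  exact ht.conj x

theorem not_mem_derived (hfix : ∀ g : G, g ≠ 1 → (fixedBy Ω g).ncard ≤ 4) (hF : Free G Ω)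
    (Q : Sylow 3 G) {t : G} (htQ : t ∈ (Q : Subgroup G)) (ht : Ft Ω t) :
    t ∉ ⁅(Q : Subgroup G), (Q : Subgroup G)⁆ := fun h =>
  (inv_mul_cancel t ▸ ft_coset hfix hF Q htQ ht (inv_mem h)).ne_one rfl

theorem card_cosetStab_le (hfix : ∀ g : G, g ≠ 1 → (fixedBy Ω g).ncard ≤ 4) (hF : Free G Ω)
    {t : G} (ht : Ft Ω t) (W : Subgroup G) {R : Subgroup G} (hR : IsPGroup 3 R)
    (hRC : R ≤ cosetStab W t) : Nat.card R ≤ 9 * Nat.card W := by
  have him := card_eq_image_mul R (R ⊓ centralizer {t}) (fun x => ⁅x, t⁆) inf_le_left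
    (fun x hx y hy => by
      rw [commutator_eq_iff, mem_inf]
      exact ⟨fun h => ⟨mul_mem (inv_mem hx) hy, h⟩, And.right⟩)
  have hsub : (fun x => ⁅x, t⁆) '' (R : Set G) ⊆ (W : Set G) := by
    rintro _ ⟨x, hx, rfl⟩
    exact (hRC hx).2
  have hle := Set.ncard_le_ncard hsub (Set.toFinite _)
  rw [← Nat.card_coe_set_eq (W : Set G), SetLike.coe_sort_coe] at hle
  rw [him, mul_comm 9]
  exact Nat.mul_le_mul hle (card_le_nine hfix hF ht (hR.to_le inf_le_left) inf_le_right)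

theorem cosetStab_conj {W : Subgroup G} {t t' g x : G} (hg : g ∈ Subgroup.normalizer (W : Set G))
    (hgt : g * t * g⁻¹ * t'⁻¹ ∈ W) (hx : x ∈ cosetStab W t) :
    g * x * g⁻¹ ∈ cosetStab W t' := by
  have hy : g * x * g⁻¹ ∈ Subgroup.normalizer (W : Set G) := mul_mem (mul_mem hg hx.1) (inv_mem hg)
  refine ⟨hy, ?_⟩
  set w := g * t * g⁻¹ * t'⁻¹ with hw
  have e : ⁅g * x * g⁻¹, t'⁆ =
      g * x * g⁻¹ * w⁻¹ * (g * x * g⁻¹)⁻¹ * (g * ⁅x, t⁆ * g⁻¹) * w := by
    rw [hw]; simp only [commutatorElement_def]; group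
  rw [e]
  exact mul_mem (mul_mem ((Subgroup.mem_normalizer_iff.1 hy _).1 (inv_mem hgt))
    ((Subgroup.mem_normalizer_iff.1 hg _).1 hx.2)) hgt

/-- A fusing element can be moved to map one largest three-subgroup to the other. -/
theorem sylow_step (hfix : ∀ g : G, g ≠ 1 → (fixedBy Ω g).ncard ≤ 4) (hF : Free G Ω)
    {t t' : G} (ht' : Ft Ω t') {W R R' : Subgroup G} {g : G}
    (hg : g ∈ Subgroup.normalizer (W : Set G))
    (hgt : g * t * g⁻¹ * t'⁻¹ ∈ W) (hR : R ≤ cosetStab W t) (hR' : R' ≤ cosetStab W t')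
    (hRp : IsPGroup 3 R) (hR'p : IsPGroup 3 R') (hRn : Nat.card R = 9 * Nat.card W)
    (hR'n : Nat.card R' = 9 * Nat.card W) :
    ∃ g1 ∈ Subgroup.normalizer (W : Set G), g1 * t * g1⁻¹ * t'⁻¹ ∈ W ∧
      ∀ x ∈ R, g1 * x * g1⁻¹ ∈ R' := by
  set A := R.map (MulAut.conj g).toMonoidHom with hA
  have hAC : A ≤ cosetStab W t' := by
    rintro _ ⟨x, hx, rfl⟩
    exact cosetStab_conj hg hgt (hR hx)
  obtain ⟨c, hc, hcA⟩ := exists_conj_of_max (cosetStab W t') A R' hAC hR'
    (hRp.map _) hR'p (fun S hSC hS => card_cosetStab_le hfix hF ht' W hS hSC)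
    (by rw [hA, Subgroup.card_map_of_injective (MulAut.conj g).injective, hRn]) hR'n
  refine ⟨c * g, mul_mem hc.1 hg, ?_, fun x hx => ?_⟩
  · have e : c * g * t * (c * g)⁻¹ * t'⁻¹ =
        c * (g * t * g⁻¹ * t'⁻¹) * c⁻¹ * ⁅c, t'⁆ := by
      simp only [commutatorElement_def]; group
    rw [e]
    exact mul_mem ((Subgroup.mem_normalizer_iff.1 hc.1 _).1 hgt) hc.2
  · have := hcA _ (mem_map_of_mem _ hx)
    convert this using 1
    simp [mul_assoc]

theorem exists_centMod_gt (Q : Sylow 3 G) {W : Subgroup G}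
    (hW : W ≤ ⁅(Q : Subgroup G), (Q : Subgroup G)⁆)
    (hWn : (Q : Subgroup G) ≤ Subgroup.normalizer (W : Set G))
    (hne : W ≠ ⁅(Q : Subgroup G), (Q : Subgroup G)⁆) :
    W < centMod (Q : Subgroup G) ⁅(Q : Subgroup G), (Q : Subgroup G)⁆ W := by
  haveI : Fact (Nat.Prime 3) := ⟨Nat.prime_three⟩
  set q : Subgroup G := (Q : Subgroup G) with hq
  have hDq : ⁅q, q⁆ ≤ q := by
    rw [← map_subtype_commutator]; exact map_subtype_le _
  have hle : W ≤ centMod q ⁅q, q⁆ W := fun w hw =>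
    ⟨hW hw, Subgroup.le_normalizer hw, fun p hp => by
      rw [commutatorElement_def]
      exact mul_mem ((Subgroup.mem_normalizer_iff.1 (hWn hp) _).1 hw) (inv_mem hw)⟩
  haveI hN : (W.subgroupOf q).Normal :=
    Subgroup.normal_subgroupOf_of_le_normalizer hWn
  set π := QuotientGroup.mk' (W.subgroupOf q)
  set N := (commutator ↥q).map π with hNdef
  haveI : N.Normal := Subgroup.Normal.map inferInstance _ (QuotientGroup.mk'_surjective _)
  have hNne : N ≠ ⊥ := by
    rw [hNdef, ne_eq, Subgroup.map_eq_bot_iff, QuotientGroup.ker_mk']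
    intro h
    refine hne (le_antisymm hW ?_)
    rw [← map_subtype_commutator]
    rintro _ ⟨x, hx, rfl⟩
    exact h hx
  have hZ := CfsgLib.PGroups.inf_center_ne_bot (p := 3) (Q.2.to_quotient (W.subgroupOf q)) (N := N)
    hNne
  obtain ⟨y, hy, hy1⟩ := (N ⊓ center _).ne_bot_iff_exists_ne_one.1 hZ |> fun ⟨y, hy⟩ =>
    (⟨(y : ↥q ⧸ W.subgroupOf q), y.2, fun h => hy (Subtype.ext h)⟩ :
      ∃ y : ↥q ⧸ W.subgroupOf q, y ∈ N ⊓ center _ ∧ y ≠ 1)
  obtain ⟨⟨x, hx, rfl⟩, hyc⟩ := mem_inf.1 hy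
  have hxW : (x : G) ∉ W := fun h => hy1 ((QuotientGroup.eq_one_iff x).2 h)
  refine lt_of_le_of_ne hle fun h => hxW ?_
  rw [h]
  refine ⟨?_, hWn x.2, fun p hp => ?_⟩
  · rw [← map_subtype_commutator]
    exact mem_map_of_mem _ hx
  · have h1 := mem_center_iff.1 hyc (π ⟨p, hp⟩)
    have h2 : π ⁅(⟨p, hp⟩ : ↥q), x⁆ = 1 := by
      rw [map_commutatorElement, commutatorElement_eq_one_iff_mul_comm]
      exact h1
    have h3 := (QuotientGroup.eq_one_iff (⁅(⟨p, hp⟩ : ↥q), x⁆)).1 h2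
    exact h3

/-- The subgroup spanned by `t` and a subgroup `X` of the derived group, with its elements. -/
theorem sup_facts (hfix : ∀ g : G, g ≠ 1 → (fixedBy Ω g).ncard ≤ 4) (hF : Free G Ω)
    (Q : Sylow 3 G) {t : G} (htQ : t ∈ (Q : Subgroup G)) (ht : Ft Ω t) {W : Subgroup G}
    (hWn : (Q : Subgroup G) ≤ Subgroup.normalizer (W : Set G))
    (hlt : W < centMod (Q : Subgroup G) ⁅(Q : Subgroup G), (Q : Subgroup G)⁆ W) :
    ∃ R : Subgroup G, R ≤ cosetStab W t ∧ IsPGroup 3 R ∧ Nat.card R = 9 * Nat.card W ∧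
      centMod (Q : Subgroup G) ⁅(Q : Subgroup G), (Q : Subgroup G)⁆ W ≤ R ∧
      ∀ y ∈ R, y ∉ centMod (Q : Subgroup G) ⁅(Q : Subgroup G), (Q : Subgroup G)⁆ W → Ft Ω y := by
  set q : Subgroup G := (Q : Subgroup G) with hq
  set X := centMod q ⁅q, q⁆ W with hX
  have hXq : X ≤ q := fun x hx => by
    have := hx.1
    rw [← map_subtype_commutator] at this
    exact map_subtype_le _ this
  set R := zpowers t ⊔ X with hR
  have hRC : R ≤ cosetStab W t := by
    refine sup_le (zpowers_le.2 ⟨hWn htQ, ?_⟩) fun x hx => ⟨hx.2.1, ?_⟩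
    · rw [commutatorElement_self]; exact one_mem _
    · rw [← commutatorElement_inv]; exact inv_mem (hx.2.2 t htQ)
  have hRq : R ≤ q := sup_le (zpowers_le.2 htQ) hXq
  have hRp : IsPGroup 3 R := Q.2.to_le hRq
  have hup := card_cosetStab_le hfix hF ht W hRp hRC
  have htX : t ∉ X := fun h => not_mem_derived hfix hF Q htQ ht h.1
  have hXp : IsPGroup 3 X := Q.2.to_le hXq
  have h1 : 3 * Nat.card W ≤ Nat.card X := three_mul_card_le hlt hXp
  let φ : Fin 3 × ↥X → ↥R := fun p =>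
    ⟨(p.2 : G) * t ^ (p.1 : ℕ), mul_mem (mem_sup_right p.2.2)
      (pow_mem (mem_sup_left (mem_zpowers t)) _)⟩
  have hφ : Function.Injective φ := by
    rintro ⟨i, a, ha⟩ ⟨j, b, hb⟩ he
    have he' : a * t ^ (i : ℕ) = b * t ^ (j : ℕ) := congrArg Subtype.val he
    have hm : t ^ (i : ℕ) * (t ^ (j : ℕ))⁻¹ ∈ X := by
      have : t ^ (i : ℕ) * (t ^ (j : ℕ))⁻¹ = a⁻¹ * b := by
        calc t ^ (i : ℕ) * (t ^ (j : ℕ))⁻¹ = a⁻¹ * (a * t ^ (i : ℕ)) * (t ^ (j : ℕ))⁻¹ := by group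
          _ = a⁻¹ * b := by rw [he']; group
      rw [this]; exact mul_mem (inv_mem ha) hb
    have h3 := ht.pow_three
    have hij : i = j := by
      by_contra hne
      apply htX
      fin_cases i <;> fin_cases j <;> simp at hne hm ⊢
      · exact hm
      · have : t = (t ^ 2)⁻¹ := by
          rw [eq_inv_iff_mul_eq_one, ← pow_succ']; exact h3
        rw [this]; exact X.inv_mem hm
      · exact hm
      · have : t = (t * (t ^ 2)⁻¹)⁻¹ := by group
        rw [this]; exact inv_mem hm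
      · have : t = (t ^ 2)⁻¹ := by
          rw [eq_inv_iff_mul_eq_one, ← pow_succ']; exact h3
        rw [this]; exact inv_mem hm
      · have : t = t ^ 2 * t⁻¹ := by group
        rw [this]; exact hm
    subst hij
    have : a = b := mul_right_cancel he'
    subst this
    rfl
  have hcard : Nat.card (Fin 3 × ↥X) = 3 * Nat.card X := by simp [Nat.card_prod]
  have h2 := Nat.card_le_card_of_injective φ hφ
  have hbij : Function.Bijective φ :=
    (Nat.bijective_iff_injective_and_card φ).2 ⟨hφ, by omega⟩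
  refine ⟨R, hRC, hRp, by omega, le_sup_right, fun y hy hyX => ?_⟩
  obtain ⟨⟨i, a, ha⟩, hia⟩ := hbij.2 ⟨y, hy⟩
  have hy' : a * t ^ (i : ℕ) = y := congrArg Subtype.val hia
  subst hy'
  fin_cases i
  · simp at hyX
    exact absurd ha hyX
  · simpa using ft_coset hfix hF Q htQ ht ha.1
  · have e : t ^ 2 = t⁻¹ := by
      rw [eq_inv_iff_mul_eq_one, ← pow_succ]; exact ht.pow_three
    simp only [e]
    exact ft_coset hfix hF Q (inv_mem htQ) ht.inv ha.1

theorem fusion_aux (hfix : ∀ g : G, g ≠ 1 → (fixedBy Ω g).ncard ≤ 4) (hF : Free G Ω)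
    (Q : Sylow 3 G) {t t' : G} (htQ : t ∈ (Q : Subgroup G)) (ht : Ft Ω t)
    (ht'Q : t' ∈ (Q : Subgroup G)) (ht' : Ft Ω t') (n : ℕ) :
    ∀ W : Subgroup G, Nat.card ↥⁅(Q : Subgroup G), (Q : Subgroup G)⁆ ≤ Nat.card W + n →
      W ≤ ⁅(Q : Subgroup G), (Q : Subgroup G)⁆ →
      (Q : Subgroup G) ≤ Subgroup.normalizer (W : Set G) →
      (∃ g ∈ Subgroup.normalizer (W : Set G), g * t * g⁻¹ * t'⁻¹ ∈ W) →
      ∃ h ∈ Subgroup.normalizer ((Q : Subgroup G) : Set G),
        h * t * h⁻¹ * t'⁻¹ ∈ ⁅(Q : Subgroup G), (Q : Subgroup G)⁆ := by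
  set q : Subgroup G := (Q : Subgroup G) with hq
  induction n using Nat.strong_induction_on with
  | _ n ih =>
    intro W hn hW hWn hg
    obtain ⟨g, hg, hgt⟩ := hg
    by_cases hWD : W = ⁅q, q⁆
    · subst hWD
      have hqC : ∀ s ∈ q, q ≤ cosetStab ⁅q, q⁆ s := fun s hs x hx =>
        ⟨hWn hx, commutator_mem_commutator hx hs⟩
      obtain ⟨h, -, hht, hmap⟩ := sylow_step hfix hF ht' hg hgt (hqC t htQ) (hqC t' ht'Q)
        Q.2 Q.2 (derived_facts hfix hF Q htQ ht).1 (derived_facts hfix hF Q htQ ht).1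
      exact ⟨h, mem_normalizer_of_conj hmap, hht⟩
    · have hlt := exists_centMod_gt Q hW hWn hWD
      obtain ⟨R, hR, hRp, hRn, hXR, -⟩ := sup_facts hfix hF Q htQ ht hWn hlt
      obtain ⟨R', hR', hR'p, hR'n, -, hFt⟩ := sup_facts hfix hF Q ht'Q ht' hWn hlt
      obtain ⟨g1, hg1, hg1t, hmap⟩ := sylow_step hfix hF ht' hg hgt hR hR' hRp hR'p hRn hR'n
      set X := centMod q ⁅q, q⁆ W with hX
      have hg1X : ∀ x ∈ X, g1 * x * g1⁻¹ ∈ X := by
        intro x hx
        by_contra hcon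
        have h1 := (hFt _ (hmap x (hXR hx)) hcon).conj g1⁻¹
        have e : g1⁻¹ * (g1 * x * g1⁻¹) * g1⁻¹⁻¹ = x := by group
        rw [e] at h1
        have hxq : x ∈ q := by
          have := hx.1
          rw [← map_subtype_commutator] at this
          exact map_subtype_le _ this
        exact not_mem_derived hfix hF Q hxq h1 hx.1
      have hXn : q ≤ Subgroup.normalizer (X : Set G) := fun p hp =>
        mem_normalizer_of_conj fun x hx => by
          refine ⟨?_, mul_mem (mul_mem (hWn hp) hx.2.1) (inv_mem (hWn hp)), fun r hr => ?_⟩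
          · have : p * x * p⁻¹ = ⁅p, x⁆ * x := by rw [commutatorElement_def]; group
            rw [this]
            refine mul_mem (hW (hx.2.2 p hp)) hx.1
          · have : ⁅r, p * x * p⁻¹⁆ = p * ⁅p⁻¹ * r * p, x⁆ * p⁻¹ := by
              simp only [commutatorElement_def]; group
            rw [this]
            exact (Subgroup.mem_normalizer_iff.1 (hWn hp) _).1
              (hx.2.2 _ (mul_mem (mul_mem (inv_mem hp) hr) hp))
      have hcard : Nat.card W < Nat.card X := Set.Finite.card_lt_card (Set.toFinite _) hlt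
      have hXD : Nat.card X ≤ Nat.card ↥⁅q, q⁆ := Subgroup.card_le_of_le fun x hx => hx.1
      exact ih (Nat.card ↥⁅q, q⁆ - Nat.card X) (by omega) X (by omega) (fun x hx => hx.1) hXn
        ⟨g1, mem_normalizer_of_conj hg1X, hlt.le hg1t⟩

/-- Fusion in the normaliser, modulo the derived subgroup. -/
theorem fusion (hfix : ∀ g : G, g ≠ 1 → (fixedBy Ω g).ncard ≤ 4) (hF : Free G Ω)
    (Q : Sylow 3 G) {t g : G} (htQ : t ∈ (Q : Subgroup G)) (ht : Ft Ω t)
    (hgQ : g * t * g⁻¹ ∈ (Q : Subgroup G)) :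
    ∃ h ∈ Subgroup.normalizer ((Q : Subgroup G) : Set G),
      h * t * h⁻¹ * (g * t * g⁻¹)⁻¹ ∈ ⁅(Q : Subgroup G), (Q : Subgroup G)⁆ := by
  refine fusion_aux hfix hF Q htQ ht hgQ (ht.conj g)
    (Nat.card ↥⁅(Q : Subgroup G), (Q : Subgroup G)⁆) ⊥ (by omega) bot_le ?_ ⟨g, ?_, ?_⟩
  · rw [Subgroup.normalizer_eq_top]; exact le_top
  · rw [Subgroup.normalizer_eq_top]; exact mem_top _
  · rw [mul_inv_cancel]; exact one_mem _

end CfsgLib.FixityFour.OddFreeAux
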