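import Cfsg.Agent.Lib.FixityFour.Basic
import Cfsg.Agent.Lib.PGroups.Basic
import Mathlib.GroupTheory.Sylow
import Mathlib.GroupTheory.Nilpotent

/-!
# Fixity four, odd point stabilisers: elements of order three when the centre is free

The structure of the centraliser of an element of order three with at least three fixed points.
-/

set_option autoImplicit false
set_option linter.unusedSectionVars false
set_option linter.style.haveILetI false

namespace CfsgLib.FixityFour.OddFreeAux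

open Subgroup MulAction
open scoped Pointwise

variable {G : Type*} [Group G] {Ω : Type*} [MulAction G Ω]

/-- An element of order three with at least three fixed points. -/
def Ft (Ω : Type*) [MulAction G Ω] (x : G) : Prop := orderOf x = 3 ∧ 3 ≤ (fixedBy Ω x).ncard

/-- Central elements of order three of Sylow subgroups fix at most one point. -/
def Free (G Ω : Type*) [Group G] [MulAction G Ω] : Prop :=
  ∀ (Q : Sylow 3 G) (z : G), z ∈ (Q : Subgroup G) →
    (∀ x ∈ (Q : Subgroup G), x * z = z * x) → orderOf z = 3 → (fixedBy Ω z).ncard ≤ 1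

theorem ncard_fixedBy_conj (g x : G) :
    (fixedBy Ω (g * x * g⁻¹)).ncard = (fixedBy Ω x).ncard := by
  rw [fixedBy_conj]
  exact Set.ncard_image_of_injective _ (MulAction.injective g)

theorem Ft.conj {x : G} (h : Ft Ω x) (g : G) : Ft Ω (g * x * g⁻¹) := by
  refine ⟨?_, ?_⟩
  · rw [← h.1]
    exact orderOf_injective (MulAut.conj g).toMonoidHom (MulAut.conj g).injective x
  · rw [ncard_fixedBy_conj]
    exact h.2

theorem Ft.inv {x : G} (h : Ft Ω x) : Ft Ω x⁻¹ := by
  refine ⟨?_, ?_⟩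
  · rw [orderOf_inv]; exact h.1
  · rw [fixedBy_inv]; exact h.2

theorem Ft.ne_one {x : G} (h : Ft Ω x) : x ≠ 1 := by
  rintro rfl
  simpa [orderOf_one] using h.1

theorem Ft.pow_three {x : G} (h : Ft Ω x) : x ^ 3 = 1 := by
  rw [← h.1]; exact pow_orderOf_eq_one x

/-- The hypothesis on the centre passes from one Sylow subgroup to all of them. -/
theorem free_of_one [Finite G] (P : Sylow 3 G)
    (hc : ∀ z ∈ (P : Subgroup G), (∀ x ∈ (P : Subgroup G), x * z = z * x) → orderOf z = 3 →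
      (fixedBy Ω z).ncard ≤ 1) : Free G Ω := by
  intro Q z hz hzc hord
  obtain ⟨g, hg⟩ := MulAction.exists_smul_eq G P Q
  have hmem : ∀ x, x ∈ (P : Subgroup G) → g * x * g⁻¹ ∈ (Q : Subgroup G) := by
    intro x hx
    rw [← hg, Sylow.coe_subgroup_smul, Subgroup.mem_pointwise_smul_iff_inv_smul_mem,
      ← map_inv, MulAut.smul_def, MulAut.conj_apply]
    convert hx using 1
    group
  have hzP : g⁻¹ * z * g ∈ (P : Subgroup G) := by
    have := hz
    rw [← hg, Sylow.coe_subgroup_smul, Subgroup.mem_pointwise_smul_iff_inv_smul_mem,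
      ← map_inv, MulAut.smul_def, MulAut.conj_apply] at this
    simpa using this
  have h := hc (g⁻¹ * z * g) hzP (fun x hx => ?_) ?_
  · have e := ncard_fixedBy_conj (Ω := Ω) g⁻¹ z
    rw [inv_inv] at e
    rw [← e]
    exact h
  · have e := hzc _ (hmem x hx)
    calc x * (g⁻¹ * z * g) = g⁻¹ * (g * x * g⁻¹ * z) * g := by group
      _ = g⁻¹ * (z * (g * x * g⁻¹)) * g := by rw [e]
      _ = g⁻¹ * z * g * x := by group
  · rw [← hord]
    conv_lhs => rw [show g⁻¹ * z * g = (MulAut.conj g⁻¹).toMonoidHom z by simp]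
    exact orderOf_injective _ (MulAut.conj g⁻¹).injective z

/-- Fixed point counts of elements of order three are congruent to the degree. -/
theorem ncard_fixedBy_modEq [Finite Ω] {x : G} (hx : orderOf x = 3) :
    Nat.card Ω ≡ (fixedBy Ω x).ncard [MOD 3] := by
  haveI : Fact (Nat.Prime 3) := ⟨Nat.prime_three⟩
  have hp : IsPGroup 3 ↥(zpowers x) :=
    IsPGroup.of_card (n := 1) (by rw [Nat.card_zpowers, hx, pow_one])
  have e : fixedPoints ↥(zpowers x) Ω = fixedBy Ω x := by
    ext ω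
    constructor
    · intro h; exact h ⟨x, mem_zpowers x⟩
    · rintro h ⟨y, hy⟩
      obtain ⟨k, rfl⟩ := mem_zpowers_iff.1 hy
      exact (stabilizer G ω).zpow_mem h k
  have := hp.card_modEq_card_fixedPoints Ω
  rwa [e, Nat.card_coe_set_eq] at this

/-- A three-element fixing `D` pointwise and one more point is trivial. -/
theorem eq_one_of_fixes_more [Finite Ω] (hfix : ∀ g : G, g ≠ 1 → (fixedBy Ω g).ncard ≤ 4)
    {t : G} (ht : Ft Ω t) {y : G} (hy : ∃ k, y ^ 3 ^ k = 1) (hyD : fixedBy Ω t ⊆ fixedBy Ω y)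
    {ω : Ω} (hω : ω ∉ fixedBy Ω t) (hyω : y • ω = ω) : y = 1 := by
  haveI : Fact (Nat.Prime 3) := ⟨Nat.prime_three⟩
  by_contra hne
  obtain ⟨k, hk⟩ := hy
  obtain ⟨m, -, hm⟩ := (Nat.dvd_prime_pow Nat.prime_three).1 (orderOf_dvd_of_pow_eq_one hk)
  obtain ⟨m', rfl⟩ : ∃ m', m = m' + 1 := by
    rcases m with _ | m'
    · exact absurd (orderOf_eq_one_iff.1 (by simpa using hm)) hne
    · exact ⟨m', rfl⟩
  set x := y ^ 3 ^ m' with hx
  have hx3 : orderOf x = 3 := by
    rw [hx, orderOf_pow_of_dvd (pow_ne_zero _ (by norm_num)) (hm ▸ pow_dvd_pow 3 (by omega)), hm,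
      pow_succ, Nat.mul_div_cancel_left _ (pow_pos (by norm_num) _)]
  have hsub : insert ω (fixedBy Ω t) ⊆ fixedBy Ω x :=
    Set.insert_subset (mem_fixedBy_pow hyω _) fun d hd => mem_fixedBy_pow (hyD hd) _
  have h1 := Set.ncard_le_ncard hsub (Set.toFinite _)
  rw [Set.ncard_insert_of_notMem hω (Set.toFinite _)] at h1
  have hx1 : x ≠ 1 := fun h => by simp [h] at hx3
  have h2 := hfix x hx1
  have h3 := ((ncard_fixedBy_modEq (Ω := Ω) hx3).symm.trans (ncard_fixedBy_modEq ht.1))
  have h4 := ht.2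
  unfold Nat.ModEq at h3
  omega

/-- The points fixed by `z` when it has at most one of them are fixed by its centraliser. -/
theorem smul_eq_of_commute_fix_le_one [Finite Ω] {z c : G} (hz : (fixedBy Ω z).ncard ≤ 1)
    (h : Commute c z) {p : Ω} (hp : p ∈ fixedBy Ω z) : c • p = p := by
  have hcp : c • p ∈ fixedBy Ω z := by
    rw [← smul_fixedBy_of_commute h]
    exact Set.smul_mem_smul_set hp
  exact ((Set.ncard_le_one (Set.toFinite _)).1 hz) _ hcp _ hp

/-- An element of order three moving all of three points, and permuting them, is a cycle. -/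
theorem eq_of_three {z : G} (hz : z ^ 3 = 1) {D : Set Ω} (hD : D.ncard = 3)
    (hzD : ∀ d ∈ D, z • d ∈ D) (hmove : ∀ d ∈ D, z • d ≠ d) {d e : Ω} (hd : d ∈ D) (he : e ∈ D) :
    e = d ∨ e = z • d ∨ e = (z ^ 2) • d := by
  have h1 : z • d ∈ D := hzD d hd
  have h2 : (z ^ 2) • d ∈ D := by
    rw [pow_two, mul_smul]; exact hzD _ h1
  have n1 : z • d ≠ d := hmove d hd
  have n2 : (z ^ 2) • d ≠ z • d := by
    rw [pow_two, mul_smul]; exact hmove _ h1
  have n3 : (z ^ 2) • d ≠ d := by
    intro h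
    apply n1
    conv_lhs => rw [← h]
    rw [← mul_smul, ← pow_succ', hz, one_smul]
  have hcard : ({d, z • d, (z ^ 2) • d} : Set Ω).ncard = 3 :=
    Set.ncard_eq_three.2 ⟨d, z • d, (z ^ 2) • d, n1.symm, n3.symm, n2.symm, rfl⟩
  have hsub : ({d, z • d, (z ^ 2) • d} : Set Ω) ⊆ D := by
    rintro x (rfl | rfl | rfl) <;> assumption
  have := Set.eq_of_subset_of_ncard_le hsub (by rw [hcard, hD]) (Set.finite_of_ncard_ne_zero (by omega))
  rw [← this] at he
  simpa using he

/-- The number of elements of a subgroup in terms of a function with coset fibres. -/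
theorem card_eq_image_mul [Finite G] {α : Type*} (R B : Subgroup G) (f : G → α) (hB : B ≤ R)
    (h : ∀ x ∈ R, ∀ y ∈ R, (f x = f y ↔ x⁻¹ * y ∈ B)) :
    Nat.card R = (f '' (R : Set G)).ncard * Nat.card B := by
  let F : ↥R ⧸ B.subgroupOf R → ↥(f '' (R : Set G)) :=
    Quotient.lift (fun x : ↥R => (⟨f x, (x : G), x.2, rfl⟩ : ↥(f '' (R : Set G)))) (by
      intro a b hab
      apply Subtype.ext
      refine (h a a.2 b b.2).2 ?_
      have := (QuotientGroup.leftRel_apply).1 hab
      simpa [Subgroup.mem_subgroupOf] using this)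
  have hF : Function.Bijective F := by
    constructor
    · intro a b
      induction a using Quotient.inductionOn with | _ a => ?_
      induction b using Quotient.inductionOn with | _ b => ?_
      intro hab
      apply Quotient.sound
      refine (QuotientGroup.leftRel_apply).2 ?_
      simpa [Subgroup.mem_subgroupOf] using (h a a.2 b b.2).1 (congrArg Subtype.val hab)
    · rintro ⟨_, x, hx, rfl⟩
      exact ⟨Quotient.mk'' ⟨x, hx⟩, rfl⟩
  have h1 := Subgroup.card_eq_card_quotient_mul_card_subgroup (B.subgroupOf R)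
  rw [h1, Nat.card_congr (Equiv.ofBijective F hF), Nat.card_coe_set_eq,
    Nat.card_congr (Subgroup.subgroupOfEquivOfLe hB).toEquiv]

/-- What is known about a Sylow subgroup through an element of order three fixing three points. -/
structure Loc (Ω : Type*) [MulAction G Ω] (Q : Subgroup G) (t z : G) : Prop where
  zmem : z ∈ Q
  zcentral : ∀ x ∈ Q, x * z = z * x
  zfix : (fixedBy Ω z).ncard ≤ 1
  zfix_eq : (fixedBy Ω z).ncard + 3 = (fixedBy Ω t).ncard
  cent_card : Nat.card ↥(Q ⊓ centralizer {t}) = 9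
  center_card : Nat.card (center ↥Q) = 3
  big : 9 < Nat.card Q

theorem local_structure [Finite G] [Finite Ω]
    (hfix : ∀ g : G, g ≠ 1 → (fixedBy Ω g).ncard ≤ 4) (hF : Free G Ω) (Q : Sylow 3 G) {t : G}
    (htQ : t ∈ (Q : Subgroup G)) (ht : Ft Ω t) : ∃ z, Loc Ω (Q : Subgroup G) t z := by
  haveI : Fact (Nat.Prime 3) := ⟨Nat.prime_three⟩
  set q : Subgroup G := (Q : Subgroup G) with hq
  have hqp : IsPGroup 3 ↥q := Q.2
  haveI : Nontrivial ↥q :=
    ⟨⟨⟨t, htQ⟩, 1, fun h => ht.ne_one (congrArg Subtype.val h)⟩⟩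
  have hnoc : ∀ w ∈ q, (∀ x ∈ q, x * w = w * x) → ¬ Ft Ω w := fun w hw hwc hwF => by
    have := hF Q w hw hwc hwF.1
    have := hwF.2
    omega
  haveI := hqp.center_nontrivial
  obtain ⟨n, hn⟩ := IsPGroup.iff_card.1 (hqp.to_subgroup (center ↥q))
  have hn0 : n ≠ 0 := by
    rintro rfl
    have := Finite.one_lt_card (α := ↥(center ↥q))
    rw [pow_zero] at hn
    omega
  obtain ⟨zc, hzc⟩ := exists_prime_orderOf_dvd_card' (G := ↥(center ↥q)) 3
    (hn ▸ dvd_pow_self 3 hn0)
  set z : G := ((zc : ↥q) : G) with hz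
  have hzord : orderOf z = 3 := by
    rw [hz, orderOf_coe, orderOf_coe, hzc]
  have hzq : z ∈ q := (zc : ↥q).2
  have hzcent : ∀ x ∈ q, x * z = z * x := fun x hx =>
    congrArg Subtype.val (mem_center_iff.1 zc.2 ⟨x, hx⟩)
  have hzfix : (fixedBy Ω z).ncard ≤ 1 := hF Q z hzq hzcent hzord
  have hz3 : z ^ 3 = 1 := by rw [← hzord]; exact pow_orderOf_eq_one z
  set D := fixedBy Ω t with hD
  have hDle : D.ncard ≤ 4 := hfix t ht.ne_one
  have hDge : 3 ≤ D.ncard := ht.2
  have hzfix_eq : (fixedBy Ω z).ncard + 3 = D.ncard := by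
    have h3 := ((ncard_fixedBy_modEq (Ω := Ω) hzord).symm.trans (ncard_fixedBy_modEq ht.1))
    unfold Nat.ModEq at h3
    rw [← hD] at h3
    omega
  have htz : Commute t z := hzcent t htQ
  have hFzD : fixedBy Ω z ⊆ D := fun p hp => smul_eq_of_commute_fix_le_one hzfix htz hp
  set D0 := D \ fixedBy Ω z with hD0
  have hD03 : D0.ncard = 3 := by
    rw [hD0, Set.ncard_sdiff hFzD (Set.toFinite _)]
    omega
  have hzD : ∀ d ∈ D, z • d ∈ D := fun d hd => by
    rw [hD, ← smul_fixedBy_of_commute (Ω := Ω) htz.symm]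
    exact Set.smul_mem_smul_set hd
  have hzD0 : ∀ d ∈ D0, z • d ∈ D0 := fun d hd =>
    ⟨hzD d hd.1, fun h => hd.2 (by
      have h' : z • z • d = z • d := h
      exact smul_left_cancel _ h')⟩
  have hmove : ∀ d ∈ D0, z • d ≠ d := fun d hd h => hd.2 h
  obtain ⟨d, hd⟩ : D0.Nonempty := Set.nonempty_of_ncard_ne_zero (by omega)
  -- every element of `q` preserving `D` is a power of `z` times one fixing `D` pointwise
  set K0 := q ⊓ fixingSubgroup G D with hK0
  set M := q ⊓ stabilizer G D with hM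
  have hdec : ∀ x ∈ M, ∃ i : Fin 3, (z ^ (i : ℕ))⁻¹ * x ∈ K0 := by
    intro x hx
    have hxD : ∀ e ∈ D, x • e ∈ D := fun e he => by
      rw [← (mem_stabilizer_iff.1 hx.2)]
      exact Set.smul_mem_smul_set he
    have hxc : Commute x z := hzcent x hx.1
    have hxd : x • d ∈ D0 := ⟨hxD d hd.1, fun h => hd.2 (by
      have h' : z • x • d = x • d := h
      rw [← mul_smul, ← hxc.eq, mul_smul] at h'
      exact smul_left_cancel _ h')⟩
    obtain ⟨i, hi⟩ : ∃ i : Fin 3, x • d = (z ^ (i : ℕ)) • d := by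
      rcases eq_of_three hz3 hD03 hzD0 hmove hd hxd with h | h | h
      · exact ⟨0, by simpa using h⟩
      · exact ⟨1, by simpa using h⟩
      · exact ⟨2, by simpa using h⟩
    refine ⟨i, mem_inf.2 ⟨mul_mem (inv_mem (pow_mem hzq _)) (mem_inf.1 hx).1, ?_⟩⟩
    set y := (z ^ (i : ℕ))⁻¹ * x with hy
    have hyd : y • d = d := by rw [hy, mul_smul, hi, inv_smul_smul]
    have hyc : Commute y z :=
      ((Commute.pow_self z _).inv_left).mul_left hxc
    rintro ⟨e, he⟩
    show y • e = e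
    by_cases hez : e ∈ fixedBy Ω z
    · exact smul_eq_of_commute_fix_le_one hzfix hyc hez
    · rcases eq_of_three hz3 hD03 hzD0 hmove hd ⟨he, hez⟩ with h | h | h
      · rw [h, hyd]
      · rw [h, ← mul_smul, hyc.eq, mul_smul, hyd]
      · rw [h, ← mul_smul, (hyc.pow_right 2).eq, mul_smul, hyd]
  have hK0M : K0 ≤ M := inf_le_inf_left _ (fixingSubgroup_le_stabilizer D)
  have hzM : z ∈ M := mem_inf.2 ⟨hzq, mem_stabilizer_iff.2 (by
    rw [hD, smul_fixedBy_of_commute htz.symm])⟩
  have hM3 : Nat.card M ≤ 3 * Nat.card K0 := by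
    have := Nat.card_le_card_of_surjective
      (fun p : Fin 3 × ↥K0 =>
        (⟨z ^ (p.1 : ℕ) * (p.2 : G), mul_mem (pow_mem hzM _) (hK0M p.2.2)⟩ : ↥M))
      (fun ⟨x, hx⟩ => by
        obtain ⟨i, hi⟩ := hdec x hx
        exact ⟨(i, ⟨_, hi⟩), Subtype.ext (mul_inv_cancel_left _ _)⟩)
    simpa [Nat.card_prod] using this
  have htK0 : t ∈ K0 := ⟨htQ, mem_fixing_fixedBy t⟩
  have hlowerK : 3 ≤ Nat.card K0 := by
    have h1 : Nat.card ↥(zpowers t) ≤ Nat.card K0 :=
      Subgroup.card_le_of_le (zpowers_le.2 htK0)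
    rwa [Nat.card_zpowers, ht.1] at h1
  -- `q` does not preserve `D`
  have hMne : ¬ q ≤ M := by
    intro hle
    set K' := K0.subgroupOf q with hK'
    haveI : K'.Normal := ⟨fun k hk g => by
      rw [hK', mem_subgroupOf] at hk ⊢
      refine ⟨(g * k * g⁻¹).2, ?_⟩
      rintro ⟨e, he⟩
      have hgD : ((g : G))⁻¹ • D = D := mem_stabilizer_iff.1 (inv_mem (hle g.2).2)
      have he' : (g : G)⁻¹ • e ∈ D := by rw [← hgD]; exact Set.smul_mem_smul_set he
      have hk' : (k : G) • (g : G)⁻¹ • e = (g : G)⁻¹ • e := hk.2 ⟨_, he'⟩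
      show ((g : G) * k * (g : G)⁻¹) • e = e
      rw [mul_smul, mul_smul, hk', smul_inv_smul]⟩
    have hK'ne : K' ≠ ⊥ := fun h => by
      have : (⟨t, htQ⟩ : ↥q) ∈ K' := htK0
      rw [h, mem_bot] at this
      exact ht.ne_one (congrArg Subtype.val this)
    have hne := CfsgLib.PGroups.inf_center_ne_bot hqp (N := K') hK'ne
    obtain ⟨m, hm⟩ := IsPGroup.iff_card.1 (hqp.to_subgroup (K' ⊓ center ↥q))
    have hm0 : m ≠ 0 := by
      rintro rfl
      exact hne (Subgroup.card_eq_one.1 (by simpa using hm))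
    obtain ⟨w, hw⟩ := exists_prime_orderOf_dvd_card' (G := ↥(K' ⊓ center ↥q)) 3
      (hm ▸ dvd_pow_self 3 hm0)
    refine hnoc ((w : ↥q) : G) (w : ↥q).2
      (fun x hx => congrArg Subtype.val (mem_center_iff.1 w.2.2 ⟨x, hx⟩))
      ⟨by rw [orderOf_coe, orderOf_coe, hw], ?_⟩
    have hwK : ((w : ↥q) : G) ∈ K0 := w.2.1
    exact le_trans hDge (Set.ncard_le_ncard (subset_fixedBy_of_mem_fixing hwK.2) (Set.toFinite _))
  -- the normaliser condition moves `D`
  obtain ⟨g, hgq, hgD, hgM⟩ : ∃ g ∈ q, g • D ≠ D ∧ ∀ x ∈ M, g * x * g⁻¹ ∈ M := by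
    haveI : Group.IsNilpotent ↥q := hqp.isNilpotent
    have hlt : M.subgroupOf q < ⊤ := by
      rw [lt_top_iff_ne_top, ne_eq, subgroupOf_eq_top]
      exact hMne
    obtain ⟨g, hg1, hg2⟩ :=
      SetLike.exists_of_lt (Group.normalizerCondition_of_isNilpotent _ hlt)
    refine ⟨g, g.2, fun h => hg2 ?_, fun x hx => ?_⟩
    · rw [mem_subgroupOf]
      exact ⟨g.2, mem_stabilizer_iff.2 h⟩
    · have := (Subgroup.mem_normalizer_iff.1 hg1 ⟨x, hx.1⟩).1 (by simpa [mem_subgroupOf] using hx)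
      simpa [mem_subgroupOf] using this
  obtain ⟨ω, hω, hωD⟩ : ∃ ω ∈ g • D, ω ∉ D := by
    by_contra hcon
    push Not at hcon
    refine hgD (Set.eq_of_subset_of_ncard_le hcon ?_ (Set.toFinite _))
    exact (Set.ncard_image_of_injective D (MulAction.injective g)).ge
  have hK3 : Nat.card K0 = 3 := by
    have hinj := Nat.card_le_card_of_injective
      (fun p : ↥K0 × ↥K0 =>
        (⟨(p.1 : G) * (g * (p.2 : G) * g⁻¹),
          mul_mem (hK0M p.1.2) (hgM _ (hK0M p.2.2))⟩ : ↥M))
      (by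
        rintro ⟨⟨a, ha⟩, ⟨b, hb⟩⟩ ⟨⟨a', ha'⟩, ⟨b', hb'⟩⟩ he
        have he' : a * (g * b * g⁻¹) = a' * (g * b' * g⁻¹) := congrArg Subtype.val he
        have hy : a'⁻¹ * a = g * (b' * b⁻¹) * g⁻¹ := by
          calc a'⁻¹ * a = a'⁻¹ * (a * (g * b * g⁻¹)) * (g * b * g⁻¹)⁻¹ := by group
            _ = g * (b' * b⁻¹) * g⁻¹ := by rw [he']; group
        have hyK : a'⁻¹ * a ∈ K0 := mul_mem (inv_mem ha') ha
        obtain ⟨k, hk⟩ := hqp ⟨_, hyK.1⟩
        have hone : a'⁻¹ * a = 1 := by
          refine eq_one_of_fixes_more hfix ht ⟨k, ?_⟩ (subset_fixedBy_of_mem_fixing hyK.2) hωD ?_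
          · simpa using congrArg Subtype.val hk
          · obtain ⟨e, he, rfl⟩ := hω
            have : (b' * b⁻¹) • e = e := (mul_mem hb' (inv_mem hb)).2 ⟨e, he⟩
            show (a'⁻¹ * a) • g • e = g • e
            rw [hy, mul_smul, inv_smul_smul, mul_smul, this]
        have e1 : a = a' := (inv_mul_eq_one.1 hone).symm
        subst e1
        have e2 : b = b' := by simpa using he'
        subst e2
        rfl)
    rw [Nat.card_prod] at hinj
    have := hinj.trans hM3
    have := Nat.le_of_mul_le_mul_right this (by omega)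
    omega
  have hK0t : K0 = zpowers t :=
    (Subgroup.eq_of_le_of_card_ge (zpowers_le.2 htK0) (by rw [hK3, Nat.card_zpowers, ht.1])).symm
  -- the centraliser of `t`
  have htM : t ∈ M := hK0M htK0
  have hMcomm : ∀ x ∈ M, x * t = t * x := by
    intro x hx
    obtain ⟨i, hi⟩ := hdec x hx
    rw [hK0t] at hi
    obtain ⟨k, hk⟩ := mem_zpowers_iff.1 hi
    have : x = z ^ (i : ℕ) * t ^ k := by rw [hk, mul_inv_cancel_left]
    rw [this]
    exact ((htz.symm.pow_left _).mul_left ((Commute.refl t).zpow_left k)).eq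
  have hCM : q ⊓ centralizer {t} = M := by
    apply le_antisymm
    · rintro x ⟨hx1, hx2⟩
      refine ⟨hx1, mem_stabilizer_iff.2 ?_⟩
      have hxt : Commute x t := by
        have := mem_centralizer_singleton_iff.1 hx2
        exact this
      exact smul_fixedBy_of_commute hxt
    · exact fun x hx => ⟨hx.1, mem_centralizer_singleton_iff.2 (hMcomm x hx)⟩
  have hzK : z ∉ K0 := fun h => by
    have h1 := Set.ncard_le_ncard (subset_fixedBy_of_mem_fixing h.2) (Set.toFinite _)
    omega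
  have hM9 : Nat.card M = 9 := by
    apply le_antisymm (by omega)
    have hlt : K0 < M := lt_of_le_of_ne hK0M fun h => hzK (h ▸ hzM)
    obtain ⟨a, ha⟩ := IsPGroup.iff_card.1 (hqp.to_le (inf_le_left : M ≤ q))
    have h1 : Nat.card K0 < Nat.card M := Set.Finite.card_lt_card (Set.toFinite _) hlt
    rw [ha, hK3] at h1
    have : 2 ≤ a := by
      by_contra h2
      interval_cases a <;> simp at h1
    rw [ha]
    exact le_trans (by norm_num) (Nat.pow_le_pow_right (by norm_num) this)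
  have hcent : center ↥q = zpowers (⟨z, hzq⟩ : ↥q) := by
    apply le_antisymm
    · intro w hw
      have hwc : ∀ x ∈ q, x * (w : G) = w * x := fun x hx =>
        congrArg Subtype.val (mem_center_iff.1 hw ⟨x, hx⟩)
      have hwM : (w : G) ∈ M := ⟨w.2, mem_stabilizer_iff.2
        (smul_fixedBy_of_commute (Commute.symm (hwc t htQ)))⟩
      obtain ⟨i, hi⟩ := hdec _ hwM
      have hone : (z ^ (i : ℕ))⁻¹ * (w : G) = 1 := by
        by_contra hne
        refine hnoc _ hi.1 (fun x hx => ?_) ⟨?_, ?_⟩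
        · have hxz : Commute x z := hzcent x hx
          exact ((hxz.pow_right _).inv_right.mul_right (hwc x hx)).eq
        · refine orderOf_eq_prime ?_ hne
          rw [hK0t] at hi
          obtain ⟨k, hk⟩ := mem_zpowers_iff.1 hi
          rw [← hk, ← zpow_natCast, ← zpow_mul, mul_comm, zpow_mul, zpow_natCast, ht.pow_three,
            one_zpow]
        · exact le_trans hDge
            (Set.ncard_le_ncard (subset_fixedBy_of_mem_fixing hi.2) (Set.toFinite _))
      have : w = ⟨z, hzq⟩ ^ (i : ℕ) := Subtype.ext (by simpa using (inv_mul_eq_one.1 hone).symm)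
      rw [this]
      exact pow_mem (mem_zpowers _) _
    · rw [zpowers_le]
      exact zc.2
  refine ⟨z, hzq, hzcent, hzfix, hzfix_eq, by rw [hCM, hM9], ?_, ?_⟩
  · rw [hcent, Nat.card_zpowers, ← orderOf_coe, hzord]
  · rw [← hM9]
    exact Set.Finite.card_lt_card (Set.toFinite _)
      (lt_of_le_not_ge (inf_le_left : M ≤ q) hMne)

/-- Three-subgroups centralising `t` have order at most nine. -/
theorem card_le_nine [Finite G] [Finite Ω]
    (hfix : ∀ g : G, g ≠ 1 → (fixedBy Ω g).ncard ≤ 4) (hF : Free G Ω) {t : G} (ht : Ft Ω t)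
    {R : Subgroup G} (hR : IsPGroup 3 R) (hRt : R ≤ centralizer {t}) : Nat.card R ≤ 9 := by
  haveI : Fact (Nat.Prime 3) := ⟨Nat.prime_three⟩
  have hZ : IsPGroup 3 ↥(zpowers t) :=
    IsPGroup.of_card (n := 1) (by rw [Nat.card_zpowers, ht.1, pow_one])
  have hn : R ≤ Subgroup.normalizer (zpowers t : Subgroup G) := fun x hx => by
    rw [Subgroup.mem_normalizer_iff_map_conj_eq, MonoidHom.map_zpowers]
    congr 1
    show x * t * x⁻¹ = t
    rw [mem_centralizer_singleton_iff.1 (hRt hx), mul_inv_cancel_right]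
  obtain ⟨Q, hQ⟩ := (IsPGroup.to_sup_of_normal_right' hR hZ hn).exists_le_sylow
  obtain ⟨z, hL⟩ := local_structure hfix hF Q (hQ (mem_sup_right (mem_zpowers t))) ht
  rw [← hL.cent_card]
  exact Subgroup.card_le_of_le (le_inf ((le_sup_left.trans hQ)) hRt)

/-- Largest three-subgroups inside a subgroup are conjugate in it. -/
theorem exists_conj_of_max [Finite G] (C A B : Subgroup G) {n : ℕ} (hA : A ≤ C) (hB : B ≤ C)
    (hAp : IsPGroup 3 A) (hBp : IsPGroup 3 B)
    (hmax : ∀ R : Subgroup G, R ≤ C → IsPGroup 3 R → Nat.card R ≤ n)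
    (hAn : Nat.card A = n) (hBn : Nat.card B = n) :
    ∃ c ∈ C, ∀ x ∈ A, c * x * c⁻¹ ∈ B := by
  haveI : Fact (Nat.Prime 3) := ⟨Nat.prime_three⟩
  have key : ∀ X : Subgroup G, X ≤ C → IsPGroup 3 X → Nat.card X = n →
      ∃ S : Sylow 3 ↥C, (S : Subgroup ↥C) = X.subgroupOf C := by
    intro X hX hXp hXn
    obtain ⟨S, hS⟩ := (hXp.of_equiv (subgroupOfEquivOfLe hX).symm).exists_le_sylow
    refine ⟨S, (Subgroup.eq_of_le_of_card_ge hS ?_).symm⟩
    rw [Nat.card_congr (subgroupOfEquivOfLe hX).toEquiv, hXn,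
      ← Subgroup.card_map_of_injective (K := (S : Subgroup ↥C)) C.subtype_injective]
    exact hmax _ (map_subtype_le _) (S.2.map _)
  obtain ⟨SA, hSA⟩ := key A hA hAp hAn
  obtain ⟨SB, hSB⟩ := key B hB hBp hBn
  obtain ⟨c, hc⟩ := MulAction.exists_smul_eq (↥C) SA SB
  refine ⟨c, c.2, fun x hx => ?_⟩
  have h1 : MulAut.conj c • (⟨x, hA hx⟩ : ↥C) ∈ MulAut.conj c • (SA : Subgroup ↥C) :=
    Subgroup.smul_mem_pointwise_smul _ _ _ (by rw [hSA]; exact hx)
  rw [← Sylow.coe_subgroup_smul, hc, hSB, mem_subgroupOf] at h1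
  simpa using h1

/-- No element of order three with three fixed points is conjugate to its inverse. -/
theorem not_real [Finite G] [Finite Ω]
    (hfix : ∀ g : G, g ≠ 1 → (fixedBy Ω g).ncard ≤ 4) (ho : OddStab G Ω) (hF : Free G Ω) {t : G}
    (ht : Ft Ω t) (g : G) : g * t * g⁻¹ ≠ t⁻¹ := by
  intro hg
  haveI : Fact (Nat.Prime 3) := ⟨Nat.prime_three⟩
  have hZ : IsPGroup 3 ↥(zpowers t) :=
    IsPGroup.of_card (n := 1) (by rw [Nat.card_zpowers, ht.1, pow_one])
  obtain ⟨Q, hQ⟩ := hZ.exists_le_sylow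
  obtain ⟨z, hL⟩ := local_structure hfix hF Q (hQ (mem_zpowers t)) ht
  set E := (Q : Subgroup G) ⊓ centralizer {t} with hE
  set E' := E.map (MulAut.conj g).toMonoidHom with hE'
  have hEp : IsPGroup 3 E := Q.2.to_le inf_le_left
  have hE'C : E' ≤ centralizer {t} := by
    rintro _ ⟨e, he, rfl⟩
    rw [mem_centralizer_singleton_iff]
    have het : Commute e t := mem_centralizer_singleton_iff.1 he.2
    have : Commute (MulAut.conj g e) (MulAut.conj g t) := het.map (MulAut.conj g).toMonoidHom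
    rw [MulAut.conj_apply g t, hg] at this
    have h2 := this.inv_right
    rw [inv_inv] at h2
    exact h2.eq
  obtain ⟨c, hc, hcE⟩ := exists_conj_of_max (centralizer {t}) E' E hE'C inf_le_right
    (hEp.map _) hEp (fun R hRC hR => card_le_nine hfix hF ht hR hRC)
    (by rw [hE', Subgroup.card_map_of_injective (MulAut.conj g).injective, hL.cent_card])
    hL.cent_card
  set g1 := c * g with hg1
  have hinv : g1 * t * g1⁻¹ = t⁻¹ := by
    calc g1 * t * g1⁻¹ = c * (g * t * g⁻¹) * c⁻¹ := by rw [hg1]; group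
      _ = t⁻¹ := by
        rw [hg]
        have : Commute c t := mem_centralizer_singleton_iff.1 hc
        rw [this.inv_right.eq, mul_inv_cancel_right]
  have hztE : z ∈ E := ⟨hL.zmem, mem_centralizer_singleton_iff.2
    (hL.zcentral t (hQ (mem_zpowers t))).symm⟩
  have hzgE : g1 * z * g1⁻¹ ∈ E := by
    have := hcE _ (mem_map_of_mem _ hztE)
    convert this using 1
    simp [hg1, mul_assoc]
  -- the order of `g1` is even
  obtain ⟨k, hk⟩ : 2 ∣ orderOf g1 := by
    by_contra hodd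
    have hev : ∀ j : ℕ, g1 ^ (2 * j + 1) * t * (g1 ^ (2 * j + 1))⁻¹ = t⁻¹ := by
      intro j
      induction j with
      | zero => simpa using hinv
      | succ j ih =>
        have e : 2 * (j + 1) + 1 = (2 * j + 1) + 1 + 1 := by ring
        rw [e, pow_succ', pow_succ']
        calc g1 * (g1 * g1 ^ (2 * j + 1)) * t * (g1 * (g1 * g1 ^ (2 * j + 1)))⁻¹
            = g1 * (g1 * (g1 ^ (2 * j + 1) * t * (g1 ^ (2 * j + 1))⁻¹) * g1⁻¹) * g1⁻¹ := by group
          _ = g1 * (g1 * t⁻¹ * g1⁻¹) * g1⁻¹ := by rw [ih]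
          _ = g1 * (g1 * t * g1⁻¹)⁻¹ * g1⁻¹ := by group
          _ = t⁻¹ := by rw [hinv, inv_inv, hinv]
    obtain ⟨j, hj⟩ : ∃ j, orderOf g1 = 2 * j + 1 := ⟨orderOf g1 / 2, by omega⟩
    have := hev j
    rw [← hj, pow_orderOf_eq_one, inv_one, mul_one, one_mul] at this
    have h3 := ht.pow_three
    have : t ^ 2 = 1 := by rw [pow_two]; nth_rw 2 [this]; exact mul_inv_cancel t
    apply ht.ne_one
    rw [pow_succ, this, one_mul] at h3
    exact h3
  set j := g1 ^ k with hjdef
  have hk0 : 0 < k := by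
    have := orderOf_pos g1
    omega
  have hjord : orderOf j = 2 := by
    rw [hjdef, orderOf_pow_of_dvd hk0.ne' ⟨2, by omega⟩, hk, Nat.mul_div_cancel _ hk0]
  have hjfix : ∀ p : Ω, j • p ≠ p := fun p hp => by
    have : p ∈ fixedBy Ω j := hp
    rw [ho j hjord] at this
    exact this
  have hgD : g1 • fixedBy Ω t = fixedBy Ω t := by
    rw [← fixedBy_conj, hinv, fixedBy_inv]
  have hjD : j • fixedBy Ω t = fixedBy Ω t :=
    mem_stabilizer_iff.1 ((stabilizer G (fixedBy Ω t)).pow_mem (mem_stabilizer_iff.2 hgD) k)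
  rcases Nat.lt_or_ge (fixedBy Ω t).ncard 4 with h3 | h4
  · -- an involution cannot move all of three points
    have h3' : (fixedBy Ω t).ncard = 3 := by have := ht.2; omega
    obtain ⟨a, b, c', hab, hac, hbc, hD⟩ := Set.ncard_eq_three.1 h3'
    have hmem : ∀ p ∈ ({a, b, c'} : Set Ω), j • p ∈ ({a, b, c'} : Set Ω) := fun p hp => by
      rw [← hD] at hp ⊢
      rw [← hjD]
      exact Set.smul_mem_smul_set hp
    have hinvol : ∀ p : Ω, j • j • p = p := fun p => by
      rw [← mul_smul, ← pow_two, ← hjord, pow_orderOf_eq_one, one_smul]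
    have ha := hmem a (by simp)
    have hb := hmem b (by simp)
    have hc' := hmem c' (by simp)
    simp only [Set.mem_insert_iff, Set.mem_singleton_iff] at ha hb hc'
    have := hjfix a
    have := hjfix b
    have := hjfix c'
    have := hinvol a
    have := hinvol b
    have := hinvol c'
    grind
  · have h4' : (fixedBy Ω t).ncard = 4 := by have := hfix t ht.ne_one; omega
    have hz1 : (fixedBy Ω z).ncard = 1 := by have := hL.zfix_eq; omega
    obtain ⟨p, hp⟩ := Set.ncard_eq_one.1 hz1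
    have hcomm : Commute (g1 * z * g1⁻¹) z := hL.zcentral _ hzgE.1
    have hmem : p ∈ fixedBy Ω (g1 * z * g1⁻¹) :=
      smul_eq_of_commute_fix_le_one hL.zfix hcomm (by rw [hp]; rfl)
    rw [fixedBy_conj, hp, Set.smul_set_singleton, Set.mem_singleton_iff] at hmem
    have hg1p : p ∈ fixedBy Ω g1 := hmem.symm
    exact hjfix p (mem_fixedBy_pow hg1p k)

end CfsgLib.FixityFour.OddFreeAux
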