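import Cfsg.Agent.Lib.FixityFour.WithFixedCore

/-!
# Fixity four: a normal elementary abelian group meeting a point stabiliser (main theorem)

The central case is an explicit hypothesis here.
-/

set_option autoImplicit false
set_option linter.unusedSectionVars false
set_option linter.style.haveILetI false

namespace CfsgLib.FixityFour.WF

open Subgroup MulAction CfsgLib.PGroups
open scoped Pointwise

universe u v

variable {S : Type u} {Ω : Type v} [Group S] [MulAction S Ω] [Finite S] [Finite Ω] {E : Subgroup S}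
  (h : TwoAct S Ω) [hEn : E.Normal] (hEc : IsMulCommutative E)
  (hE2 : ∀ e ∈ E, e ^ 2 = 1)

/-- The hypotheses of the disjoint case: blocks are disjoint and none is normal. -/
def Disj (E : Subgroup S) (Ω : Type v) [MulAction S Ω] : Prop :=
  (∀ D D' : Set Ω, IsBlock E D → IsBlock E D' → D ≠ D' → Disjoint D D') ∧
    ∀ D : Set Ω, IsBlock E D → ∃ s : S, s • D ≠ D

include h hEc hE2

theorem mem_grp_of_fix_point (hd : Disj E Ω) {D : Set Ω} (hD : IsBlock E D) {d : Ω} (hdD : d ∈ D)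
    {a : S} (ha : a ∈ E) (had : a • d = d) : a ∈ grp E D := by
  by_cases h1 : a = 1
  · rw [h1]; exact one_mem _
  exact fixedBy_eq_of_meet h hE2 ha h1 had (fun D' hb hne => hd.1 D' D hb hD hne) hdD

theorem card_E_le (hd : Disj E Ω) {D : Set Ω} (hD : IsBlock E D) :
    Nat.card E ≤ 4 * Nat.card (grp E D) := by
  obtain ⟨d, hdD⟩ := hD.nonempty h hE2
  exact card_le_four_mul E _ (hD.ncard_eq h hE2) (fun a ha => smul_block hEc hD ha) hdD
    fun a ha had => mem_grp_of_fix_point h hEc hE2 hd hD hdD ha had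

theorem card_grp_le (hd : Disj E Ω) {D : Set Ω} (hD : IsBlock E D) : Nat.card (grp E D) ≤ 4 := by
  obtain ⟨s, hs⟩ := hd.2 D hD
  have hD' := hD.smul (E := E) s
  obtain ⟨d, hdD'⟩ := hD'.nonempty h hE2
  refine (card_le_of_fixing h hE2 hD (grp E D) inf_le_right (T := s • D)
    (fun k hk c hc => smul_mem_of_stab (smul_block hEc hD' (mem_grp.1 hk).1) hc) hdD'
    (Set.disjoint_left.1 (hd.1 _ _ hD' hD hs) hdD')).trans ?_
  rw [hD'.ncard_eq h hE2]

theorem mul_injective {D D' : Set Ω} (hD : IsBlock E D) (hD' : IsBlock E D') (hne : D ≠ D') :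
    Function.Injective (fun p : ↥(grp E D) × ↥(grp E D') =>
      (⟨(p.1 : S) * p.2, mul_mem p.1.2.1 p.2.2.1⟩ : E)) := by
  rintro ⟨a, b⟩ ⟨a', b'⟩ heq
  have h1 : (a : S) * b = a' * b' := congrArg Subtype.val heq
  have h2 : (a' : S)⁻¹ * a = b' * (b : S)⁻¹ := by
    rw [eq_mul_inv_iff_mul_eq, mul_assoc, h1, inv_mul_cancel_left]
  have h3 : (a' : S)⁻¹ * a = 1 :=
    grp_inter h hE2 hD hD' hne (mul_mem (inv_mem a'.2) a.2)
      (by rw [h2]; exact mul_mem b'.2 (inv_mem b.2))
  have ha : a' = a := Subtype.ext (inv_mul_eq_one.1 h3)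
  rw [h3] at h2
  exact Prod.ext ha.symm (Subtype.ext (mul_inv_eq_one.1 h2.symm).symm)

theorem card_sq_le {D : Set Ω} (hD : IsBlock E D) {s : S} (hs : s • D ≠ D) :
    Nat.card (grp E D) * Nat.card (grp E D) ≤ Nat.card E := by
  have := Nat.card_le_card_of_injective _ (mul_injective h hEc hE2 (hD.smul s) hD hs)
  rwa [Nat.card_prod, card_grp_smul] at this

theorem card_grp_even {D : Set Ω} (hD : IsBlock E D) :
    Nat.card (grp E D) = 2 ∨ 4 ≤ Nat.card (grp E D) := by
  obtain ⟨x, hx, h1⟩ := grp_ne_bot h hE2 hD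
  obtain ⟨n, hn⟩ := IsPGroup.iff_card.1 (h.pGroup.to_subgroup (grp E D))
  rw [hn]
  rcases n with _ | _ | n
  · exfalso
    rw [pow_zero, Subgroup.card_eq_one] at hn
    rw [hn, mem_bot] at hx
    exact h1 hx
  · exact Or.inl (by norm_num)
  · right
    calc 4 = 2 ^ 2 := by norm_num
      _ ≤ _ := Nat.pow_le_pow_right two_pos (by omega)

/-- Blocks of fours: an element fixing one block pointwise and stabilising another lies in `E`. -/
theorem mem_grp_of_fixing_stab (hd : Disj E Ω) {D D' : Set Ω} (hD : IsBlock E D)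
    (hD' : IsBlock E D') (hne : D ≠ D') (hF : Nat.card (grp E D) = 4) {k : S}
    (hk : k ∈ fixingSubgroup S D) (hk' : k • D' = D') : k ∈ grp E D := by
  obtain ⟨d, hdD'⟩ := hD'.nonempty h hE2
  have hdD : d ∉ D := Set.disjoint_right.1 (hd.1 _ _ hD hD' hne) hdD'
  have hcd : k • d ∈ D' := smul_mem_of_stab hk' hdD'
  obtain ⟨f, hf, hfd⟩ := transitive_of_card (grp E D) ⊥ (hD'.ncard_eq h hE2)
    (fun a ha => smul_block hEc hD' (mem_grp.1 ha).1) hdD'
    (fun a ha had => mem_bot.2 (one_of_fix h hE2 hD ha.2 hdD had))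
    (by rw [hF, Subgroup.card_bot]) hcd
  have h1 : f⁻¹ * k = 1 :=
    one_of_fix h hE2 hD (mul_mem (inv_mem hf.2) hk) hdD (by rw [mul_smul, ← hfd, inv_smul_smul])
  rw [← inv_mul_eq_one.1 h1]
  exact hf

theorem exists_fixing_translate (hd : Disj E Ω) {D₀ : Set Ω}
    (hE : 4 * Nat.card (grp E D₀) ≤ Nat.card E) (hD : IsBlock E D₀) {x : S} (hx : x ∈ centralizer (E : Set S)) :
    ∃ e ∈ E, e * x ∈ fixingSubgroup S D₀ := by
  obtain ⟨d, hdD⟩ := hD.nonempty h hE2
  have hA : ∀ a ∈ E, a • D₀ = D₀ := fun a ha => smul_block hEc hD ha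
  have hF : ∀ a ∈ E, a • d = d → a ∈ grp E D₀ := fun a ha had =>
    mem_grp_of_fix_point h hEc hE2 hd hD hdD ha had
  have htr : ∀ c ∈ D₀, ∃ a ∈ E, a • d = c := fun c hc =>
    transitive_of_card E _ (hD.ncard_eq h hE2) hA hdD hF hE hc
  obtain ⟨e, he, hed⟩ := htr _ (smul_mem_of_stab (smul_block_centralizer hD hx) hdD)
  refine ⟨e⁻¹, inv_mem he, fixing_of_commute E htr (fun a ha => ?_) ?_⟩
  · exact (mem_centralizer_iff.1
      (mul_mem (le_centralizer' h hEc hE2 (inv_mem he)) hx) a ha).symm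
  · rw [mul_smul, ← hed, inv_smul_smul]

/-- Eight with blocks of order two: `E` is self-centralising. -/
theorem centralizer_eq_eight (hd : Disj E Ω) (hmax : ∀ E' : Subgroup S, E'.Normal →
      IsMulCommutative E' → (∀ e ∈ E', e ^ 2 = 1) → E ≤ E' → E' = E)
    {D : Set Ω} (hD : IsBlock E D) (hE : Nat.card E = 8) (hF : Nat.card (grp E D) = 2) :
    centralizer (E : Set S) = E := by
  classical
  haveI : Fact (Nat.Prime 2) := ⟨Nat.prime_two⟩
  obtain ⟨s, hs⟩ := hd.2 D hD
  have hD' := hD.smul (E := E) s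
  obtain ⟨d, hdD'⟩ := hD'.nonempty h hE2
  set C : Subgroup S := centralizer (E : Set S) with hCdef
  have hle : E ≤ C := le_centralizer' h hEc hE2
  set K : Subgroup S := C ⊓ fixingSubgroup S D with hK
  have hK4 : Nat.card K ≤ 4 := by
    refine (card_le_of_fixing h hE2 hD K inf_le_right (T := s • D)
      (fun k hk c hc => smul_mem_of_stab (smul_block_centralizer hD' hk.1) hc) hdD'
      (Set.disjoint_left.1 (hd.1 _ _ hD' hD hs) hdD')).trans ?_
    rw [hD'.ncard_eq h hE2]
  have hdec : ∀ x ∈ C, ∃ e ∈ E, e * x ∈ K := fun x hx => by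
    obtain ⟨e, he, hex⟩ := exists_fixing_translate h hEc hE2 hd (by omega) hD hx
    exact ⟨e, he, mul_mem (hle he) hx, hex⟩
  have hsq : ∀ x ∈ C, ∀ e ∈ E, (e * x) ^ 2 = x ^ 2 := fun x hx e he => by
    have hc : Commute e x := mem_centralizer_iff.1 hx e he
    rw [hc.mul_pow, hE2 e he, one_mul]
  by_cases hall : ∀ x ∈ C, x ^ 2 = 1
  · haveI : C.Normal := Subgroup.normal_centralizer
    refine hmax C inferInstance ⟨⟨fun a b => Subtype.ext ?_⟩⟩ hall hle
    show (a : S) * b = b * a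
    have ha : (a : S)⁻¹ = a := inv_eq_of_mul_eq_one_right (by rw [← sq]; exact hall _ a.2)
    have hb : (b : S)⁻¹ = b := inv_eq_of_mul_eq_one_right (by rw [← sq]; exact hall _ b.2)
    have hab : ((a : S) * b)⁻¹ = a * b :=
      inv_eq_of_mul_eq_one_right (by rw [← sq]; exact hall _ (mul_mem a.2 b.2))
    rw [← hab, mul_inv_rev, ha, hb]
  exfalso
  push Not at hall
  obtain ⟨x, hx, hx2⟩ := hall
  obtain ⟨e, he, hk⟩ := hdec x hx
  set k := e * x with hkdef
  have hk2 : k ^ 2 ≠ 1 := by rw [hkdef, hsq x hx e he]; exact hx2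
  obtain ⟨t, ht, ht1⟩ := grp_ne_bot h hE2 hD
  have htK : t ∈ K := ⟨hle ht.1, ht.2⟩
  have hzle : zpowers k ≤ K := zpowers_le.2 hk
  have hk4 : orderOf k = 4 := by
    have h1 : orderOf k ≤ 4 := by
      rw [← Nat.card_zpowers]
      exact (Subgroup.card_le_of_le hzle).trans hK4
    obtain ⟨n, hn⟩ := IsPGroup.iff_orderOf.1 h.pGroup k
    rcases n with _ | _ | n
    · refine absurd ?_ hk2
      have hk1 : k = 1 := orderOf_eq_one_iff.1 (by simpa using hn)
      rw [hk1, one_pow]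
    · exact absurd (orderOf_dvd_iff_pow_eq_one.1 (by rw [hn]; norm_num)) hk2
    · have : 4 ≤ orderOf k := by
        rw [hn]
        exact le_trans (by norm_num) (Nat.pow_le_pow_right two_pos (by omega : 2 ≤ n + 1 + 1))
      exact le_antisymm h1 this
  have hKeq : zpowers k = K :=
    eq_of_le_of_card_ge hzle (by rw [Nat.card_zpowers, hk4]; exact hK4)
  have hmem : ∀ y ∈ K, y = 1 ∨ y = k ∨ y = k ^ 2 ∨ y = k ^ 3 := by
    intro y hy
    rw [← hKeq] at hy
    obtain ⟨i, hi⟩ := ((isOfFinOrder_of_finite k).mem_zpowers_iff_mem_range_orderOf).1 hy |>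
      (fun hh => by simpa [Finset.mem_image] using hh)
    rw [hk4] at hi
    rcases hi with ⟨hi, rfl⟩
    interval_cases i <;> simp
  have hkp : k ^ 4 = 1 := by rw [← hk4]; exact pow_orderOf_eq_one k
  have ht2 : t = k ^ 2 := by
    rcases hmem t htK with h0 | h0 | h0 | h0
    · exact absurd h0 ht1
    · exact absurd (h0 ▸ hE2 t ht.1) hk2
    · exact h0
    · have h6 := h0 ▸ hE2 t ht.1
      rw [← pow_mul] at h6
      refine absurd ?_ hk2
      calc k ^ 2 = k ^ 2 * k ^ 4 := by rw [hkp, mul_one]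
        _ = k ^ (3 * 2) := by rw [← pow_add]
        _ = 1 := h6
  have hsqK : ∀ y ∈ K, y ^ 2 = 1 ∨ y ^ 2 = t := by
    intro y hy
    rw [ht2]
    rcases hmem y hy with rfl | rfl | rfl | rfl
    · exact Or.inl (one_pow _)
    · exact Or.inr rfl
    · exact Or.inl (by rw [← pow_mul]; exact hkp)
    · exact Or.inr (by
        rw [← pow_mul, show 3 * 2 = 4 + 2 from rfl, pow_add, hkp, one_mul])
  have hsqC : ∀ y ∈ C, y ^ 2 = 1 ∨ y ^ 2 = t := fun y hy => by
    obtain ⟨a, ha, hay⟩ := hdec y hy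
    have := hsqK _ hay
    rwa [hsq y hy a ha] at this
  haveI : C.Normal := Subgroup.normal_centralizer
  have hcen : ∀ g : S, g * t * g⁻¹ = t := by
    intro g
    have h2 := hsqC _ ((inferInstance : C.Normal).conj_mem k hk.1 g)
    rw [conj_pow, ← ht2] at h2
    exact h2.resolve_left fun h1 => ht1 (conj_eq_one_iff.1 h1)
  refine hs ?_
  rw [← fixedBy_eq h hE2 hD ht ht1, ← fixedBy_conj, hcen s]

/-- Fours: `E` is self-centralising. -/
theorem centralizer_eq_sixteen (hd : Disj E Ω) {D : Set Ω} (hD : IsBlock E D)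
    (hE : Nat.card E = 16) (hF : Nat.card (grp E D) = 4) : centralizer (E : Set S) = E := by
  obtain ⟨s, hs⟩ := hd.2 D hD
  have hD' := hD.smul (E := E) s
  refine le_antisymm (fun x hx => ?_) (le_centralizer' h hEc hE2)
  obtain ⟨e, he, hex⟩ := exists_fixing_translate h hEc hE2 hd (by omega) hD hx
  have := mem_grp_of_fixing_stab h hEc hE2 hd hD hD' (Ne.symm hs) hF hex
    (by rw [mul_smul, smul_block_centralizer hD' hx, smul_block hEc hD' he])
  simpa using mul_mem (inv_mem he) this.1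

theorem card_grp_four (hd : Disj E Ω) (hE : Nat.card E = 16) {D : Set Ω} (hD : IsBlock E D) :
    Nat.card (grp E D) = 4 := by
  have h1 := card_E_le h hEc hE2 hd hD
  have h2 := card_grp_le h hEc hE2 hd hD
  omega

/-- The orbit of a block has even order at most four. -/
theorem card_orbit_le (hd : Disj E Ω) (hE : Nat.card E = 16) {D : Set Ω} (hD : IsBlock E D) :
    2 ∣ Nat.card (orbit S D) ∧ Nat.card (orbit S D) ≤ 4 := by
  classical
  have hblk : ∀ b : orbit S D, IsBlock E (b : Set Ω) := fun b => by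
    obtain ⟨g, hg⟩ := b.2
    exact hg ▸ hD.smul g
  let T : (b : orbit S D) → Type u := fun b => {x : ↥(grp E (b : Set Ω)) // x ≠ 1}
  let g : (Σ b, T b) → {x : E // x ≠ 1} := fun p =>
    ⟨⟨((p.2 : ↥(grp E (p.1 : Set Ω))) : S), (p.2 : ↥(grp E (p.1 : Set Ω))).2.1⟩,
      fun h1 => p.2.2 (Subtype.ext (congrArg Subtype.val h1 :))⟩
  have hg : Function.Injective g := by
    rintro ⟨b, x⟩ ⟨b', x'⟩ hxx
    have hv : ((x : ↥(grp E (b : Set Ω))) : S) = ((x' : ↥(grp E (b' : Set Ω))) : S) :=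
      congrArg (fun z : {x : E // x ≠ 1} => ((z : E) : S)) hxx
    have hb : b = b' := by
      refine Subtype.ext ?_
      by_contra hne
      refine x.2 (Subtype.ext ?_)
      exact grp_inter h hE2 (hblk b) (hblk b') hne x.1.2 (hv ▸ x'.1.2)
    subst hb
    exact Sigma.ext rfl (heq_of_eq (Subtype.ext (Subtype.ext hv)))
  have hT : ∀ b, Nat.card (T b) = 3 := fun b => by
    haveI : Fintype ↥(grp E (b : Set Ω)) := Fintype.ofFinite _
    have h4 := card_grp_four h hEc hE2 hd hE (hblk b)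
    rw [Nat.card_eq_fintype_card] at h4 ⊢
    rw [Fintype.card_subtype_compl, h4, Fintype.card_subtype_eq]
  have hle := Nat.card_le_card_of_injective g hg
  haveI : Fintype (orbit S D) := Fintype.ofFinite _
  haveI : Fintype E := Fintype.ofFinite _
  rw [Nat.card_sigma] at hle
  simp only [hT, Finset.sum_const, Finset.card_univ, smul_eq_mul] at hle
  have h15 : Nat.card {x : E // x ≠ 1} = 15 := by
    rw [Nat.card_eq_fintype_card, Fintype.card_subtype_compl, Fintype.card_subtype_eq,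
      ← Nat.card_eq_fintype_card, hE]
  rw [h15, ← Nat.card_eq_fintype_card] at hle
  obtain ⟨n, hn⟩ := (IsPGroup.iff_card.1 h.pGroup)
  have hdvd : Nat.card (orbit S D) ∣ 2 ^ n := by
    rw [← hn, Nat.card_coe_set_eq, ← index_stabilizer]
    exact (stabilizer S D).index_dvd_card
  obtain ⟨m, -, hm⟩ := (Nat.dvd_prime_pow Nat.prime_two).1 hdvd
  obtain ⟨s, hs⟩ := hd.2 D hD
  have h1 : 1 < Nat.card (orbit S D) := by
    rw [Nat.card_coe_set_eq]
    exact (Set.one_lt_ncard (Set.toFinite _)).2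
      ⟨s • D, mem_orbit D s, D, mem_orbit_self D, hs⟩
  rw [hm] at h1 hle ⊢
  rcases m with _ | _ | _ | m
  · simp at h1
  · norm_num
  · norm_num
  · exfalso
    have : 8 ≤ 2 ^ (m + 3) :=
      le_trans (by norm_num) (Nat.pow_le_pow_right two_pos (by omega : 3 ≤ m + 3))
    omega

/-- Fours: an element fixing a block pointwise lies in `E`. -/
theorem fixing_eq_grp (hd : Disj E Ω) (hE : Nat.card E = 16) {D : Set Ω} (hD : IsBlock E D) {k : S}
    (hk : k ∈ fixingSubgroup S D) : k ∈ grp E D := by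
  haveI : Fact (Nat.Prime 2) := ⟨Nat.prime_two⟩
  have hkD : k • D = D := smul_set_eq_of_mem_fixing hk
  have hP : IsPGroup 2 (zpowers k) := h.pGroup.to_subgroup _
  have h1 := hP.card_modEq_card_fixedPoints (orbit S D)
  let b₀ : orbit S D := ⟨D, mem_orbit_self D⟩
  have hb₀ : b₀ ∈ fixedPoints (zpowers k) (orbit S D) := by
    rintro ⟨a, ha⟩
    refine Subtype.ext ?_
    show a • D = D
    have : zpowers k ≤ stabilizer S D := zpowers_le.2 hkD
    exact this ha
  have h2 : 2 ∣ Nat.card (fixedPoints (zpowers k) (orbit S D)) :=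
    Nat.modEq_zero_iff_dvd.1 (h1.symm.trans
      (Nat.modEq_zero_iff_dvd.2 (card_orbit_le h hEc hE2 hd hE hD).1))
  have h3 : 1 < (fixedPoints (zpowers k) (orbit S D)).ncard := by
    rw [← Nat.card_coe_set_eq]
    have h0 : Nat.card (fixedPoints (zpowers k) (orbit S D)) ≠ 0 := by
      haveI : Nonempty (fixedPoints (zpowers k) (orbit S D)) := ⟨⟨b₀, hb₀⟩⟩
      exact (Nat.card_pos).ne'
    omega
  obtain ⟨b, hb, hbne⟩ := Set.exists_ne_of_one_lt_ncard h3 b₀
  obtain ⟨g, hg⟩ := b.2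
  have hD' : IsBlock E (b : Set Ω) := hg ▸ hD.smul g
  have hkb : k • (b : Set Ω) = b := congrArg Subtype.val (hb ⟨k, mem_zpowers k⟩)
  exact mem_grp_of_fixing_stab h hEc hE2 hd hD hD' (fun he => hbne (Subtype.ext he.symm))
    (card_grp_four h hEc hE2 hd hE hD) hk hkb

theorem card_stabilizer_le (hd : Disj E Ω) (hE : Nat.card E = 16) {D : Set Ω} (hD : IsBlock E D) :
    Nat.card (stabilizer S D) ≤ 32 := by
  classical
  let φ : stabilizer S D →* Equiv.Perm D :=
    { toFun := fun g =>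
        { toFun := fun c => ⟨(g : S) • (c : Ω), smul_mem_of_stab g.2 c.2⟩
          invFun := fun c => ⟨(g : S)⁻¹ • (c : Ω), smul_mem_of_stab (inv_smul_eq_iff.2 g.2.symm) c.2⟩
          left_inv := fun c => Subtype.ext (inv_smul_smul _ _)
          right_inv := fun c => Subtype.ext (smul_inv_smul _ _) }
      map_one' := Equiv.ext fun c => Subtype.ext (one_smul S (c : Ω))
      map_mul' := fun a b => Equiv.ext fun c => Subtype.ext (mul_smul (a : S) b (c : Ω)) }
  have hker : Nat.card φ.ker ≤ 4 := by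
    rw [← card_grp_four h hEc hE2 hd hE hD]
    refine Nat.card_le_card_of_injective (fun x => ⟨((x : stabilizer S D) : S),
      fixing_eq_grp h hEc hE2 hd hE hD ?_⟩) ?_
    · rw [mem_fixingSubgroup_iff]
      intro c hc
      exact congrArg Subtype.val (Equiv.congr_fun x.2 ⟨c, hc⟩)
    · intro a b hab
      exact Subtype.ext (Subtype.ext (congrArg Subtype.val hab :))
  have hrange : Nat.card φ.range ≤ 8 := by
    have h24 : Nat.card φ.range ∣ 24 := by
      have := φ.range.card_subgroup_dvd_card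
      rw [Nat.card_perm, Nat.card_coe_set_eq, hD.ncard_eq h hE2] at this
      exact this
    obtain ⟨n, hn⟩ := IsPGroup.iff_card.1
      (((h.pGroup.to_subgroup (stabilizer S D))).of_surjective φ.rangeRestrict
        φ.rangeRestrict_surjective)
    rw [hn] at h24 ⊢
    have hn5 : n < 5 := by
      by_contra hc
      have := Nat.le_of_dvd (by norm_num) h24
      have : 32 ≤ 2 ^ n := le_trans (by norm_num) (Nat.pow_le_pow_right two_pos (not_lt.1 hc))
      omega
    interval_cases n <;> norm_num at *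
  have e := Subgroup.card_mul_index φ.ker
  rw [Subgroup.index_ker] at e
  calc Nat.card (stabilizer S D) = Nat.card φ.ker * Nat.card φ.range := e.symm
    _ ≤ 4 * 8 := Nat.mul_le_mul hker hrange

/-- An involution on a four-group fixes a non-identity element. -/
theorem exists_fixed_grp {D : Set Ω} (hD : IsBlock E D) {x : S} (hx2 : x ^ 2 ∈ E)
    (hxD : x • D = D) : ∃ f ∈ grp E D, f ≠ 1 ∧ f * x = x * f := by
  obtain ⟨f, hf, hf1⟩ := grp_ne_bot h hE2 hD
  have hc : x * f * x⁻¹ ∈ grp E D := by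
    have := conj_mem_grp hf x
    rwa [hxD] at this
  by_cases hfx : x * f * x⁻¹ = f
  · exact ⟨f, hf, hf1, (mul_inv_eq_iff_eq_mul.1 hfx).symm⟩
  refine ⟨f * (x * f * x⁻¹), mul_mem hf hc, ?_, ?_⟩
  · intro h1
    rw [mul_eq_one_iff_eq_inv, inv_eq h hEc hE2 hc.1] at h1
    exact hfx h1.symm
  · have h2 : x * (x * f * x⁻¹) * x⁻¹ = f := by
      have hcm := comm h hEc hE2 hx2 hf.1
      calc x * (x * f * x⁻¹) * x⁻¹ = x ^ 2 * f * (x ^ 2)⁻¹ := by
            rw [pow_two, mul_inv_rev]; simp only [mul_assoc]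
        _ = f := by rw [hcm, mul_inv_cancel_right]
    refine (mul_inv_eq_iff_eq_mul.1 ?_).symm
    calc x * (f * (x * f * x⁻¹)) * x⁻¹ = (x * f * x⁻¹) * (x * (x * f * x⁻¹) * x⁻¹) := by
          simp only [mul_assoc, inv_mul_cancel_left]
      _ = _ := by rw [h2]; exact comm h hEc hE2 hc.1 hf.1

/-- An element centralising a block group and stabilising that other block lies in `E`. -/
theorem mem_of_centralizes (hd : Disj E Ω) (hE : Nat.card E = 16) {D D' : Set Ω}
    (hD : IsBlock E D) (hD' : IsBlock E D') (hne : D ≠ D') {x : S}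
    (hx : ∀ f ∈ grp E D, x * f = f * x) (hxD' : x • D' = D') : x ∈ E := by
  obtain ⟨d, hdD'⟩ := hD'.nonempty h hE2
  have hdD : d ∉ D := Set.disjoint_right.1 (hd.1 _ _ hD hD' hne) hdD'
  have htr : ∀ c ∈ D', ∃ a ∈ grp E D, a • d = c := fun c hc =>
    transitive_of_card (grp E D) ⊥ (hD'.ncard_eq h hE2)
      (fun a ha => smul_block hEc hD' (mem_grp.1 ha).1) hdD'
      (fun a ha had => mem_bot.2 (one_of_fix h hE2 hD ha.2 hdD had))
      (by rw [card_grp_four h hEc hE2 hd hE hD, Subgroup.card_bot]) hc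
  obtain ⟨f, hf, hfd⟩ := htr _ (smul_mem_of_stab hxD' hdD')
  have hfix : f⁻¹ * x ∈ fixingSubgroup S D' := by
    refine fixing_of_commute _ htr (fun a ha => ?_) (by rw [mul_smul, ← hfd, inv_smul_smul])
    rw [mul_assoc, hx a ha, ← mul_assoc, comm h hEc hE2 (inv_mem hf.1) ha.1, mul_assoc]
  simpa using mul_mem hf.1 (fixing_eq_grp h hEc hE2 hd hE hD' hfix).1

theorem card_centralizer_le_four (hd : Disj E Ω) (hE : Nat.card E = 16) {D : Set Ω}
    (hD : IsBlock E D) {x : S} (hxE : x ∉ E) :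
    Nat.card ↥(E ⊓ centralizer ({x} : Set S)) ≤ 4 := by
  classical
  set C : Subgroup S := E ⊓ centralizer ({x} : Set S) with hC
  by_contra hlt
  push Not at hlt
  obtain ⟨n, hn⟩ := IsPGroup.iff_card.1 (h.pGroup.to_subgroup C)
  have h8 : 8 ≤ Nat.card C := by
    rw [hn] at hlt ⊢
    have : 2 < n := by
      by_contra hc
      have : 2 ^ n ≤ 4 := le_trans (Nat.pow_le_pow_right two_pos (not_lt.1 hc)) (by norm_num)
      omega
    calc 8 = 2 ^ 3 := by norm_num
      _ ≤ _ := Nat.pow_le_pow_right two_pos this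
  have hcomm : ∀ c ∈ C, x * c = c * x := fun c hc => (mem_centralizer_singleton_iff.1 hc.2).symm
  obtain ⟨s, hs⟩ := hd.2 D hD
  have hD' := hD.smul (E := E) s
  have hstab : ∀ D : Set Ω, IsBlock E D → x • D = D := by
    intro D hD
    have hnt : ∃ f ∈ grp E D, f ∈ C ∧ f ≠ 1 := by
      by_contra hno
      push Not at hno
      have hinj : Function.Injective (fun p : ↥(grp E D) × ↥C =>
          (⟨(p.1 : S) * p.2, mul_mem p.1.2.1 p.2.2.1⟩ : E)) := by
        rintro ⟨a, b⟩ ⟨a', b'⟩ heq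
        have h1 : (a : S) * b = a' * b' := congrArg Subtype.val heq
        have h2 : (a' : S)⁻¹ * a = b' * (b : S)⁻¹ := by
          rw [eq_mul_inv_iff_mul_eq, mul_assoc, h1, inv_mul_cancel_left]
        have h3 : (a' : S)⁻¹ * a = 1 :=
          hno _ (mul_mem (inv_mem a'.2) a.2) (h2 ▸ mul_mem b'.2 (inv_mem b.2))
        rw [h3] at h2
        exact Prod.ext (Subtype.ext (inv_mul_eq_one.1 h3)).symm
          (Subtype.ext (mul_inv_eq_one.1 h2.symm).symm)
      have := Nat.card_le_card_of_injective _ hinj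
      rw [Nat.card_prod, card_grp_four h hEc hE2 hd hE hD, hE] at this
      omega
    obtain ⟨f, hf, hfC, hf1⟩ := hnt
    rw [← fixedBy_eq h hE2 hD hf hf1]
    exact smul_eq_of_commute (hcomm f hfC)
  have hbij : Function.Bijective (fun p : ↥(grp E D) × ↥(grp E (s • D)) =>
      (⟨(p.1 : S) * p.2, mul_mem p.1.2.1 p.2.2.1⟩ : E)) :=
    Nat.bijective_iff_injective_and_card _ |>.2
      ⟨mul_injective h hEc hE2 hD hD' (Ne.symm hs), by
        rw [Nat.card_prod, card_grp_four h hEc hE2 hd hE hD,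
          card_grp_four h hEc hE2 hd hE hD', hE]⟩
  have hsplit : ∀ c ∈ C, ∃ a ∈ C ⊓ grp E D, ∃ b ∈ C ⊓ grp E (s • D), a * b = c := by
    intro c hc
    obtain ⟨⟨a, b⟩, hab⟩ := hbij.2 ⟨c, hc.1⟩
    have hab' : (a : S) * b = c := congrArg Subtype.val hab
    have hca : x * a * x⁻¹ ∈ grp E D := by
      have := conj_mem_grp a.2 x
      rwa [hstab D hD] at this
    have hcb : x * b * x⁻¹ ∈ grp E (s • D) := by
      have := conj_mem_grp b.2 x
      rwa [hstab _ hD'] at this
    have heq : (⟨x * a * x⁻¹, hca⟩, ⟨x * b * x⁻¹, hcb⟩) = (a, b) := by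
      refine hbij.1 (Subtype.ext ?_)
      show x * a * x⁻¹ * (x * b * x⁻¹) = (a : S) * b
      rw [show x * a * x⁻¹ * (x * b * x⁻¹) = x * ((a : S) * b) * x⁻¹ by group, hab',
        mul_inv_eq_iff_eq_mul]
      exact hcomm c hc
    obtain ⟨ha, hb⟩ := Prod.ext_iff.1 heq
    have ha' : x * a * x⁻¹ = (a : S) := congrArg Subtype.val ha
    have hb' : x * b * x⁻¹ = (b : S) := congrArg Subtype.val hb
    exact ⟨a, ⟨⟨a.2.1, mem_centralizer_singleton_iff.2 (mul_inv_eq_iff_eq_mul.1 ha').symm⟩, a.2⟩,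
      b, ⟨⟨b.2.1, mem_centralizer_singleton_iff.2 (mul_inv_eq_iff_eq_mul.1 hb').symm⟩, b.2⟩, hab'⟩
  choose A hA B hB hAB using hsplit
  have hCle : Nat.card C ≤ Nat.card ↥(C ⊓ grp E D) * Nat.card ↥(C ⊓ grp E (s • D)) := by
    rw [← Nat.card_prod]
    refine Nat.card_le_card_of_injective
      (fun c : C => (⟨A c c.2, hA c c.2⟩, ⟨B c c.2, hB c c.2⟩)) fun c c' hcc => ?_
    simp only [Prod.mk.injEq, Subtype.mk.injEq] at hcc
    exact Subtype.ext (by rw [← hAB c c.2, ← hAB c' c'.2, hcc.1, hcc.2])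
  have full : ∀ D : Set Ω, IsBlock E D → Nat.card ↥(C ⊓ grp E D) = 4 →
      ∀ f ∈ grp E D, x * f = f * x := by
    intro D hD h4 f hf
    have heq : C ⊓ grp E D = grp E D :=
      eq_of_le_of_card_ge inf_le_right (by rw [h4, card_grp_four h hEc hE2 hd hE hD])
    exact hcomm f ((heq.symm ▸ hf : f ∈ C ⊓ grp E D).1)
  have b1 : Nat.card ↥(C ⊓ grp E D) ≤ 4 :=
    (card_le_of_le inf_le_right).trans (card_grp_four h hEc hE2 hd hE hD).le
  have b2 : Nat.card ↥(C ⊓ grp E (s • D)) ≤ 4 :=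
    (card_le_of_le inf_le_right).trans (card_grp_four h hEc hE2 hd hE hD').le
  obtain ⟨n1, hn1⟩ := IsPGroup.iff_card.1 (h.pGroup.to_subgroup (C ⊓ grp E D))
  obtain ⟨n2, hn2⟩ := IsPGroup.iff_card.1 (h.pGroup.to_subgroup (C ⊓ grp E (s • D)))
  have : Nat.card ↥(C ⊓ grp E D) = 4 ∨ Nat.card ↥(C ⊓ grp E (s • D)) = 4 := by
    rw [hn1] at b1 hCle ⊢
    rw [hn2] at b2 hCle ⊢
    have : n1 ≤ 2 := (Nat.pow_le_pow_iff_right one_lt_two).1 (by simpa using b1)
    have : n2 ≤ 2 := (Nat.pow_le_pow_iff_right one_lt_two).1 (by simpa using b2)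
    interval_cases n1 <;> interval_cases n2 <;> norm_num at * <;> omega
  rcases this with h4 | h4
  · exact hxE (mem_of_centralizes h hEc hE2 hd hE hD hD' (Ne.symm hs) (full D hD h4) (hstab _ hD'))
  · exact hxE (mem_of_centralizes h hEc hE2 hd hE hD' hD hs (full _ hD' h4) (hstab _ hD))

/-- Fours: the rank is at most four. -/
theorem rank_sixteen (hd : Disj E Ω) (hE : Nat.card E = 16) {D : Set Ω} (hD : IsBlock E D) :
    Cfsg.SectionalPRankLE 2 4 S := by
  classical
  obtain ⟨ho2, ho4⟩ := card_orbit_le h hEc hE2 hd hE hD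
  have hst := card_stabilizer_le h hEc hE2 hd hE hD
  have hS : Nat.card (stabilizer S D) * Nat.card (orbit S D) = Nat.card S := by
    rw [Nat.card_coe_set_eq, ← index_stabilizer]
    exact card_mul_index _
  have hq : Nat.card (S ⧸ E) * 16 = Nat.card S := by
    rw [← hE]; exact (card_eq_card_quotient_mul_card_subgroup E).symm
  have hq8 : Nat.card (S ⧸ E) ≤ 8 := by
    have := Nat.mul_le_mul hst ho4
    omega
  refine rank_of_sixteen h.pGroup E hE hq8 (fun h8 => ?_)
    fun x hxE _ => card_centralizer_le_four h hEc hE2 hd hE hD hxE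
  by_contra hall
  push Not at hall
  have hO : Nat.card (orbit S D) = 4 ∧ Nat.card (stabilizer S D) = 32 := by
    constructor <;> nlinarith
  have hEle : E ≤ stabilizer S D := fun e he => smul_block hEc hD he
  obtain ⟨x, hx, hxE⟩ : ∃ x ∈ stabilizer S D, x ∉ E := by
    by_contra hno
    push Not at hno
    have := card_le_of_le (show stabilizer S D ≤ E from hno)
    omega
  have hstab : ∀ g : S, x • g • D = g • D := by
    intro g
    have hm : x⁻¹ * g⁻¹ * x * g ∈ E := by
      have := mul_mem (mul_mem (hall x⁻¹) (hall (x * g⁻¹))) (hall g)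
      simpa [pow_two, mul_assoc] using this
    have : g⁻¹ * x * g ∈ stabilizer S D := by
      have h2 := mul_mem hx (hEle hm)
      simpa [mul_assoc] using h2
    calc x • g • D = g • ((g⁻¹ * x * g) • D) := by
          rw [← mul_smul, ← mul_smul]; simp [mul_assoc]
      _ = g • D := by rw [this]
  have hblk : ∀ b : orbit S D, IsBlock E (b : Set Ω) ∧ x • (b : Set Ω) = b := fun b => by
    obtain ⟨g, hg⟩ := b.2
    rw [← hg]
    exact ⟨hD.smul g, hstab g⟩
  choose f hf hf1 hfx using fun b : orbit S D =>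
    exists_fixed_grp h hEc hE2 (hblk b).1 (hall x) (hblk b).2
  let C : Subgroup S := E ⊓ centralizer ({x} : Set S)
  let φ : orbit S D → {c : C // c ≠ 1} := fun b =>
    ⟨⟨f b, (hf b).1, mem_centralizer_singleton_iff.2 (hfx b)⟩,
      fun h1 => hf1 b (congrArg Subtype.val h1)⟩
  have hφ : Function.Injective φ := by
    intro b b' hbb
    have hv : f b = f b' := congrArg (fun z : {c : C // c ≠ 1} => ((z : C) : S)) hbb
    refine Subtype.ext ?_
    by_contra hne
    exact hf1 b (grp_inter h hE2 (hblk b).1 (hblk b').1 hne (hf b) (hv ▸ hf b'))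
  have hle := Nat.card_le_card_of_injective φ hφ
  haveI : Fintype C := Fintype.ofFinite _
  rw [hO.1, Nat.card_eq_fintype_card, Fintype.card_subtype_compl, Fintype.card_subtype_eq,
    ← Nat.card_eq_fintype_card] at hle
  have := card_centralizer_le_four h hEc hE2 hd hE hD hxE
  have hCC : Nat.card C = Nat.card ↥(E ⊓ centralizer ({x} : Set S)) := rfl
  omega

end CfsgLib.FixityFour.WF

namespace CfsgLib.FixityFour

open Subgroup MulAction CfsgLib.PGroups
open scoped Pointwise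

universe u v

/-- **Piece C2**, with the central case as a hypothesis. -/
theorem rank_of_fixed_normal_of_central {S : Type u} {Ω : Type v} [Group S] [Finite S]
    [MulAction S Ω] [Finite Ω]
    (hB : ∀ {z : S}, z ∈ center S → orderOf z = 2 → (fixedBy Ω z).Nonempty →
      ∀ {u : S}, orderOf u = 2 → (fixedBy Ω u).Nonempty → fixedBy Ω u ≠ fixedBy Ω z →
      ∀ E : Subgroup S, E.Normal → IsMulCommutative E → (∀ e ∈ E, e ^ 2 = 1) →
      8 ≤ Nat.card E → z ∈ E → Cfsg.SectionalPRankLE 2 4 S)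
    (h : TwoAct S Ω) (hm : Mixed S Ω) (E : Subgroup S) (hEn : E.Normal)
    (hEc : IsMulCommutative E) (hE2 : ∀ e ∈ E, e ^ 2 = 1) (hE8 : 8 ≤ Nat.card E)
    (hfix : ∃ e ∈ E, e ≠ 1 ∧ (fixedBy Ω e).Nonempty)
    (hmax : ∀ E' : Subgroup S, E'.Normal → IsMulCommutative E' → (∀ e ∈ E', e ^ 2 = 1) → E ≤ E' →
      E' = E) : Cfsg.SectionalPRankLE 2 4 S := by
  classical
  haveI := hEn
  haveI : Fact (Nat.Prime 2) := ⟨Nat.prime_two⟩
  by_cases hnb : ∃ D : Set Ω, WF.IsBlock E D ∧ ∀ s : S, s • D = D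
  · obtain ⟨D, hD, hinv⟩ := hnb
    set F := WF.grp E D with hF
    haveI : F.Normal := ⟨fun x hx s => by
      have := WF.conj_mem_grp hx s
      rwa [hinv s] at this⟩
    obtain ⟨x, hx, hx1⟩ := WF.grp_ne_bot h hE2 hD
    have hFz : F ⊓ center S ≠ ⊥ := inf_center_ne_bot h.pGroup
      (fun hb => hx1 (by rw [← mem_bot, ← hb]; exact hx))
    obtain ⟨⟨z, hzF, hzc⟩, hz1⟩ := (Subgroup.ne_bot_iff_exists_ne_one).1 hFz
    have hz1' : z ≠ 1 := fun hz => hz1 (Subtype.ext hz)
    have hzfix : fixedBy Ω z = D := WF.fixedBy_eq h hE2 hD hzF hz1'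
    have hzne : (fixedBy Ω z).Nonempty := by rw [hzfix]; exact hD.nonempty h hE2
    obtain ⟨a, b, ha, hb, haf, hbf, hne⟩ := hm
    by_cases haz : fixedBy Ω a = fixedBy Ω z
    · exact hB hzc (WF.orderOf_two hz1' (hE2 z hzF.1)) hzne hb hbf (fun hbz => hne (haz.trans hbz.symm))
        E hEn hEc hE2 hE8 hzF.1
    · exact hB hzc (WF.orderOf_two hz1' (hE2 z hzF.1)) hzne ha haf haz E hEn hEc hE2 hE8 hzF.1
  push Not at hnb
  obtain ⟨e, he, he1, hef⟩ := hfix
  have hD : WF.IsBlock E (fixedBy Ω e) := ⟨e, he, he1, hef, rfl⟩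
  by_cases hdisj : ∀ D D' : Set Ω, WF.IsBlock E D → WF.IsBlock E D' → D ≠ D' → Disjoint D D'
  · have hd : WF.Disj E Ω := ⟨hdisj, hnb⟩
    obtain ⟨s, hs⟩ := hnb _ hD
    have h1 := WF.card_E_le h hEc hE2 hd hD
    have h2 := WF.card_grp_le h hEc hE2 hd hD
    have h3 := WF.card_sq_le h hEc hE2 hD hs
    rcases WF.card_grp_even h hEc hE2 hD with h4 | h4
    · rw [h4] at h1
      have hE : Nat.card E = 8 := by omega
      exact Cfsg.Agent.S1232.result h.pGroup E ⟨hEc, hE2⟩ hE
        (WF.centralizer_eq_eight h hEc hE2 hd hmax hD hE h4)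
    · have h4' : Nat.card (WF.grp E (fixedBy Ω e)) = 4 := by omega
      rw [h4'] at h1 h3
      exact WF.rank_sixteen h hEc hE2 hd (by omega) hD
  · push Not at hdisj
    obtain ⟨D, D', hD, hD', hne, hmeet⟩ := hdisj
    obtain ⟨hC, hE⟩ := WF.centralizer_eq_of_meet h hEc hE2 hE8 hD hD' hne
      (by rw [Set.inter_comm]; exact Set.not_disjoint_iff_nonempty_inter.1 hmeet)
    exact Cfsg.Agent.S1232.result h.pGroup E ⟨hEc, hE2⟩ hE hC

end CfsgLib.FixityFour
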