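import Cfsg.Agent.Lib.FixityFour.Common
import Cfsg.Agent.S1232

/-!
# Fixity four: a normal elementary abelian group meeting a point stabiliser

The group is split along the four-point sets fixed by its non-identity elements (the blocks). Either
some block is normal and the central case applies, or the group is self-centralising and small.
-/

set_option autoImplicit false
set_option linter.unusedSectionVars false
set_option linter.style.haveILetI false

namespace CfsgLib.FixityFour.WF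

open Subgroup MulAction
open scoped Pointwise

variable {S Ω : Type*} [Group S] [MulAction S Ω]

/-- The elements of `E` fixing `D` pointwise. -/
def grp (E : Subgroup S) (D : Set Ω) : Subgroup S := E ⊓ fixingSubgroup S D

/-- A fixed point set of a non-identity element of `E`. -/
def IsBlock (E : Subgroup S) (D : Set Ω) : Prop :=
  ∃ e ∈ E, e ≠ 1 ∧ (fixedBy Ω e).Nonempty ∧ fixedBy Ω e = D

theorem mem_grp {E : Subgroup S} {D : Set Ω} {x : S} :
    x ∈ grp E D ↔ x ∈ E ∧ ∀ d ∈ D, x • d = d := by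
  rw [grp, mem_inf, mem_fixingSubgroup_iff]

theorem orderOf_two {x : S} (h1 : x ≠ 1) (h2 : x ^ 2 = 1) : orderOf x = 2 :=
  orderOf_eq_prime h2 h1

theorem smul_eq_of_commute {x e : S} (hc : x * e = e * x) : x • fixedBy Ω e = fixedBy Ω e :=
  CfsgLib.FixityFour.smul_fixedBy_of_commute (g := e) (c := x) hc

theorem smul_mem_of_stab {x : S} {D : Set Ω} (hx : x • D = D) {d : Ω} (hd : d ∈ D) : x • d ∈ D :=
  hx ▸ Set.smul_mem_smul_set hd

variable {E : Subgroup S}

theorem IsBlock.smul {D : Set Ω} (hD : IsBlock E D) [hEn : E.Normal] (s : S) :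
    IsBlock E (s • D) := by
  obtain ⟨e, he, hne, ⟨d, hd⟩, rfl⟩ := hD
  refine ⟨s * e * s⁻¹, hEn.conj_mem e he s, fun h1 => hne (conj_eq_one_iff.1 h1), ?_,
    fixedBy_conj e s⟩
  rw [fixedBy_conj]
  exact ⟨s • d, Set.smul_mem_smul_set hd⟩

theorem conj_mem_grp [hEn : E.Normal] {D : Set Ω} {x : S} (hx : x ∈ grp E D) (s : S) :
    s * x * s⁻¹ ∈ grp E (s • D) := by
  rw [mem_grp] at hx ⊢
  refine ⟨hEn.conj_mem x hx.1 s, ?_⟩
  rintro _ ⟨d, hd, rfl⟩
  show (s * x * s⁻¹) • (s • d) = s • d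
  rw [mul_smul, mul_smul, inv_smul_smul, hx.2 d hd]

theorem card_grp_smul [E.Normal] (D : Set Ω) (s : S) :
    Nat.card ↥(grp E (s • D)) = Nat.card ↥(grp E D) := by
  refine Nat.card_congr
    { toFun := fun x => ⟨s⁻¹ * x.1 * s, ?_⟩
      invFun := fun x => ⟨s * x.1 * s⁻¹, conj_mem_grp x.2 s⟩
      left_inv := fun x => Subtype.ext (by simp [mul_assoc])
      right_inv := fun x => Subtype.ext (by simp [mul_assoc]) }
  have h := conj_mem_grp x.2 s⁻¹
  rwa [inv_inv, inv_smul_smul] at h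

theorem smul_block (hEc : IsMulCommutative E) {D : Set Ω} (hD : IsBlock E D) {x : S} (hx : x ∈ E) :
    x • D = D := by
  obtain ⟨e, he, -, -, rfl⟩ := hD
  exact smul_eq_of_commute (congrArg Subtype.val (hEc.is_comm.comm ⟨x, hx⟩ ⟨e, he⟩))

theorem smul_block_centralizer {D : Set Ω} (hD : IsBlock E D) {x : S}
    (hx : x ∈ centralizer (E : Set S)) : x • D = D := by
  obtain ⟨e, he, -, -, rfl⟩ := hD
  exact smul_eq_of_commute (mem_centralizer_iff.1 hx e he).symm

section Act

variable [Finite S] [Finite Ω] (h : TwoAct S Ω) (hE2 : ∀ e ∈ E, e ^ 2 = 1)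
include h hE2

theorem IsBlock.ncard_eq {D : Set Ω} (hD : IsBlock E D) : D.ncard = 4 := by
  obtain ⟨e, he, hne, hf, rfl⟩ := hD
  exact h.invFour e (orderOf_two hne (hE2 e he)) hf

theorem IsBlock.nonempty {D : Set Ω} (hD : IsBlock E D) : D.Nonempty := by
  obtain ⟨e, he, hne, hf, rfl⟩ := hD
  exact hf

theorem fixedBy_eq {D : Set Ω} (hD : IsBlock E D) {x : S} (hx : x ∈ grp E D) (h1 : x ≠ 1) :
    fixedBy Ω x = D := by
  refine (Set.eq_of_subset_of_ncard_le (subset_fixedBy_of_mem_fixing hx.2) ?_ (Set.toFinite _)).symm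
  rw [hD.ncard_eq h hE2]
  exact h.fix_le x h1

theorem fixedBy_eq_of_meet {D : Set Ω} {e : S} (he : e ∈ E) (hne : e ≠ 1) {d : Ω}
    (hd : e • d = d) (hdis : ∀ D', IsBlock E D' → D' ≠ D → Disjoint D' D) (hdD : d ∈ D) :
    e ∈ grp E D := by
  have hb : IsBlock E (fixedBy Ω e) := ⟨e, he, hne, ⟨d, hd⟩, rfl⟩
  by_cases hq : fixedBy Ω e = D
  · exact ⟨he, hq ▸ mem_fixing_fixedBy e⟩
  · exact absurd hdD (Set.disjoint_left.1 (hdis _ hb hq) hd)

theorem grp_inter {D D' : Set Ω} (hD : IsBlock E D) (hD' : IsBlock E D') (hne : D ≠ D') {x : S}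
    (hx : x ∈ grp E D) (hx' : x ∈ grp E D') : x = 1 := by
  by_contra h1
  exact hne ((fixedBy_eq h hE2 hD hx h1).symm.trans (fixedBy_eq h hE2 hD' hx' h1))

theorem grp_ne_bot {D : Set Ω} (hD : IsBlock E D) : ∃ x ∈ grp E D, x ≠ 1 := by
  obtain ⟨e, he, hne, -, rfl⟩ := hD
  exact ⟨e, ⟨he, mem_fixing_fixedBy e⟩, hne⟩

theorem one_of_fix {D : Set Ω} (hD : IsBlock E D) {k : S} (hk : k ∈ fixingSubgroup S D) {d : Ω}
    (hd : d ∉ D) (hkd : k • d = d) : k = 1 :=
  eq_one_of_fix_more h.fix_le (hD.ncard_eq h hE2) hk hd hkd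

/-- A subgroup fixing a block pointwise has at most as many elements as a stable set outside. -/
theorem card_le_of_fixing {D : Set Ω} (hD : IsBlock E D) (K : Subgroup S)
    (hK : K ≤ fixingSubgroup S D) {T : Set Ω} (hT : ∀ k ∈ K, ∀ c ∈ T, k • c ∈ T) {d : Ω}
    (hdT : d ∈ T) (hdD : d ∉ D) : Nat.card K ≤ T.ncard := by
  rw [← Nat.card_coe_set_eq]
  refine Nat.card_le_card_of_injective (fun k => ⟨(k : S) • d, hT k k.2 d hdT⟩) fun a b hab => ?_
  have hab' : (a : S) • d = (b : S) • d := congrArg Subtype.val hab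
  have h1 : ((b : S)⁻¹ * a) • d = d := by rw [mul_smul, hab', inv_smul_smul]
  exact Subtype.ext (inv_mul_eq_one.1
    (one_of_fix h hE2 hD (hK (mul_mem (inv_mem b.2) a.2)) hdD h1)).symm

end Act

section Orbit

variable [Finite S] [Finite Ω]

/-- A group leaving a four-point set invariant whose point stabiliser fixes it pointwise. -/
theorem card_le_four_mul (A F : Subgroup S) {D : Set Ω} (hD : D.ncard = 4)
    (hA : ∀ a ∈ A, a • D = D) {d : Ω} (hd : d ∈ D) (hF : ∀ a ∈ A, a • d = d → a ∈ F) :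
    Nat.card A ≤ 4 * Nat.card F := by
  have e := card_mul_index (stabilizer A d)
  rw [index_stabilizer] at e
  have h1 : Nat.card (stabilizer A d) ≤ Nat.card F := by
    refine Nat.card_le_card_of_injective (fun x => ⟨((x : A) : S), hF _ (x : A).2 x.2⟩) ?_
    intro a b hab
    exact Subtype.ext (Subtype.ext (congrArg Subtype.val hab :))
  have h2 : (orbit A d).ncard ≤ 4 := by
    rw [← hD]
    refine Set.ncard_le_ncard ?_ (Set.toFinite _)
    rintro _ ⟨a, rfl⟩
    exact smul_mem_of_stab (hA a a.2) hd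
  calc Nat.card A = Nat.card (stabilizer A d) * (orbit A d).ncard := e.symm
    _ ≤ Nat.card F * 4 := Nat.mul_le_mul h1 h2
    _ = _ := mul_comm _ _

/-- Transitivity on a four-point set by counting. -/
theorem transitive_of_card (A F : Subgroup S) {D : Set Ω} (hD : D.ncard = 4)
    (hA : ∀ a ∈ A, a • D = D) {d : Ω} (hd : d ∈ D) (hF : ∀ a ∈ A, a • d = d → a ∈ F)
    (hc : 4 * Nat.card F ≤ Nat.card A) {c : Ω} (hcD : c ∈ D) : ∃ a ∈ A, a • d = c := by
  have e := card_mul_index (stabilizer A d)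
  rw [index_stabilizer] at e
  have h1 : Nat.card (stabilizer A d) ≤ Nat.card F := by
    refine Nat.card_le_card_of_injective (fun x => ⟨((x : A) : S), hF _ (x : A).2 x.2⟩) ?_
    intro a b hab
    exact Subtype.ext (Subtype.ext (congrArg Subtype.val hab :))
  have hsub : orbit A d ⊆ D := by
    rintro _ ⟨a, rfl⟩
    exact smul_mem_of_stab (hA a a.2) hd
  have heq : orbit A d = D := by
    refine Set.eq_of_subset_of_ncard_le hsub ?_ (Set.toFinite _)
    rw [hD]
    by_contra hlt
    have hp : 0 < Nat.card (stabilizer A d) := Nat.card_pos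
    nlinarith
  rw [← heq] at hcD
  obtain ⟨a, ha⟩ := hcD
  exact ⟨a, a.2, ha⟩

/-- An element commuting with a transitive set of elements and fixing one point fixes all. -/
theorem fixing_of_commute (A : Subgroup S) {D : Set Ω} {d : Ω}
    (htr : ∀ c ∈ D, ∃ a ∈ A, a • d = c) {y : S} (hy : ∀ a ∈ A, y * a = a * y)
    (hyd : y • d = d) : y ∈ fixingSubgroup S D := by
  rw [mem_fixingSubgroup_iff]
  intro c hc
  obtain ⟨a, ha, rfl⟩ := htr c hc
  rw [← mul_smul, hy a ha, mul_smul, hyd]

end Orbit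

section Main

variable [Finite S] [Finite Ω] (h : TwoAct S Ω) [hEn : E.Normal] (hEc : IsMulCommutative E)
  (hE2 : ∀ e ∈ E, e ^ 2 = 1)
include h hEc hE2

theorem comm {x y : S} (hx : x ∈ E) (hy : y ∈ E) : x * y = y * x :=
  congrArg Subtype.val (hEc.is_comm.comm ⟨x, hx⟩ ⟨y, hy⟩)

theorem inv_eq {x : S} (hx : x ∈ E) : x⁻¹ = x :=
  inv_eq_of_mul_eq_one_right (by rw [← sq]; exact hE2 x hx)

theorem le_centralizer' : E ≤ centralizer (E : Set S) :=
  fun x hx => mem_centralizer_iff.2 fun _ he => comm h hEc hE2 he hx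

/-- A stable finite set without fixed points of a nontrivial involution has even order. -/
theorem two_dvd_of_free {x : S} (hx : x ^ 2 = 1) {T : Set Ω} (hT : ∀ c ∈ T, x • c ∈ T)
    (hfree : ∀ c ∈ T, x • c ≠ c) : 2 ∣ T.ncard := by
  haveI : Fact (Nat.Prime 2) := ⟨Nat.prime_two⟩
  let σ : Equiv.Perm T :=
    { toFun := fun c => ⟨x • (c : Ω), hT c c.2⟩
      invFun := fun c => ⟨x • (c : Ω), hT c c.2⟩
      left_inv := fun c => Subtype.ext (by
        show x • x • (c : Ω) = c
        rw [← mul_smul, ← sq, hx, one_smul])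
      right_inv := fun c => Subtype.ext (by
        show x • x • (c : Ω) = c
        rw [← mul_smul, ← sq, hx, one_smul]) }
  classical
  haveI : Fintype T := Fintype.ofFinite _
  have hσ : σ ^ 2 ^ 1 = 1 := by
    refine Equiv.ext fun c => Subtype.ext ?_
    show x • x • (c : Ω) = c
    rw [← mul_smul, ← sq, hx, one_smul]
  have hsupp : σ.supportᶜ = ∅ := by
    refine Finset.eq_empty_of_forall_notMem fun c hc => ?_
    rw [Finset.mem_compl, Equiv.Perm.mem_support, not_not] at hc
    exact hfree c c.2 (congrArg Subtype.val hc)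
  have h1 := Equiv.Perm.card_compl_support_modEq hσ
  rw [hsupp, Finset.card_empty] at h1
  rw [← Nat.card_coe_set_eq, Nat.card_eq_fintype_card]
  exact Nat.modEq_zero_iff_dvd.1 h1.symm

/-- Two blocks meet in a pair, and then `E` is its own centraliser of order eight. -/
theorem centralizer_eq_of_meet (hE8 : 8 ≤ Nat.card E) {D D' : Set Ω} (hD : IsBlock E D)
    (hD' : IsBlock E D') (hne : D ≠ D') (hmeet : (D' ∩ D).Nonempty) :
    centralizer (E : Set S) = E ∧ Nat.card E = 8 := by
  have h4 := hD.ncard_eq h hE2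
  have h4' := hD'.ncard_eq h hE2
  set I := D ∩ D' with hI
  have hIne : I.Nonempty := by rwa [hI, Set.inter_comm]
  obtain ⟨t, ht, ht1⟩ := grp_ne_bot h hE2 hD
  obtain ⟨t', ht', ht1'⟩ := grp_ne_bot h hE2 hD'
  have hstab : ∀ x ∈ centralizer (E : Set S), x • I = I ∧ x • (D \ D') = D \ D' ∧
      x • (D' \ D) = D' \ D := by
    intro x hx
    rw [hI, Set.smul_set_inter, Set.smul_set_sdiff, Set.smul_set_sdiff,
      smul_block_centralizer hD hx, smul_block_centralizer hD' hx]
    exact ⟨rfl, rfl, rfl⟩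
  have hCle := le_centralizer' h hEc hE2
  have hd1 : 2 ∣ (D \ D').ncard := by
    refine two_dvd_of_free h hEc hE2 (hE2 t' (mem_grp.1 ht').1)
      (fun c hc => smul_mem_of_stab (hstab t' (hCle (mem_grp.1 ht').1)).2.1 hc) ?_
    intro c hc hfix
    exact ht1' (one_of_fix h hE2 hD' ht'.2 hc.2 hfix)
  have hd2 : 2 ∣ (D' \ D).ncard := by
    refine two_dvd_of_free h hEc hE2 (hE2 t (mem_grp.1 ht).1)
      (fun c hc => smul_mem_of_stab (hstab t (hCle (mem_grp.1 ht).1)).2.2 hc) ?_
    intro c hc hfix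
    exact ht1 (one_of_fix h hE2 hD ht.2 hc.2 hfix)
  have e1 : I.ncard + (D \ D').ncard = 4 := by
    rw [hI, Set.ncard_inter_add_ncard_sdiff_eq_ncard D D' (Set.toFinite _), h4]
  have e2 : (D' ∩ D).ncard + (D' \ D).ncard = 4 := by
    rw [Set.ncard_inter_add_ncard_sdiff_eq_ncard D' D (Set.toFinite _), h4']
  rw [Set.inter_comm, ← hI] at e2
  have hI0 : 0 < I.ncard := hIne.ncard_pos (Set.toFinite _)
  have hA0 : 0 < (D \ D').ncard := by
    by_contra h0
    have : I.ncard = 4 := by omega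
    exact hne ((Set.eq_of_subset_of_ncard_le (Set.inter_subset_left (t := D'))
      (by rw [← hI, h4, this]) (Set.toFinite _)).symm.trans
      (Set.eq_of_subset_of_ncard_le (Set.inter_subset_right (s := D))
      (by rw [← hI, h4', this]) (Set.toFinite _)))
  have hI2 : I.ncard = 2 ∧ (D \ D').ncard = 2 ∧ (D' \ D).ncard = 2 := by omega
  obtain ⟨a, ha⟩ := hIne
  obtain ⟨b, hb⟩ : (D \ D').Nonempty := Set.nonempty_of_ncard_ne_zero (by omega)
  obtain ⟨c, hc⟩ : (D' \ D).Nonempty := Set.nonempty_of_ncard_ne_zero (by omega)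
  let f : centralizer (E : Set S) → I × ↥(D \ D') × ↥(D' \ D) := fun x =>
    (⟨(x : S) • a, smul_mem_of_stab (hstab x x.2).1 ha⟩,
      ⟨(x : S) • b, smul_mem_of_stab (hstab x x.2).2.1 hb⟩,
      ⟨(x : S) • c, smul_mem_of_stab (hstab x x.2).2.2 hc⟩)
  have hf : Function.Injective f := by
    intro x y hxy
    simp only [f, Prod.mk.injEq, Subtype.mk.injEq] at hxy
    obtain ⟨hxa, hxb, hxc⟩ := hxy
    set k : S := (y : S)⁻¹ * x with hk
    have hkC : k ∈ centralizer (E : Set S) := mul_mem (inv_mem y.2) x.2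
    have hka : k • a = a := by rw [hk, mul_smul, hxa, inv_smul_smul]
    have hkb : k • b = b := by rw [hk, mul_smul, hxb, inv_smul_smul]
    have hkc : k • c = c := by rw [hk, mul_smul, hxc, inv_smul_smul]
    have pair : ∀ T : Set Ω, T.ncard = 2 → k • T = T → ∀ q ∈ T, k • q = q → ∀ r ∈ T, k • r = r := by
      intro T hT hkT q hq hkq r hr
      by_cases hrq : r = q
      · rw [hrq]; exact hkq
      have hrT := smul_mem_of_stab hkT hr
      by_contra hkr
      have hsub : ({q, r, k • r} : Set Ω) ⊆ T := by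
        rintro z (rfl | rfl | rfl) <;> assumption
      have h3 : ({q, r, k • r} : Set Ω).ncard = 3 := by
        rw [Set.ncard_insert_of_notMem (by
          simp only [Set.mem_insert_iff, Set.mem_singleton_iff, not_or]
          refine ⟨Ne.symm hrq, fun hq' => hrq (smul_left_cancel k ?_)⟩
          rw [hkq]; exact hq'.symm) (Set.toFinite _),
          Set.ncard_pair (fun h' => hkr h'.symm)]
      have := Set.ncard_le_ncard hsub (Set.toFinite _)
      omega
    have hfixD : k ∈ fixingSubgroup S D := by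
      rw [mem_fixingSubgroup_iff]
      intro r hr
      by_cases hr' : r ∈ D'
      · exact pair I hI2.1 (hstab k hkC).1 a ha hka r ⟨hr, hr'⟩
      · exact pair (D \ D') hI2.2.1 (hstab k hkC).2.1 b hb hkb r ⟨hr, hr'⟩
    exact Subtype.ext (inv_mul_eq_one.1 (one_of_fix h hE2 hD hfixD hc.2 hkc)).symm
  have hC8 : Nat.card (centralizer (E : Set S)) ≤ 8 := by
    refine (Nat.card_le_card_of_injective f hf).trans ?_
    rw [Nat.card_prod, Nat.card_prod, Nat.card_coe_set_eq, Nat.card_coe_set_eq,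
      Nat.card_coe_set_eq, hI2.1, hI2.2.1, hI2.2.2]
  refine ⟨(eq_of_le_of_card_ge hCle (hC8.trans hE8)).symm, ?_⟩
  have := Subgroup.card_le_of_le hCle
  omega

end Main

end CfsgLib.FixityFour.WF
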